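import Groth.Agent.Lib.LCI6.Syntomic
import Groth.Agent.Lib.LCI6.Cancel
import Groth.Agent.Lib.Synt6.Descent
import Groth.Agent.Lib.Smoothing.NilDeform
import Groth.Agent.Lib.KoszulFwd
import Mathlib.RingTheory.Flat.Localization
import Mathlib.RingTheory.Ideal.Cotangent

/-!
# Regularity and flatness of relative global complete intersections
-/

set_option autoImplicit false

universe u

open IsLocalRing RingTheory.Sequence MvPolynomial TensorProduct

namespace GrothLib.RelGCIReg

/-- Regularity transfers along ring isomorphisms. -/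
theorem isRegular_ringEquiv {A B : Type u} [CommRing A] [CommRing B] (e : A ≃+* B) (l : List A)
    (h : IsRegular A l) : IsRegular B (l.map e) :=
  (AddEquiv.isRegular_congr (e := e.toAddEquiv) (List.forall₂_map_right_iff.mpr
    (List.forall₂_same.mpr fun r _ x => e.map_mul r x))).mp h

/-- A sequence cutting down the dimension by its length is regular in the local rings it meets. -/
theorem isRegular_atPrime_of_dim {k : Type u} [Field k] {n c : ℕ} (hc : c ≤ n)
    (r : Fin c → MvPolynomial (Fin n) k)
    (hdim : ringKrullDim (MvPolynomial (Fin n) k ⧸ Ideal.span (Set.range r)) ≤ ((n - c : ℕ) : WithBot ℕ∞))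
    (p : Ideal (MvPolynomial (Fin n) k)) [p.IsPrime] (hrp : Ideal.span (Set.range r) ≤ p) :
    IsRegular (Localization.AtPrime p) ((List.ofFn r).map (algebraMap _ (Localization.AtPrime p))) := by
  let P := MvPolynomial (Fin n) k
  let L := Localization.AtPrime p
  let I := Ideal.span (Set.range r)
  let p₀ : Ideal (P ⧸ I) := p.map (Ideal.Quotient.mk I)
  haveI : p₀.IsPrime := Ideal.map_isPrime_of_surjective Ideal.Quotient.mk_surjective (by rwa [Ideal.mk_ker])
  have hq : (p₀.height : WithBot ℕ∞) + ringKrullDim ((P ⧸ I) ⧸ p₀) ≤ ringKrullDim (P ⧸ I) :=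
    GrothLib.AffDom.height_add_ringKrullDim_quotient_le p₀
  have hp' : (p.height : WithBot ℕ∞) + ringKrullDim (P ⧸ p) = (n : WithBot ℕ∞) := by
    rw [GrothLib.AffDom.height_add_ringKrullDim_quotient k P p, MvPolynomial.ringKrullDim_of_isNoetherianRing,
      ringKrullDim_eq_zero_of_field]
    simp
  have heq : ringKrullDim ((P ⧸ I) ⧸ p₀) = ringKrullDim (P ⧸ p) :=
    ringKrullDim_eq_of_ringEquiv ((DoubleQuot.quotQuotEquivQuotSup I p).trans
      (Ideal.quotEquivOfEq (sup_eq_right.mpr hrp)))
  rw [heq] at hq
  replace hq := hq.trans hdim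
  obtain ⟨h, hh⟩ := GrothLib.LCI6.height_ne_top p
  obtain ⟨a, ha⟩ := GrothLib.LCI6.height_ne_top p₀
  obtain ⟨d, -, hd⟩ := GrothLib.Dim.exists_nat_trdeg_eq_and_ringKrullDim_eq (k := k) (A := P ⧸ p)
  rw [ha, hd] at hq
  rw [hh, hd] at hp'
  have hq' : a + d ≤ n - c := by
    simp only [← WithBot.coe_natCast, ← WithBot.coe_add, WithBot.coe_le_coe] at hq
    exact_mod_cast hq
  have hp'' : h + d = n := by exact_mod_cast hp'
  have hIl : Ideal.ofList ((List.ofFn r).map (algebraMap P L)) = I.map (algebraMap P L) := by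
    rw [← Ideal.map_ofList]
    congr 1
    simp [Ideal.ofList, I, List.mem_ofFn, Set.range]
    try rfl
  have hne : Ideal.ofList ((List.ofFn r).map (algebraMap P L)) ≠ ⊤ := fun htop => by
    refine (maximalIdeal.isMaximal L).ne_top (top_unique (htop ▸ ?_))
    rw [hIl, ← Localization.AtPrime.map_eq_maximalIdeal]
    exact Ideal.map_mono hrp
  haveI : IsRegularLocalRing L := inferInstance
  refine GrothLib.CMFree.isRegular_of_ringKrullDim_quotient L _ hne ?_
  rw [hIl, GrothLib.LCI6.ringKrullDim_localization_quotient I p hrp,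
    IsLocalization.AtPrime.ringKrullDim_eq_height p L, ha, hh, List.length_map, List.length_ofFn]
  exact_mod_cast (show a + c ≤ h by omega)

variable {R : Type u} [CommRing R] {n c : ℕ}

theorem isRelGCI_of_range_eq {F G : Fin c → MvPolynomial (Fin n) R}
    (e : Ideal.span (Set.range F) = Ideal.span (Set.range G)) (h : Synt.IsRelGCI R n c F) :
    Synt.IsRelGCI R n c G := by
  unfold Synt.IsRelGCI Synt.RelGCIRing at h ⊢
  rwa [← e]

theorem isRelGCI_rev {F : Fin c → MvPolynomial (Fin n) R} (h : Synt.IsRelGCI R n c F) :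
    Synt.IsRelGCI R n c (F ∘ Fin.rev) :=
  isRelGCI_of_range_eq (by rw [Function.Surjective.range_comp Fin.rev_surjective]) h

section

variable (F : Fin c → MvPolynomial (Fin n) R) (p : Ideal (MvPolynomial (Fin n) R)) [p.IsPrime]

/-- The images of the equations in the local ring. -/
noncomputable def locSeq : Fin c → Localization.AtPrime p :=
  fun i => algebraMap (MvPolynomial (Fin n) R) (Localization.AtPrime p) (F i)

/-- The equations are regular on the fibre. -/
theorem isRegular_fibre (h : Synt.IsRelGCI R n c F) (hp : Ideal.span (Set.range F) ≤ p) :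
    IsRegular (Localization.AtPrime p ⧸ LCI6.fibreMax R p)
      ((List.ofFn (locSeq F p)).map (Ideal.Quotient.mk (LCI6.fibreMax R p))) := by
  let P := MvPolynomial (Fin n) R
  let r := p.comap (algebraMap R P)
  let κ := r.ResidueField
  let q₁ := PrimeSpectrum.preimageEquivFiber R P ⟨r, inferInstance⟩ ⟨⟨p, inferInstance⟩, rfl⟩
  have hq₁ : q₁.asIdeal.comap Algebra.TensorProduct.includeRight.toRingHom = p :=
    congrArg (fun z => z.1.asIdeal)
      ((PrimeSpectrum.preimageEquivFiber R P ⟨r, inferInstance⟩).symm_apply_apply ⟨⟨p, inferInstance⟩, rfl⟩)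
  obtain ⟨e, he⟩ := LCI6.exists_fibre_equiv r q₁.asIdeal p hq₁
  let Q := MvPolynomial (Fin n) κ
  let ε : r.Fiber P ≃ₐ[κ] Q := MvPolynomial.algebraTensorAlgEquiv R κ
  let F' : Fin c → Q := fun i => MvPolynomial.map (algebraMap R κ) (F i)
  have hεF : ∀ i, ε.symm (F' i) = (1 : κ) ⊗ₜ[R] F i := fun i =>
    MvPolynomial.algebraTensorAlgEquiv_symm_map R κ (F i)
  let q' : Ideal Q := q₁.asIdeal.comap (ε.symm : Q →+* r.Fiber P)
  haveI : q'.IsPrime := Ideal.IsPrime.comap _
  have hq' : Ideal.span (Set.range F') ≤ q' := by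
    rw [Ideal.span_le]
    rintro _ ⟨i, rfl⟩
    show ε.symm (F' i) ∈ q₁.asIdeal
    rw [hεF]
    have : F i ∈ p := hp (Ideal.subset_span ⟨i, rfl⟩)
    rwa [← hq₁] at this
  -- dimension of the fibre
  let eF := GrothLib.Synt6.relGCIBaseChange R κ F F' fun _ => rfl
  have hq'top : Ideal.span (Set.range F') ≠ ⊤ :=
    ne_top_of_le_ne_top (Ideal.IsPrime.ne_top (I := q') inferInstance) hq'
  haveI : Nontrivial (Synt.RelGCIRing κ n c F') := Ideal.Quotient.nontrivial_iff.mpr hq'top
  haveI : Nontrivial (r.Fiber (Synt.RelGCIRing R n c F)) := eF.toEquiv.nontrivial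
  obtain ⟨hcn, hdim⟩ := h ⟨r, inferInstance⟩ inferInstance
  have hdim' : ringKrullDim (Q ⧸ Ideal.span (Set.range F')) = ((n - c : ℕ) : WithBot ℕ∞) :=
    (ringKrullDim_eq_of_ringEquiv eF.toRingEquiv).symm.trans hdim
  have hreg := isRegular_atPrime_of_dim hcn F' hdim'.le q' hq'
  let ψ : Localization.AtPrime q' ≃+* Localization.AtPrime q₁.asIdeal :=
    IsLocalization.ringEquivOfRingEquiv (Localization.AtPrime q') (Localization.AtPrime q₁.asIdeal)
      ε.symm.toRingEquiv (M := q'.primeCompl) (T := q₁.asIdeal.primeCompl) (by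
        ext x
        constructor
        · rintro ⟨y, hy, rfl⟩
          exact hy
        · intro hx
          exact ⟨ε x, fun hy => hx (by simpa [q'] using hy), ε.symm_apply_apply x⟩)
  have h2 := isRegular_ringEquiv (ψ.trans e) _ hreg
  rw [List.map_map, List.map_ofFn] at h2
  rw [List.map_ofFn]
  have hfun : (Ideal.Quotient.mk (LCI6.fibreMax R p)) ∘ locSeq F p =
      ((ψ.trans e) ∘ algebraMap Q (Localization.AtPrime q')) ∘ F' := by
    funext i
    show _ = e (ψ (algebraMap Q (Localization.AtPrime q') (F' i)))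
    rw [IsLocalization.ringEquivOfRingEquiv_eq]
    show _ = e (algebraMap _ _ (ε.symm (F' i)))
    rw [hεF, he]
    rfl
  rw [hfun]
  exact h2

/-- The local ring over the base ring of the local ring of the base. -/
theorem flat_aeval_locSeq (h : Synt.IsRelGCI R n c F) (hp : Ideal.span (Set.range F) ≤ p) {m : ℕ}
    (hm : m ≤ c) :
    (MvPolynomial.aeval (R := R) (locSeq F p ∘ Fin.castLE hm)).toRingHom.Flat := by
  let P := MvPolynomial (Fin n) R
  let r := p.comap (algebraMap R P)
  let Rr := Localization.AtPrime r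
  let L := Localization.AtPrime p
  letI := (Localization.localRingHom r p (algebraMap R P) rfl).toAlgebra
  haveI : IsLocalHom (algebraMap Rr L) := Localization.isLocalHom_localRingHom r p (algebraMap R P) rfl
  haveI : IsScalarTower R Rr L := IsScalarTower.of_algebraMap_eq fun x => by
    show _ = Localization.localRingHom r p (algebraMap R P) rfl (algebraMap R Rr x)
    rw [Localization.localRingHom_to_map, ← IsScalarTower.algebraMap_apply]
  have hS : CAlgX.IsEssFinitePresentation Rr L :=
    GrothLib.FibreFlat.isEssFinitePresentation_localization r.primeCompl p.primeCompl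
  haveI : Module.Flat P L := IsLocalization.flat L p.primeCompl
  haveI : Module.Flat R L := Module.Flat.trans R P L
  haveI : Module.Flat Rr L := (Module.flat_iff_of_isLocalization Rr r.primeCompl _).mpr inferInstance
  have e : (maximalIdeal Rr).map (algebraMap Rr L) = LCI6.fibreMax R p := by
    rw [← Localization.AtPrime.map_eq_maximalIdeal (I := r), Ideal.map_map, ← IsScalarTower.algebraMap_eq,
      IsScalarTower.algebraMap_eq R P L, ← Ideal.map_map]
  have hreg := isRegular_fibre F p h hp
  have hpre : IsRegular (L ⧸ LCI6.fibreMax R p)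
      ((List.ofFn (locSeq F p ∘ Fin.castLE hm)).map (Ideal.Quotient.mk (LCI6.fibreMax R p))) := by
    have htake : List.ofFn (locSeq F p ∘ Fin.castLE hm) = (List.ofFn (locSeq F p)).take m := by
      apply List.ext_getElem
      · simp [hm]
      · intro i h1 h2
        simp
    rw [htake, List.map_take]
    set l := (List.ofFn (locSeq F p)).map (Ideal.Quotient.mk (LCI6.fibreMax R p)) with hl
    have hsplit : l.take m ++ l.drop m = l := List.take_append_drop m l
    refine ⟨((isWeaklyRegular_append_iff _ (l.take m) (l.drop m)).mp (hsplit.symm ▸ hreg.1)).1,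
      fun htop => hreg.2 (top_unique ?_).symm⟩
    refine htop.le.trans (Submodule.smul_mono ?_ le_rfl)
    exact Ideal.span_mono fun x hx => List.mem_of_mem_take hx
  have hflat : (MvPolynomial.aeval (R := Rr) (locSeq F p ∘ Fin.castLE hm)).toRingHom.Flat :=
    GrothLib.FibreFlat.flat_aeval_of_fibre_regular hS _ (LCI6.isRegular_quot_congr e.symm _ hpre)
  have hcomp : (MvPolynomial.aeval (R := R) (locSeq F p ∘ Fin.castLE hm)).toRingHom =
      (MvPolynomial.aeval (R := Rr) (locSeq F p ∘ Fin.castLE hm)).toRingHom.comp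
        (MvPolynomial.map (algebraMap R Rr)) := by
    refine MvPolynomial.ringHom_ext (fun t => ?_) fun i => ?_
    · simp [← IsScalarTower.algebraMap_apply]
    · simp
  have hmap : (MvPolynomial.map (σ := Fin m) (algebraMap R Rr)).Flat := by
    letI := MvPolynomial.algebraMvPolynomial (σ := Fin m) (R := R) (S := Rr)
    haveI : Module.Flat R Rr := IsLocalization.flat Rr r.primeCompl
    exact Module.Flat.isBaseChange R (MvPolynomial (Fin m) R) Rr (MvPolynomial (Fin m) Rr)
      (inferInstance : Algebra.IsPushout R (MvPolynomial (Fin m) R) Rr (MvPolynomial (Fin m) Rr)).out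
  rw [hcomp]
  exact hmap.comp hflat

theorem isRegular_atPrime (h : Synt.IsRelGCI R n c F) (hp : Ideal.span (Set.range F) ≤ p) :
    IsRegular (Localization.AtPrime p) (List.ofFn (locSeq F p)) := by
  refine ⟨GrothLib.FibreFlat.weaklyRegular_of_flat_aeval (R := R)
    (flat_aeval_locSeq F p h hp (le_refl c)), fun htop => ?_⟩
  rw [smul_eq_mul, Ideal.mul_top] at htop
  refine (maximalIdeal.isMaximal (Localization.AtPrime p)).ne_top (top_unique (htop.le.trans ?_))
  rw [Ideal.ofList, Ideal.span_le]
  intro x hx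
  obtain ⟨i, rfl⟩ := List.mem_ofFn.mp hx
  rw [← Localization.AtPrime.map_eq_maximalIdeal]
  exact Ideal.mem_map_of_mem _ (hp (Ideal.subset_span ⟨i, rfl⟩))

theorem flat_quotient_atPrime (h : Synt.IsRelGCI R n c F) (hp : Ideal.span (Set.range F) ≤ p) {m : ℕ}
    (hm : m ≤ c) :
    Module.Flat R (Localization.AtPrime p ⧸ Ideal.span (Set.range (locSeq F p ∘ Fin.castLE hm))) := by
  let L := Localization.AtPrime p
  let T := MvPolynomial (Fin m) R
  let a := locSeq F p ∘ Fin.castLE hm
  letI : Algebra T L := (MvPolynomial.aeval (R := R) a).toRingHom.toAlgebra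
  haveI : IsScalarTower R T L :=
    IsScalarTower.of_algebraMap_eq fun x => ((MvPolynomial.aeval (R := R) a).commutes x).symm
  haveI : Module.Flat T L := flat_aeval_locSeq F p h hp hm
  let K : Ideal T := Ideal.span (Set.range X)
  have hK : K.map (algebraMap T L) = Ideal.span (Set.range a) := by
    rw [Ideal.map_span, ← Set.range_comp]
    exact congrArg Ideal.span (congrArg Set.range (funext fun i => MvPolynomial.aeval_X a i))
  haveI : Module.Flat (T ⧸ K) (L ⧸ K.map (algebraMap T L)) := Smoothing.flat_quotient_map (Λ := L) K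
  have hbij : Function.Bijective (algebraMap R (T ⧸ K)) := by
    have hker : K ≤ RingHom.ker (MvPolynomial.eval (0 : Fin m → R)) := Ideal.span_le.mpr (by
      rintro _ ⟨i, rfl⟩
      exact MvPolynomial.eval_X (f := (0 : Fin m → R)) i)
    refine ⟨fun x y hxy => ?_, fun z => ?_⟩
    · have := hker ((Ideal.Quotient.eq).mp hxy)
      rw [RingHom.mem_ker, map_sub, sub_eq_zero] at this
      exact (MvPolynomial.eval_C (f := (0 : Fin m → R)) x).symm.trans (this.trans (MvPolynomial.eval_C y))
    · obtain ⟨z, rfl⟩ := Ideal.Quotient.mk_surjective z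
      induction z using MvPolynomial.induction_on with
      | C a => exact ⟨a, rfl⟩
      | add f g hf hg =>
        obtain ⟨u, hu⟩ := hf
        obtain ⟨v, hv⟩ := hg
        exact ⟨u + v, by rw [map_add, hu, hv, map_add]⟩
      | mul_X f i hf =>
        refine ⟨0, ?_⟩
        rw [map_zero, eq_comm, Ideal.Quotient.eq_zero_iff_mem]
        exact Ideal.mul_mem_left _ _ (Ideal.subset_span ⟨i, rfl⟩)
  haveI : Module.Flat R (T ⧸ K) :=
    Module.Flat.of_linearEquiv (LinearEquiv.ofBijective (Algebra.linearMap R (T ⧸ K)) hbij).symm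
  haveI : IsScalarTower R (T ⧸ K) (L ⧸ K.map (algebraMap T L)) :=
    IsScalarTower.of_algebraMap_eq (R := R) (S := T ⧸ K) (A := L ⧸ K.map (algebraMap T L)) fun x => by
      show Ideal.Quotient.mk _ (algebraMap R L x) = Ideal.Quotient.mk _ (algebraMap T L (algebraMap R T x))
      rw [← IsScalarTower.algebraMap_apply]
  haveI : Module.Flat R (L ⧸ K.map (algebraMap T L)) := Module.Flat.trans R (T ⧸ K) _
  exact Module.Flat.of_linearEquiv
    (Ideal.quotientEquivAlgOfEq R hK).toLinearEquiv.symm

end

variable (F : Fin c → MvPolynomial (Fin n) R)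

theorem flat (h : Synt.IsRelGCI R n c F) : Module.Flat R (Synt.RelGCIRing R n c F) := by
  let P := MvPolynomial (Fin n) R
  let J := Ideal.span (Set.range F)
  let B := P ⧸ J
  show Module.Flat R B
  refine Module.flat_of_isLocalized_maximal B B (fun M _ => Localization.AtPrime M)
    (fun M _ => Algebra.linearMap B (Localization.AtPrime M)) fun M _ => ?_
  let p := M.comap (Ideal.Quotient.mk J)
  haveI : p.IsPrime := Ideal.IsPrime.comap _
  have hp : J ≤ p := fun x hx => by
    rw [Ideal.mem_comap, Ideal.Quotient.eq_zero_iff_mem.mpr hx]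
    exact M.zero_mem
  let L := Localization.AtPrime p
  haveI := flat_quotient_atPrime F p h hp (le_refl c)
  have hJ : J.map (algebraMap P L) = Ideal.span (Set.range (locSeq F p ∘ Fin.castLE (le_refl c))) := by
    rw [Ideal.map_span, ← Set.range_comp]
    exact congrArg Ideal.span (congrArg Set.range (funext fun i => rfl))
  haveI : Module.Flat R (L ⧸ J.map (algebraMap P L)) :=
    Module.Flat.of_linearEquiv (Ideal.quotientEquivAlgOfEq R hJ).toLinearEquiv
  have hM : Algebra.algebraMapSubmonoid B p.primeCompl = M.primeCompl := by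
    ext z
    obtain ⟨y, rfl⟩ := Ideal.Quotient.mk_surjective z
    constructor
    · rintro ⟨w, hw, hwy⟩ hy
      exact hw (show Ideal.Quotient.mk J w ∈ M from hwy.symm ▸ hy)
    · intro hy
      exact ⟨y, hy, rfl⟩
  haveI : IsLocalization.AtPrime (L ⧸ J.map (algebraMap P L)) M := by
    have : IsLocalization (Algebra.algebraMapSubmonoid B p.primeCompl) (L ⧸ J.map (algebraMap P L)) :=
      inferInstance
    rwa [hM] at this
  haveI : IsScalarTower R B (L ⧸ J.map (algebraMap P L)) := IsScalarTower.to₁₃₄ R P B _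
  exact Module.Flat.of_linearEquiv
    ((IsLocalization.algEquiv M.primeCompl (Localization.AtPrime M)
      (L ⧸ J.map (algebraMap P L))).restrictScalars R).toLinearEquiv

theorem isKoszulRegularSeq (h : Synt.IsRelGCI R n c F) :
    LCI.IsKoszulRegularSeq (MvPolynomial (Fin n) R) (List.ofFn F) := by
  refine GrothLib.KoszulColon.isKoszulRegularSeq_of_localized _ fun p _ hp => ?_
  rw [List.map_ofFn]
  refine GrothLib.KoszulFwd.isKoszulRegularSeq_of_isWeaklyRegular _ (isRegular_atPrime F p h ?_).1
  refine le_trans (le_of_eq ?_) hp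
  simp [Ideal.ofList, List.mem_ofFn, Set.range]

theorem cotangent_basis (h : Synt.IsRelGCI R n c F) :
    LinearIndependent (Synt.RelGCIRing R n c F)
        (fun i : Fin c => (Ideal.span (Set.range F)).toCotangent ⟨F i, Ideal.subset_span (Set.mem_range_self i)⟩) ∧
      Submodule.span (Synt.RelGCIRing R n c F) (Set.range
        (fun i : Fin c => (Ideal.span (Set.range F)).toCotangent
          ⟨F i, Ideal.subset_span (Set.mem_range_self i)⟩)) = ⊤ := by
  let J := Ideal.span (Set.range F)
  let b : Fin c → J := fun i => ⟨F i, Ideal.subset_span (Set.mem_range_self i)⟩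
  have hH1 := GrothLib.LCI6.isH1Regular_ofFn F (isKoszulRegularSeq F h)
  refine ⟨?_, ?_⟩
  · rw [Fintype.linearIndependent_iff]
    intro g hg i
    choose t ht using fun i => Ideal.Quotient.mk_surjective (g i)
    have hsum : J.toCotangent (∑ i, t i • b i) = 0 := by
      rw [map_sum, ← hg]
      refine Finset.sum_congr rfl fun j _ => ?_
      rw [map_smul, ← ht j]
      rfl
    rw [Ideal.toCotangent_eq_zero, AddSubmonoidClass.coe_finset_sum] at hsum
    have hsq : ∑ i, t i * F i ∈ J * J := by rw [← pow_two]; simpa [b] using hsum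
    have hexp : ∀ z ∈ J * J, ∃ j : Fin c → MvPolynomial (Fin n) R, (∀ i, j i ∈ J) ∧ z = ∑ i, j i * F i := by
      intro z hz
      induction hz using Submodule.mul_induction_on' with
      | mem_mul_mem u hu v hv =>
        obtain ⟨w, hw⟩ := (Ideal.mem_span_range_iff_exists_fun).mp hv
        refine ⟨fun i => u * w i, fun i => Ideal.mul_mem_right _ _ hu, ?_⟩
        rw [← hw, Finset.mul_sum]
        simp [mul_assoc]
      | add u _ v _ hu hv =>
        obtain ⟨j, hj, rfl⟩ := hu
        obtain ⟨j', hj', rfl⟩ := hv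
        exact ⟨j + j', fun i => add_mem (hj i) (hj' i), by simp [add_mul, Finset.sum_add_distrib]⟩
    obtain ⟨j, hj, hje⟩ := hexp _ hsq
    have hrel : ∑ i, (t i - j i) * F i = 0 := by
      simp [sub_mul, Finset.sum_sub_distrib, hje]
    have hmem : ∀ v ∈ Submodule.span (MvPolynomial (Fin n) R)
        {v : Fin c → MvPolynomial (Fin n) R | ∃ i j : Fin c, v = Pi.single i (F j) - Pi.single j (F i)},
        ∀ i, v i ∈ J := by
      intro v hv
      induction hv using Submodule.span_induction with
      | mem v hv =>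
        obtain ⟨a, a', rfl⟩ := hv
        intro i
        refine sub_mem ?_ ?_
        · by_cases hi : i = a
          · subst hi; rw [Pi.single_eq_same]; exact Ideal.subset_span ⟨a', rfl⟩
          · rw [Pi.single_eq_of_ne hi]; exact J.zero_mem
        · by_cases hi : i = a'
          · subst hi; rw [Pi.single_eq_same]; exact Ideal.subset_span ⟨a, rfl⟩
          · rw [Pi.single_eq_of_ne hi]; exact J.zero_mem
      | zero => exact fun i => J.zero_mem
      | add _ _ _ _ ha hb => exact fun i => add_mem (ha i) (hb i)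
      | smul r _ _ ha => exact fun i => J.smul_mem r (ha i)
    rw [← ht i, Ideal.Quotient.eq_zero_iff_mem]
    simpa using add_mem (hmem _ (hH1 _ hrel) i) (hj i)
  · rw [eq_top_iff]
    intro z _
    obtain ⟨⟨y, hy⟩, rfl⟩ := J.toCotangent_surjective z
    obtain ⟨w, hw⟩ := (Ideal.mem_span_range_iff_exists_fun).mp hy
    have : (⟨y, hy⟩ : J) = ∑ i, w i • b i := Subtype.ext (by
      rw [AddSubmonoidClass.coe_finsetSum]
      show y = _
      rw [← hw]
      simp [b])
    rw [this, map_sum]
    refine Submodule.sum_mem _ fun i _ => ?_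
    rw [map_smul]
    exact Submodule.smul_mem (Submodule.span (MvPolynomial (Fin n) R ⧸ J) (Set.range fun i => J.toCotangent (b i)))
      (Ideal.Quotient.mk J (w i)) (Submodule.subset_span (Set.mem_range_self i))

theorem isSyntomic (h : Synt.IsRelGCI R n c F) : Synt.IsSyntomic R (Synt.RelGCIRing R n c F) := by
  let P := MvPolynomial (Fin n) R
  let J := Ideal.span (Set.range F)
  refine GrothLib.LCI6.isSyntomic_iff.mpr ⟨flat F h, inferInstance, n, Ideal.Quotient.mkₐ R J,
    Ideal.Quotient.mk_surjective, ?_⟩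
  rw [show RingHom.ker (Ideal.Quotient.mkₐ R J).toRingHom = J from Ideal.mk_ker]
  intro p hp
  refine ⟨1, fun h1 => p.2.ne_top ((Ideal.eq_top_iff_one _).mpr h1),
    (List.ofFn F).map (algebraMap P (Localization.Away (1 : P))),
    GrothLib.KoszulColon.isKoszulRegularSeq_map _ ?_ _ (isKoszulRegularSeq F h), ?_⟩
  · exact RingHom.flat_algebraMap_iff.mpr (IsLocalization.flat _ (Submonoid.powers (1 : P)))
  · rw [Ideal.map_span, ← Set.range_comp, List.map_ofFn]
    simp [Set.range, Function.comp_def, List.mem_ofFn]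
    try rfl

end GrothLib.RelGCIReg
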