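import Groth.Agent.Lib.RelGCIReg.Basic
import Mathlib.RingTheory.AdjoinRoot
import Mathlib.RingTheory.Flat.FaithfullyFlat.Basic
import Mathlib.RingTheory.IntegralClosure.IsIntegralClosure.Basic

/-!
# Finite square presentations are relative global complete intersections
-/

set_option autoImplicit false

universe u

open MvPolynomial TensorProduct

namespace GrothLib.RelGCIReg

theorem ringKrullDim_eq_zero_of_finite (k S : Type u) [Field k] [CommRing S] [Algebra k S] [Module.Finite k S]
    [Nontrivial S] : ringKrullDim S = 0 := by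
  haveI : IsArtinianRing S := IsArtinianRing.of_finite k S
  exact ringKrullDimZero_iff_ringKrullDim_eq_zero.mp inferInstance

theorem isRelGCI_of_finite {R : Type u} [CommRing R] {n : ℕ} (F : Fin n → MvPolynomial (Fin n) R)
    [Module.Finite R (Synt.RelGCIRing R n n F)] : Synt.IsRelGCI R n n F := by
  intro p hp
  refine ⟨le_rfl, ?_⟩
  haveI := hp
  haveI : Module.Finite p.asIdeal.ResidueField (p.asIdeal.Fiber (Synt.RelGCIRing R n n F)) :=
    inferInstanceAs (Module.Finite p.asIdeal.ResidueField (p.asIdeal.ResidueField ⊗[R] _))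
  rw [Nat.sub_self]
  exact ringKrullDim_eq_zero_of_finite p.asIdeal.ResidueField (p.asIdeal.Fiber (Synt.RelGCIRing R n n F))

theorem isSyntomic_of_algEquiv {R S S' : Type u} [CommRing R] [CommRing S] [CommRing S'] [Algebra R S]
    [Algebra R S'] (e : S ≃ₐ[R] S') (h : Synt.IsSyntomic R S) : Synt.IsSyntomic R S' := by
  rw [LCI6.isSyntomic_iff] at h ⊢
  haveI := h.1
  exact ⟨Module.Flat.of_linearEquiv e.symm.toLinearEquiv, LCI6.isLCI_of_algEquiv e h.2⟩

theorem isSyntomic_comp {R S T : Type u} [CommRing R] [CommRing S] [CommRing T] [Algebra R S] [Algebra R T]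
    [Algebra S T] [IsScalarTower R S T] (h₁ : Synt.IsSyntomic R S) (h₂ : Synt.IsSyntomic S T) :
    Synt.IsSyntomic R T := by
  rw [LCI6.isSyntomic_iff] at h₁ h₂ ⊢
  haveI := h₁.1
  haveI := h₂.1
  exact ⟨Module.Flat.trans R S T, LCI6.isLCI_comp h₁.2 h₂.2⟩

theorem isSyntomic_self (R : Type u) [CommRing R] : Synt.IsSyntomic R R :=
  LCI6.isSyntomic_iff.mpr ⟨inferInstance, LCI6.isLCI_of_smooth R R⟩

theorem isSyntomic_of_finite_presentation {R B : Type u} [CommRing R] [CommRing B] [Algebra R B]
    [Module.Finite R B] {n : ℕ} (F : Fin n → MvPolynomial (Fin n) R) (e : B ≃ₐ[R] Synt.RelGCIRing R n n F) :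
    Synt.IsSyntomic R B := by
  haveI : Module.Finite R (Synt.RelGCIRing R n n F) := Module.Finite.equiv e.toLinearEquiv
  exact isSyntomic_of_algEquiv e.symm (isSyntomic F (isRelGCI_of_finite F))

theorem isSyntomic_adjoinRoot {A : Type u} [CommRing A] (P : Polynomial A) (hP : P.Monic) :
    Synt.IsSyntomic A (AdjoinRoot P) := by
  haveI : Module.Finite A (AdjoinRoot P) := hP.finite_adjoinRoot
  let ε : MvPolynomial (Fin 1) A ≃ₐ[A] Polynomial A := MvPolynomial.uniqueAlgEquiv A (Fin 1)
  refine isSyntomic_of_finite_presentation (fun _ => ε.symm P) ?_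
  refine Ideal.quotientEquivAlg _ _ ε.symm ?_
  rw [Ideal.map_span]
  simp

theorem faithfullyFlat_adjoinRoot {A : Type u} [CommRing A] (P : Polynomial A) (hP : P.Monic)
    (hdeg : 0 < P.natDegree) : Module.FaithfullyFlat A (AdjoinRoot P) := by
  haveI : Nonempty (Fin (AdjoinRoot.powerBasis' hP).dim) := ⟨⟨0, hdeg⟩⟩
  exact Module.FaithfullyFlat.of_linearEquiv A _ (AdjoinRoot.powerBasis' hP).basis.repr

/-- A monic polynomial splits over a syntomic finite free algebra. -/
theorem exists_splitting {A : Type u} [CommRing A] : ∀ (d : ℕ) (P : Polynomial A), P.Monic → P.natDegree = d →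
    ∃ (A' : Type u) (_ : CommRing A') (_ : Algebra A A'),
      Synt.IsSyntomic A A' ∧ Module.Finite A A' ∧ Module.Free A A' ∧ Module.FaithfullyFlat A A' ∧
        ∃ s : Multiset A', P.map (algebraMap A A') = (s.map fun b => Polynomial.X - Polynomial.C b).prod := by
  intro d
  induction d generalizing A with
  | zero =>
    intro P hP hd
    exact ⟨A, inferInstance, Algebra.id A, isSyntomic_self A, inferInstance, inferInstance, inferInstance, 0,
      by simp [(Polynomial.Monic.natDegree_eq_zero hP).mp hd]⟩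
  | succ d ih =>
    intro P hP hd
    cases subsingleton_or_nontrivial A with
    | inl hA =>
      exact ⟨A, inferInstance, Algebra.id A, isSyntomic_self A, inferInstance, inferInstance, inferInstance, 0,
        Subsingleton.elim _ _⟩
    | inr hA =>
    let A₁ := AdjoinRoot P
    haveI : Module.Finite A A₁ := hP.finite_adjoinRoot
    haveI : Module.Free A A₁ := hP.free_adjoinRoot
    haveI := faithfullyFlat_adjoinRoot P hP (by omega)
    haveI : Nonempty (Fin (AdjoinRoot.powerBasis' hP).dim) := ⟨⟨0, by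
      show 0 < P.natDegree
      omega⟩⟩
    haveI : Nontrivial A₁ := (AdjoinRoot.powerBasis' hP).basis.repr.toEquiv.nontrivial
    let P₁ := P.map (algebraMap A A₁)
    have hroot : P₁.IsRoot (AdjoinRoot.root P) := by
      show (P.map (algebraMap A A₁)).IsRoot (AdjoinRoot.root P)
      rw [AdjoinRoot.algebraMap_eq]
      exact AdjoinRoot.isRoot_root P
    obtain ⟨Q, hQ⟩ := (Polynomial.dvd_iff_isRoot).mpr hroot
    have hQm : Q.Monic := (Polynomial.monic_X_sub_C (AdjoinRoot.root P)).of_mul_monic_left (hQ ▸ hP.map _)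
    have hQd : Q.natDegree = d := by
      have h1 : P₁.natDegree = d + 1 := by rw [hP.natDegree_map, hd]
      rw [hQ, (Polynomial.monic_X_sub_C _).natDegree_mul hQm, Polynomial.natDegree_X_sub_C] at h1
      omega
    obtain ⟨A', _, _, hs, hfin, hfree, hff, s, hs'⟩ := ih Q hQm hQd
    letI : Algebra A A' := ((algebraMap A₁ A').comp (algebraMap A A₁)).toAlgebra
    haveI : IsScalarTower A A₁ A' := IsScalarTower.of_algebraMap_eq fun _ => rfl
    refine ⟨A', inferInstance, inferInstance, isSyntomic_comp (isSyntomic_adjoinRoot P hP) hs,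
      Module.Finite.trans A₁ A', Module.Free.trans (S := A₁), Module.FaithfullyFlat.trans A A₁ A',
      algebraMap A₁ A' (AdjoinRoot.root P) ::ₘ s, ?_⟩
    rw [Multiset.map_cons, Multiset.prod_cons, ← hs', IsScalarTower.algebraMap_eq A A₁ A', ← Polynomial.map_map]
    show P₁.map _ = _
    rw [hQ, Polynomial.map_mul]
    simp

end GrothLib.RelGCIReg
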