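import Groth.Agent.Lib.RelGCIReg.Local
import Groth.Agent.Lib.RelGCIReg.Finite
import Groth.Agent.Lib.LCI6.InLocus
import Groth.Prelude.Def_RegImm
import Mathlib.RingTheory.RingHom.Flat

/-!
# Syntomic morphisms on affine charts
-/

set_option autoImplicit false

universe u

open AlgebraicGeometry CategoryTheory

namespace GrothLib.RelGCIReg

/-- Flat and LCI, as a property of ring maps. -/
def FlatLCI {A B : Type u} [CommRing A] [CommRing B] (f : A →+* B) : Prop :=
  f.Flat ∧ LCI6.LCIHom f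

/-- A syntomic map of rings, as a property of ring maps. -/
def SyntHom {A B : Type u} [CommRing A] [CommRing B] (f : A →+* B) : Prop :=
  letI := f.toAlgebra
  Synt.IsSyntomic A B

theorem syntHom_iff {A B : Type u} [CommRing A] [CommRing B] (f : A →+* B) : SyntHom f ↔ FlatLCI f := by
  letI := f.toAlgebra
  exact LCI6.isSyntomic_iff

theorem syntHom_comp {A B C : Type u} [CommRing A] [CommRing B] [CommRing C] (f : A →+* B) (g : B →+* C)
    (hf : SyntHom f) (hg : SyntHom g) : SyntHom (g.comp f) := by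
  letI := f.toAlgebra
  letI := g.toAlgebra
  letI := (g.comp f).toAlgebra
  haveI : IsScalarTower A B C := IsScalarTower.of_algebraMap_eq' rfl
  exact isSyntomic_comp (R := A) (S := B) (T := C) hf hg

theorem syntHom_of_bijective {A B : Type u} [CommRing A] [CommRing B] (f : A →+* B)
    (hf : Function.Bijective f) : SyntHom f := by
  letI := f.toAlgebra
  exact isSyntomic_of_algEquiv (AlgEquiv.ofBijective (Algebra.ofId A B) hf) (isSyntomic_self A)

theorem flatLCI_stableUnderCompositionWithLocalizationAwayTarget :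
    RingHom.StableUnderCompositionWithLocalizationAwayTarget @FlatLCI := by
  intro R S T _ _ _ _ s _ f hf
  exact ⟨RingHom.Flat.comp hf.1 (RingHom.Flat.holdsForLocalizationAway _ s),
    LCI6.lciHom_stableUnderCompositionWithLocalizationAwayTarget T s f hf.2⟩

theorem flatLCI_localizationAwayPreserves : RingHom.LocalizationAwayPreserves @FlatLCI := by
  intro R S _ _ f r R' S' _ _ _ _ _ _ hf
  exact ⟨(RingHom.LocalizationPreserves.away RingHom.Flat.isStableUnderBaseChange.localizationPreserves)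
      f r R' S' hf.1, LCI6.lciHom_localizationAwayPreserves f r R' S' hf.2⟩

/-- A morphism syntomic at `x` is given by a syntomic ring map near `x` on any pair of affine opens. -/
theorem exists_syntHom {X Y : Scheme.{u}} {f : X ⟶ Y} {x : X} (h : Synt.IsSyntomicAt f x) {U : X.Opens}
    {V : Y.Opens} (hU : IsAffineOpen U) (hV : IsAffineOpen V) (hUV : U ≤ f ⁻¹ᵁ V) (hx : x ∈ U) :
    ∃ s : Γ(X, U), x ∈ X.basicOpen s ∧
      SyntHom (f.appLE V (X.basicOpen s) ((X.basicOpen_le s).trans hUV)).hom := by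
  obtain ⟨U₀, V₀, e₀, hx₀, hs₀⟩ := h
  obtain ⟨r, s, hxs, e, hP⟩ := exists_basicOpen_le_appLE_of_appLE_of_isAffine
    flatLCI_stableUnderCompositionWithLocalizationAwayTarget flatLCI_localizationAwayPreserves x
    ⟨V, hV⟩ V₀ ⟨U, hU⟩ U₀ hx hx₀ e₀ ((syntHom_iff _).mp hs₀) (hUV hx)
  haveI := hV.isLocalization_basicOpen r
  refine ⟨s, hxs, (syntHom_iff _).mpr ?_⟩
  letI := (f.appLE (Y.basicOpen r) (X.basicOpen s) e).hom.toAlgebra
  letI : Algebra Γ(Y, V) Γ(X, X.basicOpen s) :=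
    (f.appLE V (X.basicOpen s) ((X.basicOpen_le s).trans hUV)).hom.toAlgebra
  have heq : (f.appLE V (X.basicOpen s) ((X.basicOpen_le s).trans hUV)).hom =
      (f.appLE (Y.basicOpen r) (X.basicOpen s) e).hom.comp (algebraMap Γ(Y, V) Γ(Y, Y.basicOpen r)) := by
    show _ = (f.appLE (Y.basicOpen r) (X.basicOpen s) e).hom.comp
      (Y.presheaf.map (homOfLE (Y.basicOpen_le r)).op).hom
    rw [← CommRingCat.hom_comp, Scheme.Hom.map_appLE]
  refine ⟨heq ▸ RingHom.Flat.comp (RingHom.Flat.holdsForLocalizationAway _ r) hP.1, ?_⟩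
  haveI : IsScalarTower Γ(Y, V) Γ(Y, Y.basicOpen r) Γ(X, X.basicOpen s) :=
    IsScalarTower.of_algebraMap_eq' heq
  exact LCI6.isLCI_comp (Cc := Γ(Y, Y.basicOpen r)) (LCI6.isLCI_away r _) hP.2

theorem isStandardSyntomic_resLE {X S : Scheme.{u}} (f : X ⟶ S) {U : X.Opens} {V : S.Opens} (hU : IsAffineOpen U)
    (hV : IsAffineOpen V) (e : U ≤ f ⁻¹ᵁ V) {n c : ℕ} (F : Fin c → MvPolynomial (Fin n) Γ(S, V))
    (hF : Synt.IsRelGCI Γ(S, V) n c F) (ε : Γ(X, U) ≃+* Synt.RelGCIRing Γ(S, V) n c F)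
    (hε : ∀ a, ε (f.appLE V U e a) = algebraMap Γ(S, V) _ a) :
    Synt.IsStandardSyntomic (f.resLE V U e) := by
  refine ⟨Γ(S, V), inferInstance, n, c, F, hF,
    hU.isoSpec ≪≫ Scheme.Spec.mapIso ε.symm.toCommRingCatIso.op, hV.isoSpec, ?_⟩
  rw [Iso.trans_hom, Category.assoc]
  show hU.isoSpec.hom ≫ Spec.map (ε.symm.toCommRingCatIso.hom) ≫ _ = f.resLE V U e ≫ hV.isoSpec.hom
  rw [← Spec.map_comp, IsAffineOpen.isoSpec_hom, IsAffineOpen.isoSpec_hom, ← Scheme.Opens.toSpecΓ_SpecMap_appLE]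
  congr 2
  ext a
  show ε.symm (algebraMap Γ(S, V) _ a) = f.appLE V U e a
  rw [← hε, RingEquiv.symm_apply_apply]

theorem isSyntomicAt_of_isStandardSyntomic {X S : Scheme.{u}} (f : X ⟶ S) {U : X.Opens} {V : S.Opens}
    (hU : IsAffineOpen U) (hV : IsAffineOpen V) (e : U ≤ f ⁻¹ᵁ V) (h : Synt.IsStandardSyntomic (f.resLE V U e))
    (x : X) (hx : x ∈ U) : Synt.IsSyntomicAt f x := by
  obtain ⟨R, _, n, c, F, hF, e₁, e₂, he⟩ := h
  refine ⟨⟨U, hU⟩, ⟨V, hV⟩, e, hx, ?_⟩
  let φ := CommRingCat.ofHom (algebraMap R (Synt.RelGCIRing R n c F))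
  have happ : f.appLE V U e =
      (V.topIso.inv ≫ e₂.inv.appTop ≫ (Scheme.ΓSpecIso (CommRingCat.of R)).hom) ≫ φ ≫
        ((Scheme.ΓSpecIso _).inv ≫ e₁.hom.appTop ≫ U.topIso.hom) := by
    have h1 := congrArg Scheme.Hom.appTop he
    rw [Scheme.Hom.comp_appTop, Scheme.Hom.comp_appTop] at h1
    have h2 : (f.resLE V U e).appTop = e₂.inv.appTop ≫ (Spec.map φ).appTop ≫ e₁.hom.appTop := by
      rw [h1, ← Category.assoc, ← Scheme.Hom.comp_appTop, Iso.hom_inv_id]
      exact (Category.id_comp _).symm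
    have h3 : f.appLE V U e = V.topIso.inv ≫ (f.resLE V U e).appTop ≫ U.topIso.hom := by
      show _ = V.topIso.inv ≫ (f.resLE V U e).app ⊤ ≫ U.topIso.hom
      have gen : ∀ {A B C D : CommRingCat.{u}} (a : A ≅ B) (b : C ≅ D) (φ : B ⟶ D),
          φ = a.inv ≫ (a.hom ≫ φ ≫ b.inv) ≫ b.hom := fun a b φ => by simp
      rw [Scheme.Hom.resLE_app_top]
      exact gen V.topIso U.topIso _
    rw [h3, h2]
    simp only [Category.assoc]
    rw [reassoc_of% (Scheme.ΓSpecIso_inv_naturality φ)]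
    simp
  show SyntHom (f.appLE V U e).hom
  rw [happ, CommRingCat.hom_comp, CommRingCat.hom_comp]
  have bij : ∀ {A B : CommRingCat.{u}} (g : A ⟶ B) [IsIso g], SyntHom g.hom := fun g _ =>
    syntHom_of_bijective _ (ConcreteCategory.bijective_of_isIso g)
  haveI : IsIso e₂.inv.appTop := (inferInstance : IsIso (e₂.inv.app ⊤))
  haveI : IsIso e₁.hom.appTop := (inferInstance : IsIso (e₁.hom.app ⊤))
  haveI : IsIso (V.topIso.inv ≫ e₂.inv.appTop ≫ (Scheme.ΓSpecIso (CommRingCat.of R)).hom) :=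
    IsIso.comp_isIso' inferInstance (IsIso.comp_isIso' inferInstance inferInstance)
  haveI : IsIso ((Scheme.ΓSpecIso (CommRingCat.of (Synt.RelGCIRing R n c F))).inv ≫ e₁.hom.appTop ≫ U.topIso.hom) :=
    IsIso.comp_isIso' inferInstance (IsIso.comp_isIso' inferInstance inferInstance)
  refine syntHom_comp _ _ (bij _) (syntHom_comp _ _ ?_ (bij _))
  show SyntHom (algebraMap R (Synt.RelGCIRing R n c F))
  unfold SyntHom
  convert isSyntomic F hF using 1
  exact Algebra.algebra_ext _ _ fun r => rfl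

theorem exists_standard_nhd {X S : Scheme.{u}} (f : X ⟶ S) (x : X) (h : Synt.IsSyntomicAt f x) {V : S.Opens}
    (hV : IsAffineOpen V) (hx : f x ∈ V) :
    ∃ (U : X.affineOpens) (e : U.1 ≤ f ⁻¹ᵁ V), x ∈ U.1 ∧ Synt.IsStandardSyntomic (f.resLE V U.1 e) := by
  obtain ⟨U₁, hU₁, hx₁, hUV⟩ := LCI6.exists_affine_le (x := x) (O := f ⁻¹ᵁ V) hx
  obtain ⟨s, hxs, hs⟩ := exists_syntHom h hU₁ hV hUV hx₁
  let W := X.basicOpen s
  have hW : IsAffineOpen W := hU₁.basicOpen s
  have eW : W ≤ f ⁻¹ᵁ V := (X.basicOpen_le s).trans hUV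
  letI := (f.appLE V W eW).hom.toAlgebra
  obtain ⟨g, hg, n, c, F, hF, ⟨ε⟩⟩ := exists_relGCI_away (hs : Synt.IsSyntomic Γ(S, V) Γ(X, W))
    (hW.primeIdealOf ⟨x, hxs⟩).asIdeal
  haveI := hW.isLocalization_basicOpen g
  have e : X.basicOpen g ≤ f ⁻¹ᵁ V := (X.basicOpen_le g).trans eW
  let e₀ := IsLocalization.algEquiv (Submonoid.powers g) Γ(X, X.basicOpen g) (Localization.Away g)
  refine ⟨⟨X.basicOpen g, hW.basicOpen g⟩, e, (LCI6.mem_basicOpen_iff_notMem hW hxs g).mpr hg,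
    isStandardSyntomic_resLE f (hW.basicOpen g) hV e F hF (e₀.toRingEquiv.trans ε.toRingEquiv) fun a => ?_⟩
  show ε (e₀ (f.appLE V (X.basicOpen g) e a)) = _
  rw [show f.appLE V (X.basicOpen g) e a = algebraMap Γ(X, W) Γ(X, X.basicOpen g) (algebraMap Γ(S, V) Γ(X, W) a) from
    (congrArg (fun h => h a) (Scheme.Hom.appLE_map f eW (homOfLE (X.basicOpen_le g)).op)).symm,
    AlgEquiv.commutes, ← IsScalarTower.algebraMap_apply, ε.commutes]

end GrothLib.RelGCIReg
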