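import Groth.Agent.Lib.RelGCIReg.Basic
import Groth.Agent.Lib.LCI6.UpDown
import Mathlib.RingTheory.LocalProperties.Projective
import Mathlib.RingTheory.LocalProperties.FinitePresentation

/-!
# The conormal module of a presentation of a syntomic algebra is projective
-/

set_option autoImplicit false

universe u

open MvPolynomial

namespace GrothLib.RelGCIReg

/-- Coefficients of a relation modulo the square lie in the ideal. -/
theorem mem_of_sum_mul_mem_sq {P : Type u} [CommRing P] {c : ℕ} (x : Fin c → P) (hx : CAlgX.IsH1Regular x)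
    (a : Fin c → P) (h : ∑ i, a i * x i ∈ Ideal.span (Set.range x) * Ideal.span (Set.range x)) (i : Fin c) :
    a i ∈ Ideal.span (Set.range x) := by
  let J := Ideal.span (Set.range x)
  have hexp : ∀ z ∈ J * J, ∃ j : Fin c → P, (∀ i, j i ∈ J) ∧ z = ∑ i, j i * x i := by
    intro z hz
    induction hz using Submodule.mul_induction_on' with
    | mem_mul_mem u hu v hv =>
      obtain ⟨w, hw⟩ := (Ideal.mem_span_range_iff_exists_fun).mp hv
      refine ⟨fun i => u * w i, fun i => Ideal.mul_mem_right _ _ hu, ?_⟩
      rw [← hw, Finset.mul_sum]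
      simp [mul_assoc]
    | add u _ v _ hu hv =>
      obtain ⟨j, hj, rfl⟩ := hu
      obtain ⟨j', hj', rfl⟩ := hv
      exact ⟨j + j', fun i => add_mem (hj i) (hj' i), by simp [add_mul, Finset.sum_add_distrib]⟩
  obtain ⟨j, hj, hje⟩ := hexp _ h
  have hrel : ∑ i, (a i - j i) * x i = 0 := by
    simp [sub_mul, Finset.sum_sub_distrib, hje]
  have hmem : ∀ v ∈ Submodule.span P
      {v : Fin c → P | ∃ i j : Fin c, v = Pi.single i (x j) - Pi.single j (x i)}, ∀ i, v i ∈ J := by
    intro v hv
    induction hv using Submodule.span_induction with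
    | mem v hv =>
      obtain ⟨b, b', rfl⟩ := hv
      intro i
      refine sub_mem ?_ ?_
      · by_cases hi : i = b
        · subst hi; rw [Pi.single_eq_same]; exact Ideal.subset_span ⟨b', rfl⟩
        · rw [Pi.single_eq_of_ne hi]; exact J.zero_mem
      · by_cases hi : i = b'
        · subst hi; rw [Pi.single_eq_same]; exact Ideal.subset_span ⟨b, rfl⟩
        · rw [Pi.single_eq_of_ne hi]; exact J.zero_mem
    | zero => exact fun i => J.zero_mem
    | add _ _ _ _ ha hb => exact fun i => add_mem (ha i) (hb i)
    | smul r _ _ ha => exact fun i => J.smul_mem r (ha i)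
  simpa using add_mem (hmem _ (hx _ hrel) i) (hj i)

/-- A module with bases on a cover is projective. -/
theorem projective_of_local_basis {B N : Type u} [CommRing B] [AddCommGroup N] [Module B N]
    (h : ∀ M : Ideal B, M.IsMaximal → ∃ (g : B) (c : ℕ) (l : (Fin c → B) →ₗ[B] N), g ∉ M ∧
      (∀ v, l v = 0 → ∃ k : ℕ, g ^ k • v = 0) ∧ ∀ y, ∃ k : ℕ, g ^ k • y ∈ LinearMap.range l) :
    Module.Projective B N := by
  choose g c l hg hker hsurj using h
  have hbij : ∀ (M : Ideal B) (hM : M.IsMaximal) (T : Submonoid B), (∀ k : ℕ, g M hM ^ k ∈ T) →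
      Function.Bijective (LocalizedModule.map T (l M hM)) := by
    intro M hM T hT
    refine ⟨(injective_iff_map_eq_zero _).mpr fun z hz => ?_, fun z => ?_⟩
    · induction z using LocalizedModule.induction_on with
      | h v s =>
        rw [LocalizedModule.map_mk, ← LocalizedModule.zero_mk s, LocalizedModule.mk_eq] at hz
        obtain ⟨u, hu⟩ := hz
        have h0 : l M hM ((u.1 * s.1) • v) = 0 := by
          rw [map_smul, mul_smul]
          simpa [Submonoid.smul_def] using hu
        obtain ⟨k, hk⟩ := hker M hM _ h0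
        rw [← LocalizedModule.zero_mk s, LocalizedModule.mk_eq]
        refine ⟨⟨g M hM ^ k, hT k⟩ * u, ?_⟩
        rw [smul_zero, smul_zero]
        rw [smul_smul] at hk
        show (g M hM ^ k * u.1) • s.1 • v = 0
        rw [smul_smul, mul_assoc]
        exact hk
    · induction z using LocalizedModule.induction_on with
      | h y s =>
        obtain ⟨k, v, hv⟩ := hsurj M hM y
        refine ⟨LocalizedModule.mk v (⟨g M hM ^ k, hT k⟩ * s), ?_⟩
        rw [LocalizedModule.map_mk, hv, LocalizedModule.mk_eq]
        exact ⟨1, by simp [Submonoid.smul_def, smul_smul, mul_comm]⟩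
  have htop : Ideal.span (Set.range fun M : MaximalSpectrum B => g M.asIdeal M.isMaximal) = ⊤ := by
    by_contra hne
    obtain ⟨M, hM, hle⟩ := Ideal.exists_le_maximal _ hne
    exact hg M hM (hle (Ideal.subset_span ⟨⟨M, hM⟩, rfl⟩))
  haveI : Module.FinitePresentation B N := by
    refine Module.FinitePresentation.of_localizationSpan _ htop ?_
    rintro ⟨_, M, rfl⟩
    let a := g M.asIdeal M.isMaximal
    haveI : Module.Free (Localization.Away a) (LocalizedModule (Submonoid.powers a) (Fin (c M.asIdeal M.isMaximal) → B)) :=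
      Module.free_of_isLocalizedModule (Submonoid.powers a) (LocalizedModule.mkLinearMap _ _)
    haveI : Module.Finite (Localization.Away a) (LocalizedModule (Submonoid.powers a) (Fin (c M.asIdeal M.isMaximal) → B)) :=
      Module.Finite.of_isLocalizedModule (Submonoid.powers a) (LocalizedModule.mkLinearMap _ _)
    haveI : Module.FinitePresentation (Localization.Away a)
        (LocalizedModule (Submonoid.powers a) (Fin (c M.asIdeal M.isMaximal) → B)) :=
      Module.finitePresentation_of_projective _ _
    exact Module.FinitePresentation.of_equiv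
      (LinearEquiv.ofBijective _ (hbij M.asIdeal M.isMaximal (Submonoid.powers a) fun k => ⟨k, rfl⟩))
  refine Module.projective_of_localization_maximal fun M hM => ?_
  haveI : Module.Free (Localization.AtPrime M) (LocalizedModule M.primeCompl (Fin (c M hM) → B)) :=
    Module.free_of_isLocalizedModule M.primeCompl (LocalizedModule.mkLinearMap _ _)
  exact Module.Projective.of_equiv' (LinearEquiv.ofBijective _ (hbij M hM M.primeCompl fun k h =>
    hg M hM (hM.isPrime.mem_of_pow_mem k h)))

theorem projective_cotangent {R : Type u} [CommRing R] {n : ℕ} (J : Ideal (MvPolynomial (Fin n) R))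
    (h : Synt.IsSyntomic R (MvPolynomial (Fin n) R ⧸ J)) :
    Module.Projective (MvPolynomial (Fin n) R ⧸ J) J.Cotangent := by
  let P := MvPolynomial (Fin n) R
  refine projective_of_local_basis fun M hM => ?_
  haveI := hM.isPrime
  have hlci := (LCI6.isSyntomic_iff.mp h).2
  let α : P →ₐ[R] P ⧸ J := Ideal.Quotient.mkₐ R J
  have hk := (LCI6.isKoszulRegularIdeal_ker_iff _ Ideal.Quotient.mk_surjective).mp
    (LCI6.isKoszulRegularIdeal_of_isLCI hlci α Ideal.Quotient.mk_surjective) M inferInstance
  change LCI6.KRegAt (RingHom.ker (Ideal.Quotient.mk J)) (M.comap (Ideal.Quotient.mk J)) at hk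
  rw [Ideal.mk_ker] at hk
  obtain ⟨g, r, x, hg, hxJ, hx, hgen⟩ := hk.exists_fin
  let Pg := Localization.Away g
  let xg : Fin r → Pg := fun i => algebraMap P Pg (x i)
  let v : Fin r → J.Cotangent := fun i => J.toCotangent ⟨x i, hxJ i⟩
  let l : (Fin r → P ⧸ J) →ₗ[P ⧸ J] J.Cotangent := Fintype.linearCombination (P ⧸ J) v
  refine ⟨Ideal.Quotient.mk J g, r, l, hg, fun w hw => ?_, fun y => ?_⟩
  · choose b hb using fun i => Ideal.Quotient.mk_surjective (w i)
    have hsum : J.toCotangent (∑ i, b i • (⟨x i, hxJ i⟩ : J)) = 0 := by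
      rw [map_sum, ← hw, show l w = ∑ i, w i • v i from Fintype.linearCombination_apply _ _ _]
      refine Finset.sum_congr rfl fun i _ => ?_
      rw [map_smul, ← hb i]
      rfl
    rw [Ideal.toCotangent_eq_zero, AddSubmonoidClass.coe_finsetSum, pow_two] at hsum
    have hsum' : ∑ i, b i * x i ∈ J * J := by simpa using hsum
    have hg' := Ideal.mem_map_of_mem (algebraMap P Pg) hsum'
    rw [Ideal.map_mul, map_sum, hgen] at hg'
    simp only [map_mul] at hg'
    have hb' : ∀ i, algebraMap P Pg (b i) ∈ J.map (algebraMap P Pg) := fun i => by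
      rw [hgen]
      exact mem_of_sum_mul_mem_sq xg (LCI6.isH1Regular_ofFn xg hx) _ hg' i
    have hpow : ∀ i, ∃ k : ℕ, g ^ k * b i ∈ J := fun i => by
      obtain ⟨_, ⟨k, rfl⟩, hk⟩ :=
        (IsLocalization.algebraMap_mem_map_algebraMap_iff (Submonoid.powers g) Pg J (b i)).mp (hb' i)
      exact ⟨k, hk⟩
    choose k hk using hpow
    refine ⟨∑ i, k i, funext fun i => ?_⟩
    rw [Pi.smul_apply, smul_eq_mul, ← hb i, ← map_pow, ← map_mul]
    refine Ideal.Quotient.eq_zero_iff_mem.mpr ?_
    rw [← Finset.add_sum_erase Finset.univ k (Finset.mem_univ i), pow_add, mul_right_comm]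
    exact Ideal.mul_mem_right _ _ (hk i)
  · obtain ⟨⟨z, hz⟩, rfl⟩ := J.toCotangent_surjective y
    have hz' : algebraMap P Pg z ∈ (Ideal.span (Set.range x)).map (algebraMap P Pg) := by
      rw [Ideal.map_span, ← Set.range_comp]
      exact hgen ▸ Ideal.mem_map_of_mem _ hz
    obtain ⟨_, ⟨k, rfl⟩, hk⟩ :=
      (IsLocalization.algebraMap_mem_map_algebraMap_iff (Submonoid.powers g) Pg _ z).mp hz'
    obtain ⟨b, hb⟩ := Ideal.mem_span_range_iff_exists_fun.mp hk
    refine ⟨k, fun i => Ideal.Quotient.mk J (b i), ?_⟩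
    show Fintype.linearCombination (P ⧸ J) v _ = _
    rw [Fintype.linearCombination_apply, ← map_pow]
    calc ∑ i, Ideal.Quotient.mk J (b i) • v i
        = J.toCotangent (∑ i, b i • (⟨x i, hxJ i⟩ : J)) := by
          rw [map_sum]
          exact Finset.sum_congr rfl fun i _ => by rw [map_smul]; rfl
      _ = J.toCotangent (g ^ k • (⟨z, hz⟩ : J)) := by
          congr 1
          apply Subtype.ext
          simpa using hb
      _ = Ideal.Quotient.mk J (g ^ k) • J.toCotangent ⟨z, hz⟩ := by rw [map_smul]; rfl

end GrothLib.RelGCIReg
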