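import Groth.Agent.Lib.FibreDimAt6.GCI
import Groth.Agent.Lib.Synt6.Descent
import Groth.Agent.Lib.FibreDimAt6.Ring

/-!
# Localizing a presentation to a relative global complete intersection
-/

set_option autoImplicit false

universe u

open scoped TensorProduct
open MvPolynomial

namespace GrothLib.RelGCIReg

variable {R A : Type u} [CommRing R] [CommRing A] [Algebra R A]

/-- The primes over `p` avoiding `r`. -/
abbrev AwaySet (A : Type u) [CommRing A] [Algebra R A] (p : PrimeSpectrum R) (r : A) : Type u :=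
  {z : PrimeSpectrum A // PrimeSpectrum.comap (algebraMap R A) z = p ∧ r ∉ z.asIdeal}

theorem comap_comap_away (r : A) (z : PrimeSpectrum (Localization.Away r)) :
    PrimeSpectrum.comap (algebraMap R A) (PrimeSpectrum.comap (algebraMap A (Localization.Away r)) z) =
      PrimeSpectrum.comap (algebraMap R (Localization.Away r)) z :=
  PrimeSpectrum.ext (by
    simp only [PrimeSpectrum.comap_asIdeal, Ideal.comap_comap, ← IsScalarTower.algebraMap_eq])

theorem ringKrullDim_fiber_away (p : PrimeSpectrum R) (r : A) :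
    ringKrullDim (p.asIdeal.Fiber (Localization.Away r)) = Order.krullDim (AwaySet A p r) := by
  let e := PrimeSpectrum.preimageOrderIsoFiber R (Localization.Away r) p
  refine (Order.krullDim_eq_of_orderIso e.symm).trans ?_
  let ι : (PrimeSpectrum.comap (algebraMap R (Localization.Away r)) ⁻¹' {p}) → AwaySet A p r := fun z =>
    ⟨PrimeSpectrum.comap (algebraMap A (Localization.Away r)) z.1,
      (comap_comap_away r z.1).trans z.2,
      fun h => z.1.2.ne_top (Ideal.eq_top_of_isUnit_mem _ h (IsLocalization.Away.algebraMap_isUnit r))⟩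
  have hdisj : ∀ w : AwaySet A p r, Disjoint (Submonoid.powers r : Set A) (w.1.asIdeal : Set A) := fun w =>
    Set.disjoint_left.mpr fun x ⟨m, hm⟩ hx => w.2.2 (w.1.2.mem_of_pow_mem m (by rw [← hm] at hx; exact hx))
  let κ : AwaySet A p r → (PrimeSpectrum.comap (algebraMap R (Localization.Away r)) ⁻¹' {p}) := fun w =>
    ⟨⟨w.1.asIdeal.map (algebraMap A (Localization.Away r)),
      IsLocalization.isPrime_of_isPrime_disjoint (Submonoid.powers r) _ _ w.1.2 (hdisj w)⟩, by
      show PrimeSpectrum.comap _ _ = p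
      rw [← comap_comap_away r]
      refine (congrArg _ (PrimeSpectrum.ext ?_)).trans w.2.1
      exact IsLocalization.comap_map_of_isPrime_disjoint (Submonoid.powers r) _ w.1.2 (hdisj w)⟩
  refine Order.krullDim_eq_of_orderIso
    { toFun := ι, invFun := κ, left_inv := fun z => ?_, right_inv := fun w => ?_, map_rel_iff' := ?_ }
  · exact Subtype.ext (PrimeSpectrum.ext (IsLocalization.map_comap (Submonoid.powers r) _ z.1.asIdeal))
  · exact Subtype.ext (PrimeSpectrum.ext
      (IsLocalization.comap_map_of_isPrime_disjoint (Submonoid.powers r) _ w.1.2 (hdisj w)))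
  · intro z z'
    refine ⟨fun h => ?_, fun h => Ideal.comap_mono h⟩
    show z.1.asIdeal ≤ z'.1.asIdeal
    rw [← IsLocalization.map_comap (Submonoid.powers r) (Localization.Away r) z.1.asIdeal,
      ← IsLocalization.map_comap (Submonoid.powers r) (Localization.Away r) z'.1.asIdeal]
    exact Ideal.map_mono h

/-- Fibre dimensions on an open covered by small opens. -/
theorem dim_fiber_away_le (p : PrimeSpectrum R) (h : A) (d : WithBot ℕ∞)
    (hcov : ∀ z : PrimeSpectrum A, h ∉ z.asIdeal →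
      ∃ r ∉ z.asIdeal, ringKrullDim (p.asIdeal.Fiber (Localization.Away r)) ≤ d) :
    ringKrullDim (p.asIdeal.Fiber (Localization.Away h)) ≤ d := by
  rw [ringKrullDim_fiber_away]
  refine iSup_le fun l => ?_
  obtain ⟨r, hr, hd⟩ := hcov l.last.1 l.last.2.2
  rw [ringKrullDim_fiber_away] at hd
  have hall : ∀ i, r ∉ (l i).1.asIdeal := fun i hi => hr ((l.monotone (Fin.le_last i) : (l i).1 ≤ l.last.1) hi)
  let m : LTSeries (AwaySet A p r) :=
    ⟨l.length, fun i => ⟨(l i).1, (l i).2.1, hall i⟩, fun i => l.step i⟩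
  exact le_trans (le_of_eq rfl) ((Order.LTSeries.length_le_krullDim m).trans hd)

/-- The good elements: the fibres of the localization have small dimension. -/
def goodIdeal (A : Type u) [CommRing A] [Algebra R A] (d : ℕ) : Ideal A :=
  Ideal.span {r : A | ∀ p : PrimeSpectrum R, ringKrullDim (p.asIdeal.Fiber (Localization.Away r)) ≤ (d : WithBot ℕ∞)}

theorem not_goodIdeal_le [Algebra.FiniteType R A] (d : ℕ) (z : PrimeSpectrum A)
    (hz : ringKrullDim ((PrimeSpectrum.comap (algebraMap R A) z).asIdeal.Fiber A) ≤ (d : WithBot ℕ∞)) :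
    ¬ goodIdeal (R := R) A d ≤ z.asIdeal := by
  obtain ⟨r, hr, hall⟩ := GrothLib.FibreDimAt6.exists_away_dim_le A z d hz
  exact fun hle => hr (hle (Ideal.subset_span hall))

theorem dim_fiber_away_le_of_mem (d : ℕ) (h : A) (hh : h ∈ goodIdeal (R := R) A d) (p : PrimeSpectrum R) :
    ringKrullDim (p.asIdeal.Fiber (Localization.Away h)) ≤ (d : WithBot ℕ∞) := by
  refine dim_fiber_away_le p h _ fun z hz => ?_
  by_contra hc
  refine hz ((Ideal.span_le.mpr fun r hr => ?_ : goodIdeal (R := R) A d ≤ z.asIdeal) hh)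
  by_contra hrz
  exact hc ⟨r, hrz, hr p⟩

/-- An element of an ideal which is a unit in a fibre, when the ideal misses no point of the fibre. -/
theorem exists_mem_isUnit_fiber (p : Ideal R) [p.IsPrime] (𝔞 : Ideal A)
    (h : ∀ z : PrimeSpectrum A, z.asIdeal.comap (algebraMap R A) = p → ¬ 𝔞 ≤ z.asIdeal) :
    ∃ g ∈ 𝔞, IsUnit ((1 : p.ResidueField) ⊗ₜ[R] g : p.Fiber A) := by
  let ι : A →+* p.Fiber A := (Algebra.TensorProduct.includeRight (R := R) (A := p.ResidueField) (B := A)).toRingHom
  have htop : 𝔞.map ι = ⊤ := by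
    by_contra hne
    obtain ⟨M, hM, hle⟩ := Ideal.exists_le_maximal _ hne
    haveI := hM.isPrime
    let z := (PrimeSpectrum.preimageOrderIsoFiber R A ⟨p, inferInstance⟩).symm ⟨M, inferInstance⟩
    have hz : z.1.asIdeal = M.comap ι := GrothLib.FibreDimAt6.fiberIso_symm_apply A ⟨p, inferInstance⟩ ⟨M, inferInstance⟩
    refine h z.1 (congrArg PrimeSpectrum.asIdeal z.2) ?_
    rw [hz]
    exact Ideal.map_le_iff_le_comap.mp hle
  have key : ∀ x ∈ 𝔞.map ι, ∃ r ∉ p, ∃ g ∈ 𝔞, r • x = ι g := by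
    intro x hx
    induction hx using Submodule.span_induction with
    | mem x hx =>
      obtain ⟨g, hg, rfl⟩ := hx
      exact ⟨1, fun h1 => (inferInstance : p.IsPrime).ne_top ((Ideal.eq_top_iff_one p).mpr h1), g, hg, one_smul _ _⟩
    | zero => exact ⟨1, fun h1 => (inferInstance : p.IsPrime).ne_top ((Ideal.eq_top_iff_one p).mpr h1), 0,
        Submodule.zero_mem _, by rw [smul_zero, map_zero]⟩
    | add x y _ _ hx hy =>
      obtain ⟨r, hr, g, hg, e⟩ := hx
      obtain ⟨r', hr', g', hg', e'⟩ := hy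
      refine ⟨r * r', fun h' => ((inferInstance : p.IsPrime).mem_or_mem h').elim hr hr', r' • g + r • g',
        add_mem (Submodule.smul_of_tower_mem 𝔞 r' hg) (Submodule.smul_of_tower_mem 𝔞 r hg'), ?_⟩
      show _ = (1 : p.ResidueField) ⊗ₜ[R] (r' • g + r • g')
      rw [TensorProduct.tmul_add, TensorProduct.tmul_smul, TensorProduct.tmul_smul]
      show _ = r' • ι g + r • ι g'
      rw [← e, ← e', smul_add, smul_smul, smul_smul, mul_comm r' r]
    | smul a x _ hx =>
      obtain ⟨r, hr, g, hg, e⟩ := hx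
      obtain ⟨r', hr', b, hb⟩ := Ideal.Fiber.exists_smul_eq_one_tmul p a
      refine ⟨r' * r, fun h' => ((inferInstance : p.IsPrime).mem_or_mem h').elim hr' hr, b * g,
        𝔞.mul_mem_left _ hg, ?_⟩
      rw [map_mul, ← e, smul_eq_mul, ← smul_mul_smul_comm, hb]
      rfl
  obtain ⟨r, hr, g, hg, e⟩ := key 1 (htop ▸ Submodule.mem_top)
  refine ⟨g, hg, ?_⟩
  have : IsUnit (algebraMap R (p.Fiber A) r) := by
    rw [IsScalarTower.algebraMap_apply R p.ResidueField (p.Fiber A)]
    exact (Ne.isUnit fun h0 => hr (Ideal.algebraMap_residueField_eq_zero.mp h0)).map _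
  rw [show ((1 : p.ResidueField) ⊗ₜ[R] g : p.Fiber A) = algebraMap R (p.Fiber A) r by
    rw [Algebra.algebraMap_eq_smul_one]; exact e.symm]
  exact this

variable {n c : ℕ}

/-- The presentation of a basic open. -/
noncomputable def snocSeq (F : Fin c → MvPolynomial (Fin n) R) (h : MvPolynomial (Fin n) R) :
    Fin (c + 1) → MvPolynomial (Fin (n + 1)) R :=
  Fin.snoc (fun i => rename Fin.castSucc (F i)) (rename Fin.castSucc h * X (Fin.last n) - 1)

theorem nonempty_awayEquiv (F : Fin c → MvPolynomial (Fin n) R) (h : MvPolynomial (Fin n) R) :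
    Nonempty (Localization.Away (Ideal.Quotient.mk (Ideal.span (Set.range F)) h) ≃ₐ[R]
      Synt.RelGCIRing R (n + 1) (c + 1) (snocSeq F h)) := by
  let J := Ideal.span (Set.range F)
  let g := Ideal.Quotient.mk J h
  let L := Localization.Away g
  let J' := Ideal.span (Set.range (snocSeq F h))
  let fwd₀ : MvPolynomial (Fin (n + 1)) R →ₐ[R] L :=
    aeval (Fin.snoc (fun i => algebraMap _ L (Ideal.Quotient.mk J (X i))) (IsLocalization.Away.invSelf g))
  have hren : ∀ f, fwd₀ (rename Fin.castSucc f) = algebraMap _ L (Ideal.Quotient.mk J f) := by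
    intro f
    have : fwd₀.comp (rename Fin.castSucc) =
        (IsScalarTower.toAlgHom R _ L).comp (Ideal.Quotient.mkₐ R J) := MvPolynomial.algHom_ext fun i => by
      show fwd₀ (rename Fin.castSucc (X i)) = algebraMap _ L (Ideal.Quotient.mk J (X i))
      rw [rename_X]
      simp [fwd₀]
    exact AlgHom.congr_fun this f
  have hlast : fwd₀ (X (Fin.last n)) = IsLocalization.Away.invSelf g := by simp [fwd₀]
  let fwd : Synt.RelGCIRing R (n + 1) (c + 1) (snocSeq F h) →ₐ[R] L := Ideal.Quotient.liftₐ _ fwd₀ fun x hx => by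
    refine (Ideal.span_le.mpr (?_ : Set.range (snocSeq F h) ⊆ RingHom.ker fwd₀.toRingHom)) hx
    rintro _ ⟨i, rfl⟩
    show fwd₀ (snocSeq F h i) = 0
    induction i using Fin.lastCases with
    | last =>
      rw [snocSeq, Fin.snoc_last, map_sub, map_mul, map_one, hren, hlast, IsLocalization.Away.mul_invSelf, sub_self]
    | cast i =>
      rw [snocSeq, Fin.snoc_castSucc, hren, Ideal.Quotient.eq_zero_iff_mem.mpr (Ideal.subset_span (Set.mem_range_self i)), map_zero]
  let b₀ : MvPolynomial (Fin n) R ⧸ J →ₐ[R] Synt.RelGCIRing R (n + 1) (c + 1) (snocSeq F h) :=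
    Ideal.Quotient.liftₐ J ((Ideal.Quotient.mkₐ R J').comp (rename Fin.castSucc)) fun x hx => by
      refine (Ideal.span_le.mpr (?_ : Set.range F ⊆
        RingHom.ker ((Ideal.Quotient.mkₐ R J').comp (rename Fin.castSucc)).toRingHom)) hx
      rintro _ ⟨i, rfl⟩
      refine Ideal.Quotient.eq_zero_iff_mem.mpr (Ideal.subset_span ⟨Fin.castSucc i, ?_⟩)
      rw [snocSeq, Fin.snoc_castSucc]
      rfl
  have hunit : b₀ g * Ideal.Quotient.mk J' (X (Fin.last n)) = 1 := by
    show Ideal.Quotient.mk J' (rename Fin.castSucc h) * _ = _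
    rw [← map_mul, ← map_one (Ideal.Quotient.mk J'), Ideal.Quotient.eq]
    exact Ideal.subset_span ⟨Fin.last c, by rw [snocSeq, Fin.snoc_last]⟩
  let bwd : L →ₐ[R] Synt.RelGCIRing R (n + 1) (c + 1) (snocSeq F h) :=
    IsLocalization.liftAlgHom (M := Submonoid.powers g) (f := b₀) (by
      rintro ⟨y, m, rfl⟩
      rw [map_pow]
      exact (IsUnit.of_mul_eq_one _ hunit).pow m)
  have hbwd : ∀ a, bwd (algebraMap _ L a) = b₀ a := fun a => IsLocalization.lift_eq _ a
  refine ⟨AlgEquiv.ofAlgHom bwd fwd ?_ ?_⟩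
  · refine Ideal.Quotient.algHom_ext R (MvPolynomial.algHom_ext fun i => ?_)
    show bwd (fwd₀ (X i)) = Ideal.Quotient.mk J' (X i)
    induction i using Fin.lastCases with
    | last =>
      rw [hlast]
      have h1 : b₀ g * bwd (IsLocalization.Away.invSelf g) = 1 := by
        rw [← hbwd, ← map_mul, IsLocalization.Away.mul_invSelf, map_one]
      exact (IsUnit.of_mul_eq_one _ hunit).mul_left_cancel (h1.trans hunit.symm)
    | cast i =>
      rw [← rename_X, hren, hbwd]
      show Ideal.Quotient.mk J' (rename Fin.castSucc (X i)) = _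
      rw [rename_X]
  · refine AlgHom.coe_ringHom_injective (IsLocalization.ringHom_ext (Submonoid.powers g) (RingHom.ext fun a => ?_))
    obtain ⟨f, rfl⟩ := Ideal.Quotient.mk_surjective a
    show fwd (bwd (algebraMap _ L (Ideal.Quotient.mk J f))) = algebraMap _ L (Ideal.Quotient.mk J f)
    rw [hbwd]
    exact hren f

theorem exists_minimalPrime_comap {S T : Type u} [CommRing S] [CommRing T] (μ : S →+* T) (M : Ideal T)
    [M.IsPrime] : ∃ J ∈ minimalPrimes S, ∀ x ∈ J, μ x ∈ M := by
  haveI : (M.comap μ).IsPrime := Ideal.IsPrime.comap _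
  obtain ⟨J, hJ, hJz⟩ := Ideal.exists_minimalPrimes_le (I := (⊥ : Ideal S)) (J := M.comap μ) bot_le
  exact ⟨J, hJ, fun x hx => hJz hx⟩

theorem isRelGCI_snoc (F : Fin c → MvPolynomial (Fin n) R) (h : MvPolynomial (Fin n) R) (hc : c ≤ n)
    (hle : ∀ p : PrimeSpectrum R, ringKrullDim
      (p.asIdeal.Fiber (Localization.Away (Ideal.Quotient.mk (Ideal.span (Set.range F)) h))) ≤
        ((n - c : ℕ) : WithBot ℕ∞)) :
    Synt.IsRelGCI R (n + 1) (c + 1) (snocSeq F h) := by
  intro p hp
  obtain ⟨e⟩ := nonempty_awayEquiv F h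
  let A := Synt.RelGCIRing R n c F
  let g : A := Ideal.Quotient.mk (Ideal.span (Set.range F)) h
  let E : p.asIdeal.Fiber (Localization.Away g) ≃ₐ[p.asIdeal.ResidueField]
      p.asIdeal.Fiber (Synt.RelGCIRing R (n + 1) (c + 1) (snocSeq F h)) :=
    Algebra.TensorProduct.congr AlgEquiv.refl e
  refine ⟨by omega, ?_⟩
  rw [show n + 1 - (c + 1) = n - c by omega, ← ringKrullDim_eq_of_ringEquiv E.toRingEquiv]
  refine le_antisymm (hle p) ?_
  haveI : Nontrivial (p.asIdeal.Fiber (Localization.Away g)) := E.toEquiv.nontrivial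
  obtain ⟨M, hM⟩ := Ideal.exists_maximal (p.asIdeal.Fiber (Localization.Away g))
  haveI := hM.isPrime
  let μ : p.asIdeal.Fiber A →ₐ[p.asIdeal.ResidueField] p.asIdeal.Fiber (Localization.Away g) :=
    Algebra.TensorProduct.map (AlgHom.id _ _) (IsScalarTower.toAlgHom R A (Localization.Away g))
  obtain ⟨J, hJ, hJz⟩ := exists_minimalPrime_comap (S := p.asIdeal.Fiber A) (T := p.asIdeal.Fiber (Localization.Away g))
    μ.toRingHom M
  haveI := hJ.1.1
  haveI : Algebra.FiniteType R A := inferInstance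
  refine le_trans (GrothLib.FibreDimAt6.dim_component_relGCI R n c F A (Ideal.Quotient.mkₐ R _)
    Ideal.Quotient.mk_surjective (Ideal.Quotient.mkₐ_ker R _) p.asIdeal J hJ)
    (GrothLib.FibreDimAt6.dim_quotient_le_dim_away p.asIdeal J g fun hg => hM.ne_top ?_)
  have hmem : μ ((1 : p.asIdeal.ResidueField) ⊗ₜ[R] g) ∈ M := hJz _ hg
  refine Ideal.eq_top_of_isUnit_mem _ hmem ?_
  show IsUnit ((1 : p.asIdeal.ResidueField) ⊗ₜ[R] algebraMap A (Localization.Away g) g)
  exact (IsLocalization.Away.algebraMap_isUnit g).map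
    (Algebra.TensorProduct.includeRight (R := R) (A := p.asIdeal.ResidueField))

theorem exists_away_of_fiber (F : Fin c → MvPolynomial (Fin n) R) (p : Ideal R) [p.IsPrime]
    (hc : c ≤ n) (hdim : ringKrullDim (p.Fiber (Synt.RelGCIRing R n c F)) ≤ ((n - c : ℕ) : WithBot ℕ∞)) :
    ∃ h : MvPolynomial (Fin n) R,
      IsUnit ((1 : p.ResidueField) ⊗ₜ[R] (Ideal.Quotient.mk (Ideal.span (Set.range F)) h) :
        p.Fiber (Synt.RelGCIRing R n c F)) ∧
      Synt.IsRelGCI R (n + 1) (c + 1) (snocSeq F h) := by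
  obtain ⟨g, hg, hu⟩ := exists_mem_isUnit_fiber p (goodIdeal (R := R) (Synt.RelGCIRing R n c F) (n - c))
    fun z hz => not_goodIdeal_le (n - c) z (by
      rw [show PrimeSpectrum.comap (algebraMap R _) z = ⟨p, inferInstance⟩ from PrimeSpectrum.ext hz]
      exact hdim)
  obtain ⟨h, rfl⟩ := Ideal.Quotient.mk_surjective g
  exact ⟨h, hu, isRelGCI_snoc F h hc fun q => dim_fiber_away_le_of_mem (n - c) _ hg q⟩

theorem fiber_dim_of_quot (F : Fin c → MvPolynomial (Fin n) R) (I : Ideal R)
    (hI : Synt.IsRelGCI (R ⧸ I) n c (fun i => MvPolynomial.map (Ideal.Quotient.mk I) (F i)))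
    (s : PrimeSpectrum R) (hs : I ≤ s.asIdeal) :
    ringKrullDim (s.asIdeal.Fiber (Synt.RelGCIRing R n c F)) ≤ ((n - c : ℕ) : WithBot ℕ∞) ∧
      (Nontrivial (s.asIdeal.Fiber (Synt.RelGCIRing R n c F)) → c ≤ n) := by
  obtain ⟨q, rfl⟩ : ∃ q : PrimeSpectrum (R ⧸ I), PrimeSpectrum.comap (algebraMap R (R ⧸ I)) q = s := by
    haveI hp : (s.asIdeal.map (Ideal.Quotient.mk I)).IsPrime :=
      Ideal.map_isPrime_of_surjective Ideal.Quotient.mk_surjective (by rwa [Ideal.mk_ker])
    refine ⟨⟨s.asIdeal.map (Ideal.Quotient.mk I), hp⟩, PrimeSpectrum.ext ?_⟩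
    show (s.asIdeal.map (Ideal.Quotient.mk I)).comap (Ideal.Quotient.mk I) = _
    rw [Ideal.comap_map_of_surjective' _ Ideal.Quotient.mk_surjective, Ideal.mk_ker, sup_eq_left.mpr hs]
  have hdim := GrothLib.Synt6.dim_fiber_relGCI R (R ⧸ I) F
    (fun i => MvPolynomial.map (Ideal.Quotient.mk I) (F i)) (fun _ => rfl) q
  refine ⟨?_, fun hnt => (hI q ?_).1⟩
  · rw [← hdim]
    by_cases hnt : Nontrivial (q.asIdeal.Fiber
        (Synt.RelGCIRing (R ⧸ I) n c fun i => MvPolynomial.map (Ideal.Quotient.mk I) (F i)))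
    · exact (hI q hnt).2.le
    · haveI := not_nontrivial_iff_subsingleton.mp hnt
      rw [ringKrullDim_eq_bot_of_subsingleton]
      exact bot_le
  · rw [GrothLib.Synt6.nontrivial_fiber_iff, hdim, ← GrothLib.Synt6.nontrivial_fiber_iff]
    exact hnt

theorem exists_away_of_ideal (F : Fin c → MvPolynomial (Fin n) R) (I : Ideal R)
    (hI : Synt.IsRelGCI (R ⧸ I) n c (fun i => MvPolynomial.map (Ideal.Quotient.mk I) (F i))) :
    ∃ h : MvPolynomial (Fin n) R,
      Ideal.Quotient.mk (I.map (algebraMap R (Synt.RelGCIRing R n c F)))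
        (Ideal.Quotient.mk (Ideal.span (Set.range F)) h) = 1 ∧
      Synt.IsRelGCI R (n + 1) (c + 1) (snocSeq F h) := by
  let A := Synt.RelGCIRing R n c F
  by_cases hc : c ≤ n
  · have htop : goodIdeal (R := R) A (n - c) ⊔ I.map (algebraMap R A) = ⊤ := by
      by_contra hne
      obtain ⟨M, hM, hle⟩ := Ideal.exists_le_maximal _ hne
      haveI := hM.isPrime
      let z : PrimeSpectrum A := ⟨M, inferInstance⟩
      refine not_goodIdeal_le (n - c) z ?_ (le_sup_left.trans hle)
      exact (fiber_dim_of_quot F I hI _ (Ideal.map_le_iff_le_comap.mp (le_sup_right.trans hle))).1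
    obtain ⟨g, hg, y, hy, hgy⟩ := Submodule.mem_sup.mp (htop ▸ Submodule.mem_top : (1 : A) ∈ _)
    obtain ⟨h, rfl⟩ := Ideal.Quotient.mk_surjective g
    refine ⟨h, ?_, isRelGCI_snoc F h hc fun q => dim_fiber_away_le_of_mem (n - c) _ hg q⟩
    have : Ideal.Quotient.mk (I.map (algebraMap R A)) y = 0 := Ideal.Quotient.eq_zero_iff_mem.mpr hy
    rw [← map_one (Ideal.Quotient.mk (I.map (algebraMap R A))), ← hgy, map_add, this, add_zero]
  · have htop : I.map (algebraMap R A) = ⊤ := by
      by_contra hne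
      obtain ⟨M, hM, hle⟩ := Ideal.exists_le_maximal _ hne
      haveI := hM.isPrime
      let z : PrimeSpectrum A := ⟨M, inferInstance⟩
      refine hc ((fiber_dim_of_quot F I hI (PrimeSpectrum.comap (algebraMap R A) z)
        (Ideal.map_le_iff_le_comap.mp hle)).2 ?_)
      let w : PrimeSpectrum ((PrimeSpectrum.comap (algebraMap R A) z).asIdeal.Fiber A) :=
        PrimeSpectrum.preimageOrderIsoFiber R A _ ⟨z, rfl⟩
      exact PrimeSpectrum.nonempty_iff_nontrivial.mp ⟨w⟩
    refine ⟨0, ?_, fun q hq => ?_⟩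
    · haveI : Subsingleton (A ⧸ I.map (algebraMap R A)) := Ideal.Quotient.subsingleton_iff.mpr htop
      exact Subsingleton.elim _ _
    · exfalso
      obtain ⟨e⟩ := nonempty_awayEquiv F (0 : MvPolynomial (Fin n) R)
      haveI : Subsingleton (Localization.Away (Ideal.Quotient.mk (Ideal.span (Set.range F)) (0 : MvPolynomial (Fin n) R))) :=
        IsLocalization.subsingleton (M := Submonoid.powers (Ideal.Quotient.mk (Ideal.span (Set.range F)) (0 : MvPolynomial (Fin n) R)))
          ⟨1, by simp⟩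
      haveI : Subsingleton (Synt.RelGCIRing R (n + 1) (c + 1) (snocSeq F 0)) := e.symm.toEquiv.subsingleton
      haveI : Subsingleton (q.asIdeal.Fiber (Synt.RelGCIRing R (n + 1) (c + 1) (snocSeq F 0))) :=
        ⟨fun a b => by
          have h0 : ∀ x : q.asIdeal.Fiber (Synt.RelGCIRing R (n + 1) (c + 1) (snocSeq F 0)), x = 0 := fun x => by
            induction x using TensorProduct.induction_on with
            | zero => rfl
            | tmul u v => rw [Subsingleton.elim v 0, TensorProduct.tmul_zero]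
            | add u v hu hv => rw [hu, hv, add_zero]
          rw [h0 a, h0 b]⟩
      exact false_of_nontrivial_of_subsingleton (q.asIdeal.Fiber (Synt.RelGCIRing R (n + 1) (c + 1) (snocSeq F 0)))

end GrothLib.RelGCIReg
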