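import Groth.Agent.Lib.RelGCIReg.Basic
import Groth.Agent.Lib.RelGCIReg.Finite
import Groth.Agent.Lib.RelGCIReg.Away
import Groth.Agent.Lib.KoszulColon.Regular

/-!
# Syntomic algebras are locally relative global complete intersections
-/

set_option autoImplicit false

universe u

open IsLocalRing RingTheory.Sequence MvPolynomial TensorProduct

namespace GrothLib.RelGCIReg

theorem le_and_dim_of_regular {k : Type u} [Field k] {n c : ℕ} (F : Fin c → MvPolynomial (Fin n) k)
    (hne : Ideal.span (Set.range F) ≠ ⊤)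
    (hreg : ∀ (p : Ideal (MvPolynomial (Fin n) k)) [p.IsMaximal], Ideal.span (Set.range F) ≤ p →
      IsRegular (Localization.AtPrime p) ((List.ofFn F).map (algebraMap _ (Localization.AtPrime p)))) :
    c ≤ n ∧ ringKrullDim (MvPolynomial (Fin n) k ⧸ Ideal.span (Set.range F)) = ((n - c : ℕ) : WithBot ℕ∞) := by
  let P := MvPolynomial (Fin n) k
  let I := Ideal.span (Set.range F)
  have key : ∀ M : Ideal (P ⧸ I), M.IsMaximal → M.height + c = (n : ℕ∞) := by
    intro M hM
    haveI := hM
    let p := M.comap (Ideal.Quotient.mk I)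
    haveI : p.IsMaximal := Ideal.comap_isMaximal_of_surjective _ Ideal.Quotient.mk_surjective
    have hIp : I ≤ p := fun x hx => by
      rw [Ideal.mem_comap, Ideal.Quotient.eq_zero_iff_mem.mpr hx]
      exact M.zero_mem
    have h := ringKrullDim_add_length_eq_ringKrullDim_of_isRegular _ (hreg p hIp)
    have hIl : Ideal.ofList ((List.ofFn F).map (algebraMap P (Localization.AtPrime p))) =
        I.map (algebraMap P (Localization.AtPrime p)) := by
      rw [← Ideal.map_ofList]
      congr 1
      simp [Ideal.ofList, I, List.mem_ofFn, Set.range]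
      try rfl
    rw [hIl, GrothLib.LCI6.ringKrullDim_localization_quotient I p hIp,
      IsLocalization.AtPrime.ringKrullDim_eq_height p (Localization.AtPrime p),
      GrothLib.LCI6.height_eq_of_isMaximal p, List.length_map, List.length_ofFn,
      Ideal.map_comap_of_surjective _ Ideal.Quotient.mk_surjective] at h
    exact WithBot.coe_injective (by push_cast; exact h)
  haveI : Nontrivial (P ⧸ I) := Ideal.Quotient.nontrivial_iff.mpr hne
  obtain ⟨M, hM⟩ := Ideal.exists_maximal (P ⧸ I)
  have hle : c ≤ n := by exact_mod_cast (key M hM) ▸ le_add_self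
  have hht : ∀ M : Ideal (P ⧸ I), M.IsMaximal → M.height = ((n - c : ℕ) : ℕ∞) := fun M hM => by
    haveI := hM.isPrime
    obtain ⟨a, ha⟩ := GrothLib.LCI6.height_ne_top M
    have := key M hM
    rw [ha] at this ⊢
    have h2 : a + c = n := by exact_mod_cast this
    exact_mod_cast (show a = n - c by omega)
  refine ⟨hle, le_antisymm ((ringKrullDim_le_iff_isMaximal_height_le _).mpr fun M hM => by rw [hht M hM]; rfl) ?_⟩
  haveI := hM.isPrime
  exact le_trans (by rw [hht M hM]; rfl) (Ideal.height_le_ringKrullDim_of_ne_top hM.ne_top)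

variable {R : Type u} [CommRing R] {n c : ℕ}

/-- Fibrewise regular equations form a relative global complete intersection. -/
theorem isRelGCI_of_fibre_regular (F : Fin c → MvPolynomial (Fin n) R)
    (h : ∀ (p : Ideal (MvPolynomial (Fin n) R)) [p.IsPrime], Ideal.span (Set.range F) ≤ p →
      IsRegular (Localization.AtPrime p ⧸ LCI6.fibreMax R p)
        ((List.ofFn (locSeq F p)).map (Ideal.Quotient.mk (LCI6.fibreMax R p)))) :
    Synt.IsRelGCI R n c F := by
  intro r hr
  let P := MvPolynomial (Fin n) R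
  let κ := r.asIdeal.ResidueField
  let Q := MvPolynomial (Fin n) κ
  let ε : r.asIdeal.Fiber P ≃ₐ[κ] Q := MvPolynomial.algebraTensorAlgEquiv R κ
  let F' : Fin c → Q := fun i => MvPolynomial.map (algebraMap R κ) (F i)
  have hεF : ∀ i, ε.symm (F' i) = (1 : κ) ⊗ₜ[R] F i := fun i =>
    MvPolynomial.algebraTensorAlgEquiv_symm_map R κ (F i)
  let eF := GrothLib.Synt6.relGCIBaseChange R κ F F' fun _ => rfl
  haveI := hr
  haveI : Nontrivial (Synt.RelGCIRing κ n c F') := eF.symm.toEquiv.nontrivial
  have hne : Ideal.span (Set.range F') ≠ ⊤ := Ideal.Quotient.nontrivial_iff.mp inferInstance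
  rw [ringKrullDim_eq_of_ringEquiv eF.toRingEquiv]
  refine le_and_dim_of_regular F' hne fun q' _ hq' => ?_
  let q₁ : Ideal (r.asIdeal.Fiber P) := q'.comap (ε : r.asIdeal.Fiber P →+* Q)
  haveI : q₁.IsPrime := Ideal.IsPrime.comap _
  let p : Ideal P := q₁.comap Algebra.TensorProduct.includeRight.toRingHom
  haveI : p.IsPrime := Ideal.IsPrime.comap _
  have hp : Ideal.span (Set.range F) ≤ p := by
    rw [Ideal.span_le]
    rintro _ ⟨i, rfl⟩
    show ε ((1 : κ) ⊗ₜ[R] F i) ∈ q'
    rw [← hεF, AlgEquiv.apply_symm_apply]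
    exact hq' (Ideal.subset_span ⟨i, rfl⟩)
  have hrp : p.comap (algebraMap R P) = r.asIdeal :=
    congrArg PrimeSpectrum.asIdeal
      (((PrimeSpectrum.preimageOrderIsoFiber R P r).symm ⟨q₁, inferInstance⟩).2)
  obtain ⟨e, he⟩ := LCI6.exists_fibre_equiv r.asIdeal q₁ p rfl
  have hm : (r.asIdeal.map (algebraMap R P)).map (algebraMap P (Localization.AtPrime p)) = LCI6.fibreMax R p := by
    rw [← hrp]
  let ψ : Localization.AtPrime q₁ ≃+* Localization.AtPrime q' :=
    IsLocalization.ringEquivOfRingEquiv (Localization.AtPrime q₁) (Localization.AtPrime q')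
      ε.toRingEquiv (M := q₁.primeCompl) (T := q'.primeCompl) (by
        ext x
        constructor
        · rintro ⟨y, hy, rfl⟩
          exact hy
        · intro hx
          exact ⟨ε.symm x, fun hy => hx (by simpa [q₁] using hy), ε.apply_symm_apply x⟩)
  have h0 := LCI6.isRegular_quot_congr hm.symm _ (h p hp)
  have h2 := isRegular_ringEquiv (e.symm.trans ψ) _ h0
  rw [List.map_map, List.map_ofFn] at h2
  rw [List.map_ofFn]
  have hfun : (algebraMap Q (Localization.AtPrime q')) ∘ F' =
      ((e.symm.trans ψ) ∘ (Ideal.Quotient.mk _)) ∘ locSeq F p := by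
    funext i
    show _ = ψ (e.symm (Ideal.Quotient.mk _ (algebraMap P (Localization.AtPrime p) (F i))))
    rw [← he, RingEquiv.symm_apply_apply, IsLocalization.ringEquivOfRingEquiv_eq]
    show algebraMap Q _ (F' i) = algebraMap Q _ (ε ((1 : κ) ⊗ₜ[R] F i))
    rw [← hεF, AlgEquiv.apply_symm_apply]
  rw [hfun]
  exact h2

/-- Koszul regular equations with flat quotient form a relative global complete intersection. -/
theorem isRelGCI_of_koszul (F : Fin c → MvPolynomial (Fin n) R) [Module.Flat R (Synt.RelGCIRing R n c F)]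
    (h : LCI.IsKoszulRegularSeq (MvPolynomial (Fin n) R) (List.ofFn F)) : Synt.IsRelGCI R n c F := by
  refine isRelGCI_of_fibre_regular F fun p _ hp => ?_
  let L := Localization.AtPrime p
  have hk := GrothLib.KoszulColon.isKoszulRegularSeq_map (algebraMap (MvPolynomial (Fin n) R) L)
    (RingHom.flat_algebraMap_iff.mpr (IsLocalization.flat L p.primeCompl)) _ h
  rw [List.map_ofFn] at hk
  refine LCI6.isRegular_of_quasiRegular (I := Ideal.span (Set.range F)) p (locSeq F p) (fun i => ?_) ?_
    (GrothLib.SeqKinds.isQuasiRegular_of_isH1Regular _ (LCI6.isH1Regular_ofFn _ hk))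
  · rw [← Localization.AtPrime.map_eq_maximalIdeal]
    exact Ideal.mem_map_of_mem _ (hp (Ideal.subset_span ⟨i, rfl⟩))
  · rw [Ideal.map_span, ← Set.range_comp]
    rfl

/-- The equation inverting `g`. -/
noncomputable abbrev invEq (g : MvPolynomial (Fin n) R) : MvPolynomial (Fin (n + 1)) R :=
  rename Fin.castSucc g * X (Fin.last n) - 1

theorem invEq_nonZeroDivisor (g : MvPolynomial (Fin n) R) (z : MvPolynomial (Fin (n + 1)) R)
    (hz : invEq g * z = 0) : z = 0 := by
  have h1 : z = rename Fin.castSucc g * X (Fin.last n) * z := by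
    rw [invEq, sub_mul, one_mul, sub_eq_zero] at hz
    exact hz.symm
  have h2 : ∀ k : ℕ, z = X (Fin.last n) ^ k * (rename Fin.castSucc g ^ k * z) := by
    intro k
    induction k with
    | zero => simp
    | succ k ih =>
      calc z = X (Fin.last n) ^ k * (rename Fin.castSucc g ^ k * z) := ih
        _ = X (Fin.last n) ^ k * (rename Fin.castSucc g ^ k * (rename Fin.castSucc g * X (Fin.last n) * z)) := by
          rw [← h1]
        _ = _ := by ring
  ext m
  rw [h2 (m (Fin.last n) + 1), X_pow_eq_monomial, coeff_monomial_mul', coeff_zero, if_neg]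
  intro hle
  simpa using hle (Fin.last n)

theorem exists_equiv_invEq (g : MvPolynomial (Fin n) R) :
    ∃ e : (MvPolynomial (Fin (n + 1)) R ⧸ Ideal.ofList [invEq g]) ≃ₐ[R] Localization.Away g,
      ∀ f, e (Ideal.Quotient.mk _ (rename Fin.castSucc f)) = algebraMap _ (Localization.Away g) f := by
  let L := Localization.Away g
  let J := Ideal.ofList [invEq g]
  let fwd₀ : MvPolynomial (Fin (n + 1)) R →ₐ[R] L :=
    aeval (Fin.snoc (fun i => algebraMap (MvPolynomial (Fin n) R) L (X i)) (IsLocalization.Away.invSelf g))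
  have hren : ∀ f, fwd₀ (rename Fin.castSucc f) = algebraMap _ L f := by
    intro f
    have : fwd₀.comp (rename Fin.castSucc) = IsScalarTower.toAlgHom R _ L := MvPolynomial.algHom_ext fun i => by
      show fwd₀ (rename Fin.castSucc (X i)) = algebraMap _ L (X i)
      rw [rename_X]
      simp [fwd₀]
    exact AlgHom.congr_fun this f
  have hlast : fwd₀ (X (Fin.last n)) = IsLocalization.Away.invSelf g := by simp [fwd₀]
  have hw : fwd₀ (invEq g) = 0 := by
    rw [invEq, map_sub, map_mul, map_one, hren, hlast, IsLocalization.Away.mul_invSelf, sub_self]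
  let fwd : (MvPolynomial (Fin (n + 1)) R ⧸ J) →ₐ[R] L := Ideal.Quotient.liftₐ _ fwd₀ fun x hx => by
    refine (Ideal.span_le.mpr (?_ : {y | y ∈ [invEq g]} ⊆ (RingHom.ker fwd₀.toRingHom : Set _))) hx
    intro y hy
    rw [Set.mem_setOf_eq, List.mem_singleton] at hy
    exact hy ▸ hw
  let b₀ : MvPolynomial (Fin n) R →ₐ[R] MvPolynomial (Fin (n + 1)) R ⧸ J :=
    (Ideal.Quotient.mkₐ R J).comp (rename Fin.castSucc)
  have hunit : b₀ g * Ideal.Quotient.mk J (X (Fin.last n)) = 1 := by
    show Ideal.Quotient.mk J (rename Fin.castSucc g) * _ = _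
    rw [← map_mul, ← map_one (Ideal.Quotient.mk J), Ideal.Quotient.eq]
    exact Ideal.subset_span List.mem_cons_self
  let bwd : L →ₐ[R] MvPolynomial (Fin (n + 1)) R ⧸ J :=
    IsLocalization.liftAlgHom (M := Submonoid.powers g) (f := b₀) (by
      rintro ⟨y, m, rfl⟩
      rw [map_pow]
      exact (IsUnit.of_mul_eq_one _ hunit).pow m)
  have hbwd : ∀ a, bwd (algebraMap _ L a) = b₀ a := fun a => IsLocalization.lift_eq _ a
  refine ⟨AlgEquiv.ofAlgHom fwd bwd ?_ ?_, hren⟩
  · refine AlgHom.coe_ringHom_injective (IsLocalization.ringHom_ext (Submonoid.powers g) (RingHom.ext fun a => ?_))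
    show fwd (bwd (algebraMap _ L a)) = algebraMap _ L a
    rw [hbwd]
    exact hren a
  · refine Ideal.Quotient.algHom_ext R (MvPolynomial.algHom_ext fun i => ?_)
    show bwd (fwd₀ (X i)) = Ideal.Quotient.mk J (X i)
    induction i using Fin.lastCases with
    | last =>
      rw [hlast]
      have h1 : b₀ g * bwd (IsLocalization.Away.invSelf g) = 1 := by
        rw [← hbwd, ← map_mul, IsLocalization.Away.mul_invSelf, map_one]
      exact (IsUnit.of_mul_eq_one _ hunit).mul_left_cancel (h1.trans hunit.symm)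
    | cast i =>
      rw [← rename_X, hren, hbwd]
      show Ideal.Quotient.mk J (rename Fin.castSucc (X i)) = _
      rw [rename_X]

theorem isKoszulRegularSeq_snoc (x : Fin c → MvPolynomial (Fin n) R) (g : MvPolynomial (Fin n) R)
    (h : LCI.IsKoszulRegularSeq (Localization.Away g)
      (List.ofFn fun i => algebraMap _ (Localization.Away g) (x i))) :
    LCI.IsKoszulRegularSeq (MvPolynomial (Fin (n + 1)) R) (List.ofFn (snocSeq x g)) := by
  have hlist : List.ofFn (snocSeq x g) = (List.ofFn fun i => rename Fin.castSucc (x i)) ++ [invEq g] := by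
    rw [List.ofFn_succ']
    simp [snocSeq, List.concat_eq_append, Fin.snoc_castSucc, Fin.snoc_last]
  rw [hlist]
  refine GrothLib.KoszulColon.isKoszulRegularSeq_append _ _ ?_ ?_
  · have := LCI6.isKoszulRegularSeq_singleton (invEq g) (invEq_nonZeroDivisor g)
    simpa using this
  · obtain ⟨e, he⟩ := exists_equiv_invEq g
    have h' := LCI6.isKoszulRegularSeq_equiv e.symm.toRingEquiv _ h
    rw [List.map_ofFn] at h'
    rw [List.map_ofFn]
    refine (congrArg (LCI.IsKoszulRegularSeq _) (congrArg List.ofFn (funext fun i => ?_))).mp h'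
    show e.symm (algebraMap _ (Localization.Away g) (x i)) = Ideal.Quotient.mk _ (rename Fin.castSucc (x i))
    rw [← he, AlgEquiv.symm_apply_apply]

/-- A presentation of a syntomic algebra is locally given by a relative global complete intersection. -/
theorem exists_presentation_away {S : Type u} [CommRing S] [Algebra R S] (h : Synt.IsSyntomic R S)
    (α : MvPolynomial (Fin n) R →ₐ[R] S) (hα : Function.Surjective α) (q : Ideal S) [q.IsPrime] :
    ∃ g : MvPolynomial (Fin n) R, α g ∉ q ∧ ∃ (c : ℕ) (x : Fin c → MvPolynomial (Fin n) R),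
      (∀ i, x i ∈ RingHom.ker α.toRingHom) ∧
      (RingHom.ker α.toRingHom).map (algebraMap _ (Localization.Away g)) =
        (Ideal.span (Set.range x)).map (algebraMap _ (Localization.Away g)) ∧
      Synt.IsRelGCI R (n + 1) (c + 1) (snocSeq x g) ∧
      Nonempty (Localization.Away (α g) ≃ₐ[R] Synt.RelGCIRing R (n + 1) (c + 1) (snocSeq x g)) := by
  have hlci := (LCI6.isSyntomic_iff.mp h).2
  haveI := h.1
  haveI := h.2.1
  let P := MvPolynomial (Fin n) R
  let I := RingHom.ker α.toRingHom
  obtain ⟨g, hg, l, hl, hI⟩ := (LCI6.isKoszulRegularIdeal_ker_iff _ hα).mp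
    (LCI6.isKoszulRegularIdeal_of_isLCI hlci α hα) q inferInstance
  let Pg := Localization.Away g
  change I.map (algebraMap P Pg) = Ideal.ofList l at hI
  -- representatives in the kernel
  have hrep : ∀ i : Fin l.length, ∃ (x : P) (u : Pg), IsUnit u ∧ x ∈ I ∧ algebraMap P Pg x = u * l.get i := by
    intro i
    obtain ⟨⟨y, s⟩, hs⟩ := IsLocalization.surj (Submonoid.powers g) (l.get i)
    have hy : algebraMap P Pg y ∈ I.map (algebraMap P Pg) := by
      rw [← hs, hI]
      exact Ideal.mul_mem_right _ _ (Ideal.subset_span (List.get_mem l i))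
    obtain ⟨t, ht, hty⟩ := (IsLocalization.algebraMap_mem_map_algebraMap_iff (Submonoid.powers g) Pg I y).mp hy
    refine ⟨t * y, algebraMap P Pg t * algebraMap P Pg s,
      (IsLocalization.map_units Pg ⟨t, ht⟩).mul (IsLocalization.map_units Pg s), hty, ?_⟩
    rw [map_mul, ← hs]
    ring
  choose x u hu hxI hxu using hrep
  have hk : LCI.IsKoszulRegularSeq Pg (List.ofFn fun i => algebraMap P Pg (x i)) := by
    have := LCI6.isKoszulRegularSeq_smul u hu l.get (by rwa [List.ofFn_get])
    simpa [hxu] using this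
  have hgen : I.map (algebraMap P Pg) = (Ideal.span (Set.range x)).map (algebraMap P Pg) := by
    refine le_antisymm ?_ (Ideal.map_mono (Ideal.span_le.mpr (by rintro _ ⟨i, rfl⟩; exact hxI i)))
    rw [hI, Ideal.ofList, Ideal.span_le]
    intro a ha
    obtain ⟨i, rfl⟩ := List.get_of_mem (show a ∈ l from ha)
    have : l.get i = ↑(hu i).unit⁻¹ * algebraMap P Pg (x i) := by simp [hxu, ← mul_assoc]
    rw [SetLike.mem_coe, this]
    exact Ideal.mul_mem_left _ _ (Ideal.mem_map_of_mem _ (Ideal.subset_span ⟨i, rfl⟩))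
  refine ⟨g, hg, l.length, x, hxI, hgen, ?_⟩
  obtain ⟨e₁⟩ := nonempty_awayEquiv x g
  let J := Ideal.span (Set.range x)
  let ψ : (P ⧸ J) →ₐ[R] S := Ideal.Quotient.liftₐ J α fun a ha =>
    (Ideal.span_le.mpr (by rintro _ ⟨i, rfl⟩; exact hxI i) : J ≤ I) ha
  let Ψ : Localization.Away (Ideal.Quotient.mk J g) →ₐ[R] Localization.Away (α g) :=
    IsLocalization.liftAlgHom (M := Submonoid.powers (Ideal.Quotient.mk J g))
      (f := (IsScalarTower.toAlgHom R S (Localization.Away (α g))).comp ψ) (by
      rintro ⟨y, m, rfl⟩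
      rw [map_pow]
      exact (IsLocalization.Away.algebraMap_isUnit (α g)).pow m)
  have hΨ : ∀ f : P, Ψ (algebraMap _ _ (Ideal.Quotient.mk J f)) = algebraMap S _ (α f) := fun f =>
    IsLocalization.lift_eq _ _
  have hinv : ∀ k : ℕ, IsUnit (algebraMap S (Localization.Away (α g)) (α g ^ k)) := fun k => by
    rw [map_pow]; exact (IsLocalization.Away.algebraMap_isUnit (α g)).pow k
  have hbij : Function.Bijective Ψ := by
    refine ⟨(injective_iff_map_eq_zero Ψ).mpr fun z hz => ?_, fun z => ?_⟩
    · obtain ⟨⟨a, ⟨_, k, rfl⟩⟩, hs⟩ := IsLocalization.surj (Submonoid.powers (Ideal.Quotient.mk J g)) z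
      obtain ⟨f, rfl⟩ := Ideal.Quotient.mk_surjective a
      have h0 : algebraMap S (Localization.Away (α g)) (α f) = 0 := by
        rw [← hΨ, ← hs, map_mul, hz, zero_mul]
      obtain ⟨⟨_, m, rfl⟩, hm⟩ := (IsLocalization.map_eq_zero_iff (Submonoid.powers (α g)) _ _).mp h0
      have h1 : g ^ m * f ∈ I := by
        show α (g ^ m * f) = 0
        rw [map_mul, map_pow]
        exact hm
      have h2 : algebraMap P Pg f ∈ J.map (algebraMap P Pg) := by
        rw [← hgen]
        exact (IsLocalization.algebraMap_mem_map_algebraMap_iff (Submonoid.powers g) Pg I f).mpr ⟨_, ⟨m, rfl⟩, h1⟩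
      obtain ⟨_, ⟨m', rfl⟩, hm'⟩ :=
        (IsLocalization.algebraMap_mem_map_algebraMap_iff (Submonoid.powers g) Pg J f).mp h2
      have h3 : algebraMap (P ⧸ J) (Localization.Away (Ideal.Quotient.mk J g)) (Ideal.Quotient.mk J f) = 0 :=
        (IsLocalization.map_eq_zero_iff (Submonoid.powers (Ideal.Quotient.mk J g)) _ _).mpr
          ⟨⟨_, m', rfl⟩, by
            show Ideal.Quotient.mk J g ^ m' * Ideal.Quotient.mk J f = 0
            rw [← map_pow, ← map_mul, Ideal.Quotient.eq_zero_iff_mem]
            exact hm'⟩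
      rw [h3] at hs
      exact (IsUnit.mul_left_eq_zero (IsLocalization.map_units _
        (⟨_, k, rfl⟩ : Submonoid.powers (Ideal.Quotient.mk J g)))).mp hs
    · obtain ⟨⟨b, ⟨_, k, rfl⟩⟩, hs⟩ := IsLocalization.surj (Submonoid.powers (α g)) z
      obtain ⟨f, rfl⟩ := hα b
      refine ⟨algebraMap _ _ (Ideal.Quotient.mk J f) * IsLocalization.Away.invSelf (Ideal.Quotient.mk J g) ^ k,
        (hinv k).mul_right_cancel ?_⟩
      dsimp only at hs
      rw [hs, ← map_pow α, ← hΨ (g ^ k), ← map_mul, ← hΨ]
      congr 1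
      rw [map_pow, map_pow, mul_assoc, ← mul_pow,
        mul_comm (IsLocalization.Away.invSelf _), IsLocalization.Away.mul_invSelf, one_pow, mul_one]
  let e : Localization.Away (α g) ≃ₐ[R] Synt.RelGCIRing R (n + 1) (l.length + 1) (snocSeq x g) :=
    (AlgEquiv.ofBijective Ψ hbij).symm.trans e₁
  haveI : Module.Flat S (Localization.Away (α g)) := IsLocalization.flat _ (Submonoid.powers (α g))
  haveI : Module.Flat R (Localization.Away (α g)) := Module.Flat.trans R S _
  haveI : Module.Flat R (Synt.RelGCIRing R (n + 1) (l.length + 1) (snocSeq x g)) :=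
    Module.Flat.of_linearEquiv e.symm.toLinearEquiv
  exact ⟨isRelGCI_of_koszul _ (isKoszulRegularSeq_snoc x g hk), ⟨e⟩⟩

/-- Syntomic algebras are locally relative global complete intersections. -/
theorem exists_relGCI_away {S : Type u} [CommRing S] [Algebra R S] (h : Synt.IsSyntomic R S) (q : Ideal S)
    [q.IsPrime] :
    ∃ g : S, g ∉ q ∧ ∃ (n c : ℕ) (F : Fin c → MvPolynomial (Fin n) R), Synt.IsRelGCI R n c F ∧
      Nonempty (Localization.Away g ≃ₐ[R] Synt.RelGCIRing R n c F) := by
  haveI := h.2.1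
  obtain ⟨n, α, hα⟩ := Algebra.FiniteType.iff_quotient_mvPolynomial''.mp (inferInstance : Algebra.FiniteType R S)
  obtain ⟨g, hg, c, x, -, -, hF, e⟩ := exists_presentation_away h α hα q
  exact ⟨α g, hg, n + 1, c + 1, snocSeq x g, hF, e⟩

end GrothLib.RelGCIReg
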