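import Groth.Agent.Lib.RelGCIReg.Conormal
import Groth.Agent.Lib.RelGCIReg.Local
import Groth.Agent.Lib.RelGCIReg.Finite
import Mathlib.RingTheory.Smooth.Flat
import Mathlib.Algebra.MvPolynomial.PDeriv
import Mathlib.RingTheory.Finiteness.Nakayama

/-!
# Freeing the conormal module of a syntomic algebra
-/

set_option autoImplicit false

universe u

open MvPolynomial

namespace GrothLib.RelGCIReg

/-- Minimal generators of the ideal of a Koszul regular sequence are Koszul regular. -/
theorem isKoszulRegularSeq_of_minimal {L : Type u} [CommRing L] [IsLocalRing L] {m c : ℕ} (x : Fin c → L)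
    (hx : LCI.IsKoszulRegularSeq L (List.ofFn x)) (hxm : ∀ i, x i ∈ IsLocalRing.maximalIdeal L)
    (h : Fin m → L) (hspan : Ideal.span (Set.range h) = Ideal.span (Set.range x))
    (hmin : ∀ a : Fin m → L, ∑ i, a i * h i = 0 → ∀ i, a i ∈ IsLocalRing.maximalIdeal L) :
    LCI.IsKoszulRegularSeq L (List.ofFn h) := by
  classical
  have h1 : ∀ i, ∃ t : Fin c → L, ∑ j, t j * x j = h i := fun i =>
    Ideal.mem_span_range_iff_exists_fun.mp (hspan ▸ Ideal.subset_span ⟨i, rfl⟩)
  have h2 : ∀ j, ∃ t : Fin m → L, ∑ i, t i * h i = x j := fun j =>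
    Ideal.mem_span_range_iff_exists_fun.mp (hspan.symm ▸ Ideal.subset_span ⟨j, rfl⟩)
  choose T hT using h1
  choose S hS using h2
  let Tm : Matrix (Fin m) (Fin c) L := Matrix.of T
  let Sm : Matrix (Fin c) (Fin m) L := Matrix.of S
  have hTv : Tm.mulVec x = h := funext fun i => hT i
  have hSv : Sm.mulVec h = x := funext fun j => hS j
  have hxmin : ∀ a : Fin c → L, ∑ i, a i * x i = 0 → ∀ i, a i ∈ IsLocalRing.maximalIdeal L := fun a ha i =>
    (Ideal.span_le.mpr (Set.range_subset_iff.mpr hxm))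
      (mem_of_sum_mul_mem_sq x (LCI6.isH1Regular_ofFn x hx) a (ha ▸ Ideal.zero_mem _) i)
  let res := IsLocalRing.residue L
  have hmap1 : Tm.map res * Sm.map res = 1 := by
    rw [← Matrix.map_mul, ← sub_eq_zero]
    ext i k
    have hz : ((Tm * Sm - 1).mulVec h) i = 0 := by
      rw [Matrix.sub_mulVec, ← Matrix.mulVec_mulVec, hSv, hTv, Matrix.one_mulVec, sub_self]
      rfl
    have := (IsLocalRing.residue_eq_zero_iff _).mpr (hmin _ hz k)
    simp only [Matrix.sub_apply, Matrix.map_apply, Matrix.zero_apply] at this ⊢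
    by_cases hik : i = k
    · subst hik; simpa [map_sub, res] using this
    · simpa [map_sub, res, Matrix.one_apply_ne hik] using this
  have hmap2 : Sm.map res * Tm.map res = 1 := by
    rw [← Matrix.map_mul, ← sub_eq_zero]
    ext i k
    have hz : ((Sm * Tm - 1).mulVec x) i = 0 := by
      rw [Matrix.sub_mulVec, ← Matrix.mulVec_mulVec, hTv, hSv, Matrix.one_mulVec, sub_self]
      rfl
    have := (IsLocalRing.residue_eq_zero_iff _).mpr (hxmin _ hz k)
    simp only [Matrix.sub_apply, Matrix.map_apply, Matrix.zero_apply] at this ⊢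
    by_cases hik : i = k
    · subst hik; simpa [map_sub, res] using this
    · simpa [map_sub, res, Matrix.one_apply_ne hik] using this
  have hcard := Matrix.square_of_invertible (Tm.map res) (Sm.map res) hmap1 hmap2
  simp only [Fintype.card_fin] at hcard
  subst hcard
  have hdet : IsUnit Tm.det := by
    refine IsUnit.of_map res _ ?_
    rw [RingHom.map_det]
    exact Matrix.isUnit_det_of_left_inverse hmap2
  have := LCI6.isKoszulRegularSeq_mulVec Tm hdet x hx
  rwa [hTv] at this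

/-- A lift of the projector of a splitting of the conormal module. -/
theorem exists_projector {R : Type u} [CommRing R] {n : ℕ} (J : Ideal (MvPolynomial (Fin n) R))
    (hfg : J.FG) (h : Synt.IsSyntomic R (MvPolynomial (Fin n) R ⧸ J)) :
    ∃ (m : ℕ) (f : Fin m → MvPolynomial (Fin n) R) (E : Matrix (Fin m) (Fin m) (MvPolynomial (Fin n) R))
      (φ : J →ₗ[MvPolynomial (Fin n) R] (Fin m → MvPolynomial (Fin n) R ⧸ J)),
      Ideal.span (Set.range f) = J ∧ (∀ i, f i - ∑ j, E i j * f j ∈ J * J) ∧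
      (∀ i (hi : f i ∈ J), φ ⟨f i, hi⟩ = fun k => Ideal.Quotient.mk J (E i k)) ∧
      (∀ i k, E i k - (E * E) i k ∈ J) := by
  classical
  let P := MvPolynomial (Fin n) R
  let B := P ⧸ J
  obtain ⟨m, f, hf⟩ := Submodule.fg_iff_exists_fin_generating_family.mp hfg
  have hfJ : ∀ i, f i ∈ J := fun i => hf ▸ Submodule.subset_span ⟨i, rfl⟩
  haveI := projective_cotangent J h
  let π : (Fin m → B) →ₗ[B] J.Cotangent := Fintype.linearCombination B fun i => J.toCotangent ⟨f i, hfJ i⟩
  have hπ : Function.Surjective π := fun y => by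
    obtain ⟨⟨z, hz⟩, rfl⟩ := J.toCotangent_surjective y
    obtain ⟨b, hb⟩ := (Submodule.mem_span_range_iff_exists_fun P).mp (hf.symm ▸ hz)
    refine ⟨fun i => Ideal.Quotient.mk J (b i), ?_⟩
    show Fintype.linearCombination B _ _ = _
    rw [Fintype.linearCombination_apply, show (⟨z, hz⟩ : J) = ∑ i, b i • ⟨f i, hfJ i⟩ from
      Subtype.ext (by simp [← hb]), map_sum]
    exact Finset.sum_congr rfl fun i _ => by rw [map_smul]; rfl
  obtain ⟨s, hs⟩ := Module.projective_lifting_property π LinearMap.id hπ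
  let φ : J →ₗ[P] (Fin m → B) := (s.restrictScalars P).comp J.toCotangent
  choose E hE using fun (i k : Fin m) => Ideal.Quotient.mk_surjective (φ ⟨f i, hfJ i⟩ k)
  have hsum : ∀ i, f i - ∑ j, E i j * f j ∈ J * J := by
    intro i
    rw [← pow_two]
    have hπφ : π (φ ⟨f i, hfJ i⟩) = J.toCotangent ⟨f i, hfJ i⟩ := LinearMap.congr_fun hs _
    rw [show π (φ ⟨f i, hfJ i⟩) = ∑ j, φ ⟨f i, hfJ i⟩ j • J.toCotangent ⟨f j, hfJ j⟩ from
      Fintype.linearCombination_apply _ _ _] at hπφ
    have he : J.toCotangent (∑ j, E i j • (⟨f j, hfJ j⟩ : J)) = J.toCotangent ⟨f i, hfJ i⟩ := by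
      rw [map_sum, ← hπφ]
      exact Finset.sum_congr rfl fun j _ => by rw [map_smul, ← hE i j]; rfl
    simpa using (Ideal.toCotangent_eq J).mp he.symm
  refine ⟨m, f, E, φ, hf, hsum, fun i _ => funext fun k => (hE i k).symm, fun i k => ?_⟩
  rw [← Ideal.Quotient.eq, hE]
  have he : J.toCotangent (∑ j, E i j • (⟨f j, hfJ j⟩ : J)) = J.toCotangent ⟨f i, hfJ i⟩ := by
    refine (Ideal.toCotangent_eq J).mpr ?_
    rw [pow_two, ← neg_sub]
    simpa using (J * J).neg_mem (hsum i)
  have h2 : φ ⟨f i, hfJ i⟩ = φ (∑ j, E i j • (⟨f j, hfJ j⟩ : J)) := by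
    show s (J.toCotangent _) = s (J.toCotangent _)
    rw [he]
  rw [h2, map_sum, Finset.sum_apply, Matrix.mul_apply, map_sum]
  refine Finset.sum_congr rfl fun j _ => ?_
  rw [map_smul, Pi.smul_apply, map_mul, hE j k]
  rfl

/-- Entries of a product with a vector lie in an ideal containing the products. -/
theorem mulVec_mem {S : Type*} [CommRing S] {m : ℕ} (M : Matrix (Fin m) (Fin m) S) (v : Fin m → S) (L : Ideal S)
    (i : Fin m) (hl : ∀ l, M i l * v l ∈ L) : M.mulVec v i ∈ L := by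
  rw [Matrix.mulVec_eq_sum, Finset.sum_apply]
  exact L.sum_mem fun l _ => by simpa [mul_comm] using hl l

/-- The generation identity. -/
theorem le_span_sup_sq {S : Type*} [CommRing S] {m : ℕ} (e : Matrix (Fin m) (Fin m) S) (a u w h : Fin m → S)
    (hw : w = u - e.mulVec u) (hh : h = e.mulVec a + (w - e.mulVec w)) (I : Ideal S)
    (hI : Ideal.span (Set.range a) = I) (he : ∀ i k, (e - e * e) i k ∈ I)
    (haa : ∀ i, (a - e.mulVec a) i ∈ I * I) :
    I ⊔ Ideal.span (Set.range w) ≤
      Ideal.span (Set.range h) ⊔ (I ⊔ Ideal.span (Set.range w)) * (I ⊔ Ideal.span (Set.range w)) := by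
  set J := I ⊔ Ideal.span (Set.range w)
  set K := Ideal.span (Set.range h) ⊔ J * J
  have hh' : ∀ i, h i ∈ K := fun i => Ideal.mem_sup_left (Ideal.subset_span ⟨i, rfl⟩)
  have hmv := @mulVec_mem S _ m
  have ida : a = e.mulVec h - (e - e * e).mulVec w + ((a - e.mulVec a) + (e - e * e).mulVec a) := by
    simp only [hh, Matrix.mulVec_add, Matrix.mulVec_sub, Matrix.sub_mulVec, Matrix.mulVec_mulVec]
    abel
  have idw : w = h - e.mulVec a + (e - e * e).mulVec u := by
    simp only [hh, hw, Matrix.mulVec_sub, Matrix.sub_mulVec, Matrix.mulVec_mulVec]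
    abel
  have haI : ∀ i, a i ∈ I := fun i => hI ▸ Ideal.subset_span ⟨i, rfl⟩
  have hwJ : ∀ i, w i ∈ J := fun i => Ideal.mem_sup_right (Ideal.subset_span ⟨i, rfl⟩)
  have haK : ∀ i, a i ∈ K := fun i => by
    rw [congrFun ida i]
    refine add_mem (sub_mem (hmv _ _ _ _ fun l => K.mul_mem_left _ (hh' l))
      (hmv _ _ _ _ fun l => Ideal.mem_sup_right (Ideal.mul_mem_mul (Ideal.mem_sup_left (he i l)) (hwJ l))))
      (add_mem (Ideal.mem_sup_right (Ideal.mul_mono le_sup_left le_sup_left (haa i)))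
      (hmv _ _ _ _ fun l => Ideal.mem_sup_right
        (Ideal.mul_mem_mul (Ideal.mem_sup_left (he i l)) (Ideal.mem_sup_left (haI l)))))
  have hIK : I ≤ K := hI ▸ Ideal.span_le.mpr (Set.range_subset_iff.mpr haK)
  refine sup_le hIK (Ideal.span_le.mpr (Set.range_subset_iff.mpr fun i => ?_))
  show w i ∈ K
  rw [congrFun idw i]
  exact add_mem (sub_mem (hh' i) (hmv _ _ _ _ fun l => K.mul_mem_left _ (haK l)))
    (hmv _ _ _ _ fun l => K.mul_mem_right _ (hIK (he i l)))

/-- The derivative of a relation. -/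
theorem sub_sum_mem {R S : Type*} [CommRing R] [CommRing S] [Algebra R S] {m : ℕ} (D : Derivation R S S)
    (e : Matrix (Fin m) (Fin m) S) (a u w h : Fin m → S)
    (hw : w = u - e.mulVec u) (hh : h = e.mulVec a + (w - e.mulVec w)) (k : Fin m)
    (hDe : ∀ i j, D (e i j) = 0) (hDa : ∀ i, D (a i) = 0)
    (hDu : ∀ i, D (u i) = (1 : Matrix (Fin m) (Fin m) S) i k)
    (J : Ideal S) (hhJ : ∀ i, h i ∈ J) (he : ∀ i, (e - e * e) i k ∈ J)
    (c : Fin m → S) (hc : ∑ i, c i * h i = 0) : c k - ∑ i, c i * e i k ∈ J := by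
  have hmul : ∀ (M : Matrix (Fin m) (Fin m) S) (v : Fin m → S), (∀ i j, D (M i j) = 0) → ∀ i,
      D ((M.mulVec v) i) = (M.mulVec fun j => D (v j)) i := fun M v hM i => by
    simp [Matrix.mulVec, dotProduct, Derivation.leibniz, hM]
  have hDu' : (fun j => D (u j)) = fun j => (1 : Matrix (Fin m) (Fin m) S) j k := funext hDu
  have hcol : ∀ (M N : Matrix (Fin m) (Fin m) S) (i : Fin m), (M.mulVec fun j => N j k) i = (M * N) i k :=
    fun M N i => by simp [Matrix.mulVec, dotProduct, Matrix.mul_apply]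
  have hDw : ∀ i, D (w i) = (1 - e : Matrix (Fin m) (Fin m) S) i k := fun i => by
    rw [hw, Pi.sub_apply, map_sub, hmul e u hDe, hDu, hDu', Matrix.sub_apply, hcol, mul_one]
  have hDh : ∀ i, D (h i) - (1 - e : Matrix (Fin m) (Fin m) S) i k = -(e - e * e) i k := fun i => by
    rw [hh, Pi.add_apply, Pi.sub_apply, map_add, map_sub, hmul e a hDe, hmul e w hDe, hDw, funext hDa,
      funext hDw, hcol, mul_sub, mul_one]
    simp only [Matrix.mulVec, dotProduct, mul_zero, Finset.sum_const_zero, Matrix.sub_apply]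
    ring
  have h0 : ∑ i, (c i * D (h i) + h i * D (c i)) = 0 := by
    simpa [Derivation.leibniz, smul_eq_mul] using congrArg D hc
  have hsum : ∑ i, c i * (1 - e : Matrix (Fin m) (Fin m) S) i k = c k - ∑ i, c i * e i k := by
    simp [Matrix.one_apply, mul_sub, Finset.sum_sub_distrib]
  rw [← hsum, show ∑ i, c i * (1 - e : Matrix (Fin m) (Fin m) S) i k =
      ∑ i, (c i * (e - e * e) i k - h i * D (c i)) + ∑ i, (c i * D (h i) + h i * D (c i)) by
    rw [← Finset.sum_add_distrib]
    refine Finset.sum_congr rfl fun i _ => ?_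
    have := hDh i
    linear_combination (-(c i)) * this, h0, add_zero]
  exact J.sum_mem fun i _ => sub_mem (J.mul_mem_left _ (he i)) (J.mul_mem_right _ (hhJ i))

/-- A linear map applied to the coefficients of a relation. -/
theorem sum_eq_zero_of_linear {P C T : Type*} [CommRing P] [CommRing C] [Fintype T] {σ : Type*}
    (J : Ideal P) (φ : J →ₗ[P] P ⧸ J) (ψ : P ⧸ J →+* C) (θ : MvPolynomial σ P →+* C)
    (hθ : ∀ p, θ (MvPolynomial.C p) = ψ (Ideal.Quotient.mk J p)) (A : T → MvPolynomial σ P) (b : T → J)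
    (h : ∑ t, A t * MvPolynomial.C (b t : P) = 0) : ∑ t, θ (A t) * ψ (φ (b t)) = 0 := by
  have h1 : ∑ t, MvPolynomial.map (Ideal.Quotient.mk J) (A t) * MvPolynomial.C (φ (b t)) = 0 := by
    refine MvPolynomial.ext _ _ fun d => ?_
    have h2 : ∑ t, coeff d (A t) • b t = 0 := by
      refine Subtype.ext ?_
      have := congrArg (coeff d) h
      simp only [coeff_sum, coeff_zero, mul_comm (A _), coeff_C_mul] at this
      simpa [mul_comm] using this
    have h3 := congrArg φ h2
    rw [map_sum, map_zero] at h3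
    rw [coeff_sum, coeff_zero, ← h3]
    refine Finset.sum_congr rfl fun t _ => ?_
    rw [map_smul, mul_comm, coeff_C_mul, MvPolynomial.coeff_map, mul_comm]
    rfl
  let θ' : MvPolynomial σ (P ⧸ J) →+* C := eval₂Hom ψ fun j => θ (X j)
  have hθ' : θ'.comp (MvPolynomial.map (Ideal.Quotient.mk J)) = θ := by
    refine MvPolynomial.ringHom_ext (fun p => ?_) fun j => ?_
    · simp [θ', hθ]
    · simp [θ']
  have h4 := congrArg θ' h1
  rw [map_sum, map_zero] at h4
  rw [← h4]
  refine Finset.sum_congr rfl fun t _ => ?_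
  rw [map_mul, ← hθ']
  simp [θ']

namespace FreeCon

variable (R : Type u) [CommRing R] (n m : ℕ)

/-- The inclusion of the variables. -/
noncomputable def incl : MvPolynomial (Fin n) R →ₐ[R] MvPolynomial (Fin (n + m)) R :=
  rename (Fin.castAdd m)

variable {R n m} (E : Matrix (Fin m) (Fin m) (MvPolynomial (Fin n) R)) (f : Fin m → MvPolynomial (Fin n) R)

/-- The new variables. -/
noncomputable def uVec : Fin m → MvPolynomial (Fin (n + m)) R := fun j => X (Fin.natAdd n j)

/-- The lifted projector. -/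
noncomputable def eMat : Matrix (Fin m) (Fin m) (MvPolynomial (Fin (n + m)) R) := E.map (incl R n m)

/-- The relations of the kernel of the projector. -/
noncomputable def wVec : Fin m → MvPolynomial (Fin (n + m)) R := uVec - (eMat E).mulVec uVec

/-- The free generators. -/
noncomputable def hVec : Fin m → MvPolynomial (Fin (n + m)) R :=
  (eMat E).mulVec (fun j => incl R n m (f j)) + (wVec E - (eMat E).mulVec (wVec E))

/-- The ideal of the retract. -/
noncomputable def bigIdeal (J : Ideal (MvPolynomial (Fin n) R)) : Ideal (MvPolynomial (Fin (n + m)) R) :=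
  J.map (incl R n m) ⊔ Ideal.span (Set.range (wVec E))

/-- The splitting. -/
noncomputable def tau : MvPolynomial (Fin (n + m)) R →ₐ[R] MvPolynomial (Fin m) (MvPolynomial (Fin n) R) :=
  aeval (Fin.addCases (fun i => MvPolynomial.C (X i)) fun j => ((E.map MvPolynomial.C).mulVec X) j)

theorem tau_incl (p : MvPolynomial (Fin n) R) : tau E (incl R n m p) = MvPolynomial.C p := by
  have : (tau E).comp (incl R n m) = IsScalarTower.toAlgHom R (MvPolynomial (Fin n) R)
      (MvPolynomial (Fin m) (MvPolynomial (Fin n) R)) := MvPolynomial.algHom_ext fun i => by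
    show tau E (rename (Fin.castAdd m) (X i)) = MvPolynomial.C (X i)
    rw [rename_X]
    simp [tau]
  exact AlgHom.congr_fun this p

theorem tau_uVec (j : Fin m) : tau E (uVec j) = ((E.map MvPolynomial.C).mulVec X) j := by
  simp [tau, uVec]

theorem tau_mulVec (M : Matrix (Fin m) (Fin m) (MvPolynomial (Fin n) R))
    (v : Fin m → MvPolynomial (Fin (n + m)) R) (i : Fin m) :
    tau E (((M.map (incl R n m)).mulVec v) i) = ((M.map MvPolynomial.C).mulVec fun j => tau E (v j)) i := by
  simp [Matrix.mulVec, dotProduct, tau_incl]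

/-- The part of the splitting killed by the projection. -/
noncomputable def yVec : Fin m → MvPolynomial (Fin m) (MvPolynomial (Fin n) R) :=
  X - (E.map MvPolynomial.C).mulVec X

theorem tau_wVec (i : Fin m) :
    tau E (wVec E i) = (((E - E * E).map MvPolynomial.C).mulVec X) i := by
  rw [wVec, Pi.sub_apply, map_sub, eMat, tau_mulVec, funext (tau_uVec E), tau_uVec, Matrix.mulVec_mulVec,
    ← Pi.sub_apply, ← Matrix.sub_mulVec]
  congr 2
  rw [← Matrix.map_mul, Matrix.map_sub _ (map_sub _)]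

theorem tau_hVec (i : Fin m) :
    tau E (hVec E f i) = ((E.map MvPolynomial.C).mulVec fun j => MvPolynomial.C (f j)) i +
      (((E - E * E).map MvPolynomial.C).mulVec (yVec E)) i := by
  simp only [hVec, Pi.add_apply, Pi.sub_apply, map_add, map_sub, eMat, tau_mulVec, tau_wVec, tau_incl]
  rw [← Pi.sub_apply]
  congr 2
  rw [yVec, Matrix.mulVec_sub, Matrix.mulVec_mulVec, Matrix.mulVec_mulVec, Matrix.map_sub _ (map_sub _),
    Matrix.map_mul, mul_sub, sub_mul, mul_assoc]

theorem hVec_mem (J : Ideal (MvPolynomial (Fin n) R)) (hf : ∀ i, f i ∈ J) (i : Fin m) :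
    hVec E f i ∈ bigIdeal E J := by
  have hw : ∀ j, wVec E j ∈ bigIdeal E J := fun j => Ideal.mem_sup_right (Ideal.subset_span ⟨j, rfl⟩)
  exact add_mem (mulVec_mem _ _ _ _ fun j => Ideal.mul_mem_left _ _
    (Ideal.mem_sup_left (Ideal.mem_map_of_mem _ (hf j))))
    (sub_mem (hw i) (mulVec_mem _ _ _ _ fun j => Ideal.mul_mem_left _ _ (hw j)))

theorem pderiv_incl (j : Fin m) (p : MvPolynomial (Fin n) R) :
    pderiv (Fin.natAdd n j) (incl R n m p) = 0 := by
  classical
  refine pderiv_eq_zero_of_notMem_vars fun hv => ?_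
  obtain ⟨i, -, hi⟩ := Finset.mem_image.mp (vars_rename (Fin.castAdd m) p hv)
  have := congrArg Fin.val hi
  simp at this
  omega

theorem eMat_sub_mem (J : Ideal (MvPolynomial (Fin n) R)) (hE : ∀ i k, E i k - (E * E) i k ∈ J) (i k : Fin m) :
    (eMat E - eMat E * eMat E) i k ∈ J.map (incl R n m) := by
  rw [eMat, ← Matrix.map_mul, ← Matrix.map_sub _ (map_sub _), Matrix.map_apply]
  exact Ideal.mem_map_of_mem _ (hE i k)

theorem bigIdeal_le (J : Ideal (MvPolynomial (Fin n) R)) (hf : Ideal.span (Set.range f) = J)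
    (hE : ∀ i k, E i k - (E * E) i k ∈ J) (hEf : ∀ i, f i - ∑ j, E i j * f j ∈ J * J) :
    bigIdeal E J ≤ Ideal.span (Set.range (hVec E f)) ⊔ bigIdeal E J * bigIdeal E J := by
  refine le_span_sup_sq (eMat E) (fun j => incl R n m (f j)) uVec (wVec E) (hVec E f) rfl rfl _ ?_
    (eMat_sub_mem E J hE) fun i => ?_
  · rw [← hf, Ideal.map_span, ← Set.range_comp]
    rfl
  · rw [← Ideal.map_mul]
    convert Ideal.mem_map_of_mem (incl R n m) (hEf i) using 1
    simp [eMat, Matrix.mulVec, dotProduct]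

theorem indep (J : Ideal (MvPolynomial (Fin n) R)) (hfJ : ∀ i, f i ∈ J)
    (φ : J →ₗ[MvPolynomial (Fin n) R] (Fin m → MvPolynomial (Fin n) R ⧸ J))
    (hφ : ∀ i (hi : f i ∈ J), φ ⟨f i, hi⟩ = fun k => Ideal.Quotient.mk J (E i k))
    (hE : ∀ i k, E i k - (E * E) i k ∈ J)
    (a : Fin m → MvPolynomial (Fin (n + m)) R) (ha : ∑ i, a i * hVec E f i = 0) (k : Fin m) :
    a k ∈ bigIdeal E J := by
  classical
  have hE' : ∀ i l, (eMat E - eMat E * eMat E) i l ∈ bigIdeal E J := fun i l =>
    Ideal.mem_sup_left (eMat_sub_mem E J hE i l)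
  have hder : a k - ∑ i, a i * eMat E i k ∈ bigIdeal E J := by
    refine sub_sum_mem (pderiv (Fin.natAdd n k)) (eMat E) (fun j => incl R n m (f j)) uVec (wVec E)
      (hVec E f) rfl rfl k (fun i j => pderiv_incl k (E i j)) (fun i => pderiv_incl k (f i)) (fun i => ?_)
      _ (hVec_mem E f J hfJ) (fun i => hE' i k) a ha
    by_cases hik : i = k
    · subst hik
      rw [Matrix.one_apply_eq]
      exact pderiv_X_self _
    · rw [Matrix.one_apply_ne hik]
      exact pderiv_X_of_ne fun hh => hik (Fin.natAdd_injective _ _ hh)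
  let mk' := Ideal.Quotient.mkₐ R (bigIdeal E J)
  let ψ : MvPolynomial (Fin n) R ⧸ J →+* MvPolynomial (Fin (n + m)) R ⧸ bigIdeal E J :=
    Ideal.Quotient.lift J (mk'.comp (incl R n m)).toRingHom fun p hp =>
      Ideal.Quotient.eq_zero_iff_mem.mpr (Ideal.mem_sup_left (Ideal.mem_map_of_mem _ hp))
  let θ : MvPolynomial (Fin m) (MvPolynomial (Fin n) R) →+* MvPolynomial (Fin (n + m)) R ⧸ bigIdeal E J :=
    eval₂Hom (mk'.comp (incl R n m)).toRingHom fun j => mk' (uVec j)
  have hθC : ∀ p, θ (MvPolynomial.C p) = ψ (Ideal.Quotient.mk J p) := fun p => eval₂Hom_C _ _ p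
  have hu : ∀ j, mk' (((eMat E).mulVec uVec) j) = mk' (uVec j) := fun j => by
    refine (Ideal.Quotient.eq.mpr ?_).symm
    exact Ideal.mem_sup_right (Ideal.subset_span ⟨j, rfl⟩)
  have hθM : ∀ (M : Matrix (Fin m) (Fin m) (MvPolynomial (Fin n) R)) j,
      θ (((M.map MvPolynomial.C).mulVec X) j) = mk' (((M.map (incl R n m)).mulVec uVec) j) := fun M j => by
    simp [θ, Matrix.mulVec, dotProduct]
  have hθτ : ∀ p, θ (tau E p) = mk' p := by
    intro p
    refine RingHom.congr_fun (f := θ.comp (tau E).toRingHom) (g := mk'.toRingHom) ?_ p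
    refine MvPolynomial.ringHom_ext (fun r => ?_) fun i => ?_
    · show θ (tau E (MvPolynomial.C r)) = mk' (MvPolynomial.C r)
      rw [show (MvPolynomial.C r : MvPolynomial (Fin (n + m)) R) = incl R n m (MvPolynomial.C r) from
        (rename_C _ _).symm, tau_incl, hθC]
      rfl
    · induction i using Fin.addCases with
      | left i =>
        show θ (tau E (X (Fin.castAdd m i))) = mk' (X (Fin.castAdd m i))
        rw [show (X (Fin.castAdd m i) : MvPolynomial (Fin (n + m)) R) = incl R n m (X i) from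
          (rename_X _ _).symm, tau_incl, hθC]
        rfl
      | right j =>
        show θ (tau E (uVec j)) = mk' (uVec j)
        rw [tau_uVec, hθM]
        exact hu j
  have hY : ∀ j, θ (yVec E j) = 0 := fun j => by
    rw [yVec, Pi.sub_apply, map_sub, hθM, show θ (X j) = mk' (uVec j) from eval₂Hom_X' _ _ j]
    exact sub_eq_zero.mpr (hu j).symm
  have h0 := congrArg (tau E) ha
  rw [map_sum, map_zero] at h0
  let A : Fin m × Fin m ⊕ Fin m × Fin m → MvPolynomial (Fin m) (MvPolynomial (Fin n) R) :=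
    Sum.elim (fun p => tau E (a p.1) * MvPolynomial.C (E p.1 p.2)) fun p => tau E (a p.1) * yVec E p.2
  let b : Fin m × Fin m ⊕ Fin m × Fin m → J :=
    Sum.elim (fun p => ⟨f p.2, hfJ p.2⟩) fun p => ⟨(E - E * E) p.1 p.2, hE p.1 p.2⟩
  have hzero : ∑ t, A t * MvPolynomial.C (b t : MvPolynomial (Fin n) R) = 0 := by
    rw [← h0, Fintype.sum_sum_type, Fintype.sum_prod_type, Fintype.sum_prod_type, ← Finset.sum_add_distrib]
    refine Finset.sum_congr rfl fun i _ => ?_
    rw [map_mul, tau_hVec]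
    simp only [A, b, Sum.elim_inl, Sum.elim_inr, Matrix.mulVec, dotProduct, Matrix.map_apply, mul_add,
      Finset.mul_sum]
    congr 1 <;> refine Finset.sum_congr rfl fun j _ => ?_ <;> ring
  have h1 := sum_eq_zero_of_linear J ((LinearMap.proj k).comp φ) ψ θ hθC A b hzero
  simp only [Fintype.sum_sum_type, Fintype.sum_prod_type, A, b, Sum.elim_inl, Sum.elim_inr, map_mul, hY,
    mul_zero, zero_mul, Finset.sum_const_zero, add_zero, hθτ, hθC, LinearMap.coe_comp, Function.comp_apply,
    LinearMap.proj_apply, hφ] at h1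
  have h2 : mk' (∑ i, a i * (eMat E * eMat E) i k) = 0 := by
    rw [← h1, map_sum]
    refine Finset.sum_congr rfl fun i _ => ?_
    rw [Matrix.mul_apply, map_mul, map_sum, Finset.mul_sum]
    refine Finset.sum_congr rfl fun j _ => ?_
    rw [map_mul, ← mul_assoc]
    rfl
  have h3 : ∑ i, a i * eMat E i k ∈ bigIdeal E J := by
    have := add_mem (Ideal.Quotient.eq_zero_iff_mem.mp h2)
      (Ideal.sum_mem (bigIdeal E J) (t := Finset.univ) (f := fun i => a i * (eMat E - eMat E * eMat E) i k)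
        fun i _ => Ideal.mul_mem_left _ _ (hE' i k))
    rwa [← Finset.sum_add_distrib, Finset.sum_congr rfl fun i _ => by
      rw [← mul_add, Matrix.sub_apply, add_sub_cancel]] at this
  simpa using add_mem hder h3

end FreeCon

/-- A complete intersection up to a basic open with independent generators is Koszul regular. -/
theorem isKoszulRegularSeq_away_of_indep {S : Type u} [CommRing S] {m : ℕ} (h : Fin m → S) (J : Ideal S)
    (hH : Ideal.span (Set.range h) ≤ J) (g : S) (hgJ : ∀ p ∈ J, g * p ∈ Ideal.span (Set.range h))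
    (hK : ∀ q : Ideal S, ∀ [q.IsPrime], J ≤ q → LCI6.KRegAt J q)
    (hindep : ∀ a : Fin m → S, ∑ i, a i * h i = 0 → ∀ i, a i ∈ J) :
    LCI.IsKoszulRegularSeq (Localization.Away g)
      (List.ofFn fun i => algebraMap S (Localization.Away g) (h i)) := by
  refine GrothLib.KoszulColon.isKoszulRegularSeq_of_localized _ fun q hq hlq => ?_
  let q₀ := q.comap (algebraMap S (Localization.Away g))
  haveI : q₀.IsPrime := Ideal.IsPrime.comap _
  let L := Localization.AtPrime q₀
  haveI : IsLocalization.AtPrime (Localization.AtPrime q) q₀ :=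
    IsLocalization.isLocalization_isLocalization_atPrime_isLocalization (Submonoid.powers g)
      (S := Localization.Away g) (Localization.AtPrime q) q
  let ε : L ≃ₐ[S] Localization.AtPrime q := IsLocalization.algEquiv q₀.primeCompl L (Localization.AtPrime q)
  have hgq : g ∉ q₀ := fun hm =>
    hq.ne_top (Ideal.eq_top_of_isUnit_mem q hm (IsLocalization.Away.algebraMap_isUnit g))
  have hJq : J ≤ q₀ := fun p hp => by
    have hHq : Ideal.span (Set.range h) ≤ q₀ := Ideal.span_le.mpr (Set.range_subset_iff.mpr fun i =>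
      hlq (Ideal.subset_span (List.mem_ofFn.mpr ⟨i, rfl⟩)))
    exact (Ideal.IsPrime.mem_or_mem inferInstance (hHq (hgJ p hp))).resolve_left hgq
  obtain ⟨g', hg', l, hl, hIl⟩ := hK q₀ hJq
  obtain ⟨l', -, hl', hI'⟩ := LCI6.exists_atPrime_list g' l hl hIl q₀ hg'
  have hlget : Ideal.ofList l' = Ideal.span (Set.range l'.get) := by
    rw [Set.range_list_get]
  have hmax : ∀ i, l'.get i ∈ IsLocalRing.maximalIdeal L := fun i => by
    rw [← Localization.AtPrime.map_eq_maximalIdeal]
    exact Ideal.map_mono hJq (hI' ▸ Ideal.subset_span (List.get_mem l' i))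
  have hspan : Ideal.span (Set.range fun i => algebraMap S L (h i)) = Ideal.span (Set.range l'.get) := by
    rw [← hlget, ← hI', Set.range_comp', ← Ideal.map_span]
    refine le_antisymm (Ideal.map_mono hH) (Ideal.map_le_iff_le_comap.mpr fun p hp => ?_)
    rw [Ideal.mem_comap, ← Ideal.unit_mul_mem_iff_mem _
      (IsLocalization.map_units L (⟨g, hgq⟩ : q₀.primeCompl)), ← map_mul]
    exact Ideal.mem_map_of_mem _ (hgJ p hp)
  have hmin : ∀ A : Fin m → L, ∑ i, A i * algebraMap S L (h i) = 0 →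
      ∀ i, A i ∈ IsLocalRing.maximalIdeal L := by
    intro A hA i
    obtain ⟨s, hs⟩ := IsLocalization.exist_integer_multiples_of_finite q₀.primeCompl A
    choose b hb using hs
    have h0 : algebraMap S L (∑ i, b i * h i) = 0 := by
      rw [map_sum, ← mul_zero (algebraMap S L (s : S)), ← hA, Finset.mul_sum]
      refine Finset.sum_congr rfl fun i _ => ?_
      rw [map_mul, hb, Algebra.smul_def, mul_assoc]
    obtain ⟨v, hv⟩ := (IsLocalization.map_eq_zero_iff q₀.primeCompl L _).mp h0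
    have hmem := hindep (fun i => (v : S) * b i) (by
      rw [← hv, Finset.mul_sum]
      exact Finset.sum_congr rfl fun i _ => mul_assoc _ _ _) i
    have hbq : b i ∈ q₀ := (Ideal.IsPrime.mem_or_mem inferInstance (hJq hmem)).resolve_left v.2
    refine (Ideal.unit_mul_mem_iff_mem _ (IsLocalization.map_units L s)).mp ?_
    rw [← Algebra.smul_def, ← hb i, ← Localization.AtPrime.map_eq_maximalIdeal]
    exact Ideal.mem_map_of_mem _ hbq
  have hK1 := isKoszulRegularSeq_of_minimal l'.get (by rwa [List.ofFn_get]) hmax _ hspan hmin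
  have hK' := LCI6.isKoszulRegularSeq_equiv ε.toRingEquiv _ hK1
  rw [List.map_ofFn] at hK'
  rw [List.map_ofFn]
  refine (congrArg (LCI.IsKoszulRegularSeq _) (congrArg List.ofFn (funext fun i => ?_))).mp hK'
  show ε (algebraMap S L (h i)) = algebraMap (Localization.Away g) _ (algebraMap S _ (h i))
  rw [AlgEquiv.commutes, ← IsScalarTower.algebraMap_apply]

/-- An ideal equal to a smaller one near the closed subscheme it defines. -/
theorem exists_mul_mem_of_le_sup_sq {S : Type*} [CommRing S] (H J : Ideal S) (hH : H ≤ J) (hfg : (J.map (Ideal.Quotient.mk H)).FG)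
    (h : J ≤ H ⊔ J * J) : ∃ g, g - 1 ∈ J ∧ ∀ p ∈ J, g * p ∈ H := by
  let J'' : Ideal (S ⧸ H) := J.map (Ideal.Quotient.mk H)
  have hJ'' : J'' ≤ J'' • J'' := by
    rw [smul_eq_mul, ← Ideal.map_mul]
    refine (Ideal.map_mono h).trans ?_
    rw [Ideal.map_sup, Ideal.map_quotient_self, bot_sup_eq]
  obtain ⟨r, hr1, hr2⟩ := Submodule.exists_sub_one_mem_and_smul_eq_zero_of_fg_of_le_smul J'' J''
    hfg hJ''
  obtain ⟨g, rfl⟩ := Ideal.Quotient.mk_surjective r
  refine ⟨g, ?_, fun p hp => ?_⟩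
  · have : g - 1 ∈ J''.comap (Ideal.Quotient.mk H) := by
      rw [Ideal.mem_comap, map_sub, map_one]
      exact hr1
    rwa [Ideal.comap_map_of_surjective' _ Ideal.Quotient.mk_surjective, Ideal.mk_ker, sup_eq_left.mpr hH] at this
  · rw [← Ideal.Quotient.eq_zero_iff_mem, map_mul]
    exact hr2 _ (Ideal.mem_map_of_mem _ hp)

/-- The basic open of such an element. -/
theorem nonempty_algEquiv_away_of_le {R S : Type*} [CommRing R] [CommRing S] [Algebra R S] (H J : Ideal S)
    (hH : H ≤ J) (g : S) (hg1 : g - 1 ∈ J) (hgJ : ∀ p ∈ J, g * p ∈ H) :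
    Nonempty (Localization.Away (Ideal.Quotient.mk H g) ≃ₐ[R] S ⧸ J) := by
  let h₀ : S ⧸ H := Ideal.Quotient.mk H g
  let ψ : (S ⧸ H) →ₐ[R] S ⧸ J := Ideal.Quotient.liftₐ H (Ideal.Quotient.mkₐ R J) fun z hz =>
    Ideal.Quotient.eq_zero_iff_mem.mpr (hH hz)
  have hψg : ψ h₀ = 1 := by
    show Ideal.Quotient.mk J g = 1
    rw [← map_one (Ideal.Quotient.mk J)]
    exact Ideal.Quotient.eq.mpr hg1
  let Ψ : Localization.Away h₀ →ₐ[R] S ⧸ J :=
    IsLocalization.liftAlgHom (M := Submonoid.powers h₀) (f := ψ) (by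
      rintro ⟨z, j, rfl⟩
      rw [map_pow, hψg, one_pow]
      exact isUnit_one)
  have hΨ : ∀ z, Ψ (algebraMap _ _ z) = ψ z := fun z => IsLocalization.lift_eq _ z
  refine ⟨AlgEquiv.ofBijective Ψ ⟨(injective_iff_map_eq_zero Ψ).mpr fun z hz => ?_, fun b => ?_⟩⟩
  · obtain ⟨⟨q, ⟨_, j, rfl⟩⟩, hs⟩ := IsLocalization.surj (Submonoid.powers h₀) z
    obtain ⟨p, rfl⟩ := Ideal.Quotient.mk_surjective q
    have hp : p ∈ J := by
      rw [← Ideal.Quotient.eq_zero_iff_mem]
      show ψ (Ideal.Quotient.mk H p) = 0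
      rw [← hΨ, ← hs, map_mul, hz, zero_mul]
    have h0 : algebraMap (S ⧸ H) (Localization.Away h₀) (Ideal.Quotient.mk H p) = 0 :=
      (IsLocalization.map_eq_zero_iff (Submonoid.powers h₀) _ _).mpr ⟨⟨h₀, 1, pow_one _⟩, by
        show Ideal.Quotient.mk H g * Ideal.Quotient.mk H p = 0
        rw [← map_mul, Ideal.Quotient.eq_zero_iff_mem]
        exact hgJ p hp⟩
    rw [h0] at hs
    exact (IsUnit.mul_left_eq_zero (IsLocalization.map_units _ (⟨_, j, rfl⟩ : Submonoid.powers h₀))).mp hs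
  · obtain ⟨p, rfl⟩ := Ideal.Quotient.mk_surjective b
    exact ⟨algebraMap (S ⧸ H) _ (Ideal.Quotient.mk H p), hΨ _⟩

open FreeCon in
/-- The retract attached to a projector is smooth. -/
theorem smooth_bigIdeal {R : Type u} [CommRing R] {n m : ℕ} (J : Ideal (MvPolynomial (Fin n) R))
    (hfg : J.FG) (E : Matrix (Fin m) (Fin m) (MvPolynomial (Fin n) R))
    (hE : ∀ i k, E i k - (E * E) i k ∈ J) :
    ∃ (ι : (MvPolynomial (Fin n) R ⧸ J) →ₐ[R] MvPolynomial (Fin (n + m)) R ⧸ bigIdeal E J)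
      (ρ : (MvPolynomial (Fin (n + m)) R ⧸ bigIdeal E J) →ₐ[R] MvPolynomial (Fin n) R ⧸ J),
      ι.toRingHom.Smooth ∧ (∀ a, ρ (ι a) = a) ∧
      (∀ p, ι (Ideal.Quotient.mk J p) = Ideal.Quotient.mk (bigIdeal E J) (incl R n m p)) ∧
      ∀ j, ρ (Ideal.Quotient.mk (bigIdeal E J) (uVec j)) = 0 := by
  classical
  let B := MvPolynomial (Fin n) R ⧸ J
  let P' := MvPolynomial (Fin (n + m)) R
  let J' : Ideal P' := bigIdeal E J
  let C := P' ⧸ J'
  let mk' : P' →ₐ[R] C := Ideal.Quotient.mkₐ R J'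
  let ι : B →ₐ[R] C := Ideal.Quotient.liftₐ J (mk'.comp (incl R n m)) fun p hp =>
    Ideal.Quotient.eq_zero_iff_mem.mpr (Ideal.mem_sup_left (Ideal.mem_map_of_mem _ hp))
  letI : Algebra B C := ι.toRingHom.toAlgebra
  haveI : IsScalarTower R B C := IsScalarTower.of_algebraMap_eq fun r => (ι.commutes r).symm
  let D := MvPolynomial (Fin m) B
  let π₀ : D →ₐ[B] C := aeval fun j => mk' (uVec j)
  let σ₀ : P' →ₐ[R] D := (MvPolynomial.mapAlgHom (Ideal.Quotient.mkₐ R J)).comp (tau E)
  have hσι : ∀ p, σ₀ (incl R n m p) = MvPolynomial.C (Ideal.Quotient.mk J p) := fun p => by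
    show MvPolynomial.map _ (tau E (incl R n m p)) = _
    rw [tau_incl, map_C]
    rfl
  let σ : C →ₐ[R] D := Ideal.Quotient.liftₐ J' σ₀ fun p hp => by
    refine (sup_le ?_ ?_ : J' ≤ RingHom.ker σ₀.toRingHom) hp
    · rw [Ideal.map_le_iff_le_comap]
      intro q hq
      show σ₀ (incl R n m q) = 0
      rw [hσι, Ideal.Quotient.eq_zero_iff_mem.mpr hq, map_zero]
    · rw [Ideal.span_le]
      rintro _ ⟨i, rfl⟩
      show MvPolynomial.map _ (tau E (wVec E i)) = 0
      rw [tau_wVec, Matrix.mulVec, dotProduct, map_sum]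
      refine Finset.sum_eq_zero fun j _ => ?_
      rw [map_mul, Matrix.map_apply, map_C]
      have : Ideal.Quotient.mk J ((E - E * E) i j) = 0 := Ideal.Quotient.eq_zero_iff_mem.mpr (hE i j)
      rw [show ((Ideal.Quotient.mkₐ R J : MvPolynomial (Fin n) R →+* B)) ((E - E * E) i j) = 0 from this,
        map_zero, zero_mul]
  let σB : C →ₐ[B] D := AlgHom.mk σ.toRingHom fun b => by
    obtain ⟨p, rfl⟩ := Ideal.Quotient.mk_surjective b
    exact hσι p
  have hu : ∀ j, mk' (uVec j) = mk' (((eMat E).mulVec uVec) j) := fun j =>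
    Ideal.Quotient.eq.mpr (Ideal.mem_sup_right (Ideal.subset_span ⟨j, rfl⟩))
  have hπσ₀ : (π₀.restrictScalars R).comp σ₀ = mk' := MvPolynomial.algHom_ext fun i => by
    induction i using Fin.addCases with
    | left i =>
      show π₀ (σ₀ (X (Fin.castAdd m i))) = _
      rw [show (X (Fin.castAdd m i) : P') = incl R n m (X i) from (rename_X _ _).symm, hσι,
        show π₀ (MvPolynomial.C (Ideal.Quotient.mk J (X i))) = ι (Ideal.Quotient.mk J (X i)) from aeval_C _ _]
      rfl
    | right j =>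
      show π₀ (MvPolynomial.map _ (tau E (uVec j))) = mk' (uVec j)
      rw [tau_uVec, hu]
      simp only [Matrix.mulVec, dotProduct, map_sum, map_mul, Matrix.map_apply, map_C, map_X]
      refine Finset.sum_congr rfl fun x _ => ?_
      rw [show π₀ (MvPolynomial.C ((Ideal.Quotient.mkₐ R J : MvPolynomial (Fin n) R →+* B) (E j x))) =
          algebraMap B C (Ideal.Quotient.mk J (E j x)) from aeval_C _ _,
        show π₀ (X x) = mk' (uVec x) from aeval_X _ _]
      rfl
  have hπσ : ∀ x, π₀ (σB x) = x := fun x => by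
    obtain ⟨p, rfl⟩ := Ideal.Quotient.mk_surjective x
    exact AlgHom.congr_fun hπσ₀ p
  have hJ'fg : J'.FG := Submodule.FG.sup (hfg.map _) (Submodule.fg_span (Set.finite_range _))
  haveI : Algebra.FinitePresentation R C := Algebra.FinitePresentation.of_surjective
    (Ideal.Quotient.mkₐ_surjective R J') (by
      rw [show RingHom.ker (Ideal.Quotient.mkₐ R J').toRingHom = J' from Ideal.mk_ker]
      exact hJ'fg)
  haveI : Algebra.FiniteType R B := inferInstance
  haveI : Algebra.FinitePresentation B C :=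
    Algebra.FinitePresentation.of_restrict_scalars_finitePresentation R B C
  haveI : Algebra.FormallySmooth B C := Algebra.FormallySmooth.of_comp_surjective fun B₀ _ _ I hI g => by
    obtain ⟨g₁, hg₁⟩ := Algebra.FormallySmooth.comp_surjective B D I hI (g.comp π₀)
    refine ⟨g₁.comp σB, AlgHom.ext fun x => ?_⟩
    show Ideal.Quotient.mk I (g₁ (σB x)) = g x
    rw [show Ideal.Quotient.mk I (g₁ (σB x)) = g (π₀ (σB x)) from AlgHom.congr_fun hg₁ (σB x), hπσ]
  haveI : Algebra.Smooth B C := ⟨inferInstance, inferInstance⟩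
  refine ⟨ι, ((aeval (fun _ : Fin m => (0 : B))).restrictScalars R).comp σ,
    (show Algebra.Smooth B C from inferInstance), fun b => ?_, fun p => rfl, fun j => ?_⟩
  · obtain ⟨p, rfl⟩ := Ideal.Quotient.mk_surjective b
    show aeval _ (σ₀ (incl R n m p)) = _
    rw [hσι, aeval_C]
    rfl
  · show aeval _ (MvPolynomial.map _ (tau E (uVec j))) = 0
    rw [tau_uVec, Matrix.mulVec, dotProduct, map_sum, map_sum]
    exact Finset.sum_eq_zero fun x _ => by
      rw [map_mul, map_X, map_mul, aeval_X, mul_zero]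

open FreeCon in
/-- The retract of a syntomic algebra is a relative global complete intersection. -/
theorem exists_relGCI_bigIdeal {R : Type u} [CommRing R] {n m : ℕ} (J : Ideal (MvPolynomial (Fin n) R))
    (hfg : J.FG) (hsyn : Synt.IsSyntomic R (MvPolynomial (Fin n) R ⧸ J))
    (f : Fin m → MvPolynomial (Fin n) R) (E : Matrix (Fin m) (Fin m) (MvPolynomial (Fin n) R))
    (φ : J →ₗ[MvPolynomial (Fin n) R] (Fin m → MvPolynomial (Fin n) R ⧸ J))
    (hf : Ideal.span (Set.range f) = J) (hEf : ∀ i, f i - ∑ j, E i j * f j ∈ J * J)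
    (hφ : ∀ i (hi : f i ∈ J), φ ⟨f i, hi⟩ = fun k => Ideal.Quotient.mk J (E i k))
    (hE : ∀ i k, E i k - (E * E) i k ∈ J) :
    ∃ g, Synt.IsRelGCI R (n + m + 1) (m + 1) (snocSeq (hVec E f) g) ∧
      Nonempty ((MvPolynomial (Fin (n + m)) R ⧸ bigIdeal E J) ≃ₐ[R]
        Synt.RelGCIRing R (n + m + 1) (m + 1) (snocSeq (hVec E f) g)) := by
  classical
  have hfJ : ∀ i, f i ∈ J := fun i => hf ▸ Ideal.subset_span ⟨i, rfl⟩
  let P' := MvPolynomial (Fin (n + m)) R
  let J' : Ideal P' := bigIdeal E J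
  let C := P' ⧸ J'
  let mk' : P' →ₐ[R] C := Ideal.Quotient.mkₐ R J'
  obtain ⟨ι, ρ, hι, -, -, -⟩ := smooth_bigIdeal J hfg E hE
  letI : Algebra (MvPolynomial (Fin n) R ⧸ J) C := ι.toRingHom.toAlgebra
  haveI : IsScalarTower R (MvPolynomial (Fin n) R ⧸ J) C :=
    @IsScalarTower.of_algebraMap_eq R (MvPolynomial (Fin n) R ⧸ J) C _ _ _ _ _ _ fun r => (ι.commutes r).symm
  haveI : Algebra.Smooth (MvPolynomial (Fin n) R ⧸ J) C := hι
  have hJ'fg : J'.FG := Submodule.FG.sup (hfg.map _) (Submodule.fg_span (Set.finite_range _))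
  have hC : Synt.IsSyntomic R C := isSyntomic_comp (S := MvPolynomial (Fin n) R ⧸ J) hsyn
    (LCI6.isSyntomic_iff.mpr ⟨inferInstance, LCI6.isLCI_of_smooth _ C⟩)
  have hH : Ideal.span (Set.range (hVec E f)) ≤ J' :=
    Ideal.span_le.mpr (Set.range_subset_iff.mpr (hVec_mem E f J hfJ))
  obtain ⟨g, hg1, hgJ⟩ := exists_mul_mem_of_le_sup_sq _ J' hH (hJ'fg.map _) (bigIdeal_le E f J hf hE hEf)
  obtain ⟨e₀⟩ := nonempty_algEquiv_away_of_le (R := R) _ J' hH g hg1 hgJ
  obtain ⟨e₁⟩ := nonempty_awayEquiv (hVec E f) g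
  let eC : C ≃ₐ[R] Synt.RelGCIRing R (n + m + 1) (m + 1) (snocSeq (hVec E f) g) := e₀.symm.trans e₁
  haveI := hC.1
  haveI : Module.Flat R (Synt.RelGCIRing R (n + m + 1) (m + 1) (snocSeq (hVec E f) g)) :=
    Module.Flat.of_linearEquiv eC.symm.toLinearEquiv
  have hk := isKoszulRegularSeq_away_of_indep (hVec E f) J' hH g hgJ
    (fun q _ hJq => by
      have hI := LCI6.isKoszulRegularIdeal_of_isLCI (LCI6.isSyntomic_iff.mp hC).2 mk'
        Ideal.Quotient.mk_surjective
      rw [show RingHom.ker mk'.toRingHom = J' from Ideal.mk_ker] at hI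
      exact (LCI6.isKoszulRegularIdeal_iff J').mp hI q inferInstance hJq)
    (indep E f J hfJ φ hφ hE)
  exact ⟨g, isRelGCI_of_koszul _ (isKoszulRegularSeq_snoc _ g hk), ⟨eC⟩⟩

open FreeCon in
/-- A syntomic algebra has a smooth retract which is a relative global complete intersection. -/
theorem exists_smooth_retract {R : Type u} [CommRing R] {n : ℕ} (J : Ideal (MvPolynomial (Fin n) R))
    (hfg : J.FG) (hsyn : Synt.IsSyntomic R (MvPolynomial (Fin n) R ⧸ J)) :
    ∃ (N c : ℕ) (F : Fin c → MvPolynomial (Fin N) R), Synt.IsRelGCI R N c F ∧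
      ∃ (ι : (MvPolynomial (Fin n) R ⧸ J) →ₐ[R] Synt.RelGCIRing R N c F)
        (ρ : Synt.RelGCIRing R N c F →ₐ[R] MvPolynomial (Fin n) R ⧸ J),
        ι.toRingHom.Smooth ∧ ∀ a, ρ (ι a) = a := by
  obtain ⟨m, f, E, φ, hf, hEf, hφ, hE⟩ := exists_projector J hfg hsyn
  obtain ⟨ι, ρ, hι, hρι, -, -⟩ := smooth_bigIdeal J hfg E hE
  obtain ⟨g, hg, ⟨eC⟩⟩ := exists_relGCI_bigIdeal J hfg hsyn f E φ hf hEf hφ hE
  refine ⟨n + m + 1, m + 1, _, hg, eC.toAlgHom.comp ι, ρ.comp eC.symm.toAlgHom, ?_, fun b => ?_⟩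
  · show (eC.toAlgHom.toRingHom.comp ι.toRingHom).Smooth
    exact RingHom.Smooth.comp hι (RingHom.Smooth.of_bijective eC.bijective)
  · show ρ (eC.symm (eC (ι b))) = b
    rw [AlgEquiv.symm_apply_apply, hρι]

end GrothLib.RelGCIReg
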