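import Mathlib.LinearAlgebra.Matrix.Charpoly.Coeff
import Mathlib.RingTheory.Ideal.Quotient.Operations
import Mathlib.Algebra.Polynomial.Monic
import Mathlib.Tactic

/-!
# Lifting idempotent matrices as polynomials of a matrix
-/

set_option autoImplicit false

universe u

open Polynomial

namespace GrothLib.RelGCIReg

variable {S : Type*} [CommRing S]

/-- The polynomial with the given coefficients. -/
noncomputable def polyOf {d : ℕ} (b : Fin d → S) : S[X] := ∑ i : Fin d, C (b i) * X ^ (i : ℕ)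

theorem degree_polyOf_lt {d : ℕ} (b : Fin d → S) : (polyOf b).degree < d := degree_sum_fin_lt b

theorem coeff_polyOf {d : ℕ} (b : Fin d → S) (i : Fin d) : (polyOf b).coeff i = b i := by
  simp [polyOf, finsetSum_coeff, coeff_C_mul, coeff_X_pow, Fin.val_inj]

theorem map_polyOf {T : Type*} [CommRing T] (φ : S →+* T) {d : ℕ} (b : Fin d → S) :
    (polyOf b).map φ = polyOf fun i => φ (b i) := by
  simp [polyOf, Polynomial.map_sum]

theorem polyOf_coeff (p : S[X]) {d : ℕ} (hp : p.degree < d) : (polyOf fun i : Fin d => p.coeff i) = p := by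
  ext j
  by_cases hj : j < d
  · exact coeff_polyOf _ ⟨j, hj⟩
  · have h : (d : WithBot ℕ) ≤ j := by exact_mod_cast not_lt.mp hj
    rw [coeff_eq_zero_of_degree_lt ((degree_polyOf_lt _).trans_le h),
      coeff_eq_zero_of_degree_lt (hp.trans_le h)]

theorem aeval_map_matrix {T : Type*} [CommRing T] (φ : S →+* T) {m : ℕ} (M : Matrix (Fin m) (Fin m) S) (p : S[X]) :
    aeval (M.map φ) (p.map φ) = (aeval M p).map φ :=
  (map_aeval_eq_aeval_map (φ := φ) (ψ := φ.mapMatrix) (RingHom.ext fun x => by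
    ext i k
    by_cases hik : i = k
    · subst hik; simp [Matrix.algebraMap_matrix_apply]
    · simp [Matrix.algebraMap_matrix_apply, hik]) p M).symm

theorem aeval_matrix_mem (J : Ideal S) {m : ℕ} (M : Matrix (Fin m) (Fin m) S) (p : S[X])
    (hp : ∀ j, p.coeff j ∈ J) (i k : Fin m) : (aeval M p) i k ∈ J := by
  rw [aeval_eq_sum_range, Matrix.sum_apply]
  exact J.sum_mem fun j _ => J.mul_mem_right _ (hp j)

theorem coeff_modByMonic_mem (J : Ideal S) {q p : S[X]} (hq : q.Monic)
    (h : q.map (Ideal.Quotient.mk J) ∣ p.map (Ideal.Quotient.mk J)) (j : ℕ) : (p %ₘ q).coeff j ∈ J := by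
  rw [← Ideal.Quotient.eq_zero_iff_mem, ← coeff_map, map_modByMonic _ hq,
    (modByMonic_eq_zero_iff_dvd (hq.map _)).mpr h, coeff_zero]

/-- Congruent idempotents of a finite free algebra agree. -/
theorem eq_of_idem {q π π' : S[X]} (hq : q.Monic) (hπ : π.degree < q.degree) (hπ' : π'.degree < q.degree)
    (h1 : q ∣ π ^ 2 - π) (h2 : q ∣ π' ^ 2 - π') (hsq : (π - π') * (π - π') = 0) : π = π' := by
  obtain ⟨s, hs⟩ := h1
  obtain ⟨t, ht⟩ := h2
  have hd : q ∣ π - π' := ⟨(2 * π' - 1) * (s - t) - 4 * t * (π - π'), by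
    linear_combination (2 * π' - 1) * hs - (2 * π' - 1 + 4 * (π - π')) * ht + (1 - 2 * π') * hsq⟩
  rw [← sub_eq_zero]
  rw [← modByMonic_eq_zero_iff_dvd hq] at hd
  nontriviality S
  rwa [(modByMonic_eq_self_iff hq).mpr ((degree_sub_le _ _).trans_lt (max_lt hπ hπ'))] at hd

/-- An idempotent lifting a matrix that is idempotent modulo an ideal. -/
theorem exists_idem_data {P : Type u} [CommRing P] (J : Ideal P) {m : ℕ} (E : Matrix (Fin m) (Fin m) P)
    (hE : ∀ i k, E i k - (E * E) i k ∈ J) :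
    ∃ (d : ℕ) (q : P[X]) (b : Fin d → P), q.Monic ∧ d = q.natDegree ∧
      (∀ p : P[X], (p %ₘ q).degree < d) ∧ aeval E q = 0 ∧
      q.map (Ideal.Quotient.mk J) ∣ ((polyOf b) ^ 2 - polyOf b).map (Ideal.Quotient.mk J) ∧
      ∀ i k, (aeval E (polyOf b)) i k - E i k ∈ J := by
  classical
  rcases subsingleton_or_nontrivial P with hP | hP
  · refine ⟨0, 1, Fin.elim0, monic_one, natDegree_one.symm, fun p => ?_, Subsingleton.elim _ _, ?_,
      fun i k => ?_⟩
    · rw [Subsingleton.elim (p %ₘ 1) 0, degree_zero]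
      exact WithBot.bot_lt_coe 0
    · rw [Polynomial.map_one]
      exact one_dvd _
    · rw [Subsingleton.elim (aeval E (polyOf Fin.elim0) i k - E i k) 0]
      exact J.zero_mem
  let D := E * E - E
  let q : P[X] := D.charpoly.comp (X ^ 2 - X)
  have hsX : (X ^ 2 - X : P[X]).Monic := monic_X_pow_sub (by rw [degree_X]; norm_num)
  have hsd : (X ^ 2 - X : P[X]).natDegree = 2 := by compute_degree!
  have hq : q.Monic := D.charpoly_monic.comp hsX (by omega)
  have hq0 : aeval E q = 0 := by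
    show aeval E (D.charpoly.comp (X ^ 2 - X)) = 0
    rw [aeval_comp, show aeval E (X ^ 2 - X : P[X]) = D by simp [D, pow_two], Matrix.aeval_self_charpoly]
  let mk := Ideal.Quotient.mk J
  have hD : D.map mk = 0 := by
    ext i k
    show mk ((E * E - E) i k) = 0
    rw [Ideal.Quotient.eq_zero_iff_mem, Matrix.sub_apply, ← neg_sub]
    exact J.neg_mem (hE i k)
  have hqm : q.map mk = (X ^ 2 - X) ^ m := by
    show (D.charpoly.comp (X ^ 2 - X)).map mk = _
    rw [map_comp, ← Matrix.charpoly_map, hD, Matrix.charpoly_zero, X_pow_comp, Fintype.card_fin]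
    simp
  let τ : P[X] := 1 - (1 - X ^ m) ^ m
  have hdeg : ∀ p : P[X], (p %ₘ q).degree < (q.natDegree : WithBot ℕ) := fun p =>
    (degree_modByMonic_lt p hq).trans_eq (degree_eq_natDegree hq.ne_zero)
  have hb : (polyOf fun i : Fin q.natDegree => (τ %ₘ q).coeff i) = τ %ₘ q := polyOf_coeff _ (hdeg τ)
  refine ⟨q.natDegree, q, fun i => (τ %ₘ q).coeff i, hq, rfl, hdeg, hq0, ?_,
    fun i k => ?_⟩
  · rw [hb, Polynomial.map_sub, Polynomial.map_pow, map_modByMonic _ hq]
    have h1 : q.map mk ∣ (τ.map mk) ^ 2 - τ.map mk := by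
      rw [hqm, show τ.map mk = 1 - (1 - X ^ m) ^ m by simp [τ]]
      have e : ((X : (P ⧸ J)[X]) ^ 2 - X) ^ m = X ^ m * (X - 1) ^ m := by
        rw [← mul_pow]; ring
      have ha : ((X : (P ⧸ J)[X]) ^ m) ∣ 1 - (1 - X ^ m) ^ m := by
        have := sub_dvd_pow_sub_pow (1 : (P ⧸ J)[X]) (1 - X ^ m) m
        rwa [sub_sub_cancel, one_pow] at this
      have hb' : ((X : (P ⧸ J)[X]) - 1) ^ m ∣ (1 - X ^ m) ^ m := by
        refine pow_dvd_pow_of_dvd ?_ m
        rw [← neg_sub (X ^ m) (1 : (P ⧸ J)[X])]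
        exact (sub_one_dvd_pow_sub_one X m).neg_right
      rw [e]
      have := mul_dvd_mul ha hb'
      exact (dvd_neg.mpr this).trans (dvd_of_eq (by ring))
    obtain ⟨s, hs⟩ := h1
    have h2 := modByMonic_add_div (τ.map mk) (q.map mk)
    exact ⟨s + (1 - 2 * τ.map mk) * (τ.map mk /ₘ q.map mk) + q.map mk * (τ.map mk /ₘ q.map mk) ^ 2, by
      rw [eq_sub_of_add_eq h2]
      linear_combination hs⟩
  · rw [hb, show aeval E (τ %ₘ q) = aeval E τ by
      conv_rhs => rw [← modByMonic_add_div τ q]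
      rw [map_add, map_mul, hq0, zero_mul, add_zero]]
    refine Ideal.Quotient.eq.mp ?_
    show ((aeval E τ).map mk) i k = (E.map mk) i k
    refine congrFun (congrFun ?_ i) k
    rw [← aeval_map_matrix]
    have hid : IsIdempotentElem (E.map mk) := by
      show E.map mk * E.map mk = E.map mk
      rw [← sub_eq_zero, ← hD, Matrix.map_sub _ (map_sub _), Matrix.map_mul]
    rw [show τ.map mk = 1 - (1 - X ^ m) ^ m by simp [τ]]
    simp only [map_sub, map_one, map_pow, aeval_X]
    match m, E, hid with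
    | 0, _, _ => exact Subsingleton.elim _ _
    | j + 1, _, hid => rw [hid.pow_succ_eq, hid.one_sub.pow_succ_eq, sub_sub_cancel]

end GrothLib.RelGCIReg
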