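import Groth.Agent.Lib.RelGCIReg.Finite
import Groth.Agent.Lib.LCI6.Smooth
import Mathlib.RingTheory.Smooth.Flat
import Mathlib.RingTheory.Etale.Basic
import Mathlib.Algebra.MvPolynomial.Eval

/-!
# Retracts, localisations and reductions of syntomic algebras
-/

set_option autoImplicit false

universe u

open scoped TensorProduct

namespace GrothLib.RelGCIReg

section Retract

variable {R A D : Type u} [CommRing R] [CommRing A] [CommRing D] [Algebra R A] [Algebra R D]

/-- A smooth retract of a syntomic algebra is syntomic. -/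
theorem isSyntomic_of_retract (ι : A →ₐ[R] D) (ρ : D →ₐ[R] A) (hι : ι.toRingHom.Smooth)
    (hρι : ∀ a, ρ (ι a) = a) (h : Synt.IsSyntomic R D) : Synt.IsSyntomic R A := by
  letI : Algebra A D := ι.toRingHom.toAlgebra
  haveI : Algebra.Smooth A D := hι
  letI : Algebra D A := ρ.toRingHom.toAlgebra
  haveI : IsScalarTower A D A := IsScalarTower.of_algebraMap_eq fun a => (hρι a).symm
  haveI : IsScalarTower R D A := IsScalarTower.of_algebraMap_eq fun r => (ρ.commutes r).symm
  rw [LCI6.isSyntomic_iff] at h ⊢
  haveI := h.1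
  exact ⟨Module.Flat.of_retract ι.toLinearMap ρ.toLinearMap (LinearMap.ext hρι),
    LCI6.isLCI_comp (Cc := D) h.2 (LCI6.isLCI_section A D)⟩

/-- Localising a smooth retract. -/
theorem exists_retract_away (ι : A →ₐ[R] D) (ρ : D →ₐ[R] A) (hι : ι.toRingHom.Smooth)
    (hρι : ∀ a, ρ (ι a) = a) (g : D) :
    ∃ (ι' : Localization.Away (ρ g) →ₐ[R] Localization.Away (g * ι (ρ g)))
      (ρ' : Localization.Away (g * ι (ρ g)) →ₐ[R] Localization.Away (ρ g)),
      ι'.toRingHom.Smooth ∧ (∀ a, ρ' (ι' a) = a) ∧
        ∀ d, ρ' (algebraMap D _ d) = algebraMap A _ (ρ d) := by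
  set a := ρ g
  set G := g * ι a
  let f : A →ₐ[R] Localization.Away G := (IsScalarTower.toAlgHom R D _).comp ι
  let f' : D →ₐ[R] Localization.Away a := (IsScalarTower.toAlgHom R A _).comp ρ
  have hf : ∀ y : Submonoid.powers a, IsUnit (f y) := by
    rintro ⟨_, k, rfl⟩
    rw [map_pow]
    exact (isUnit_of_dvd_unit (map_dvd (algebraMap D (Localization.Away G)) (dvd_mul_left (ι a) g))
      (IsLocalization.Away.algebraMap_isUnit G)).pow k
  have hf' : ∀ y : Submonoid.powers G, IsUnit (f' y) := by
    rintro ⟨_, k, rfl⟩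
    rw [map_pow]
    refine IsUnit.pow k ?_
    show IsUnit (algebraMap A (Localization.Away a) (ρ G))
    rw [show ρ G = a * a by simp [G, hρι, a], map_mul]
    exact (IsLocalization.Away.algebraMap_isUnit a).mul (IsLocalization.Away.algebraMap_isUnit a)
  let ι' : Localization.Away a →ₐ[R] Localization.Away G := IsLocalization.liftAlgHom (f := f) hf
  let ρ' : Localization.Away G →ₐ[R] Localization.Away a := IsLocalization.liftAlgHom (f := f') hf'
  have h1 : ∀ x, ι' (algebraMap A _ x) = algebraMap D _ (ι x) := fun x => IsLocalization.lift_eq _ x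
  have h2 : ∀ x, ρ' (algebraMap D _ x) = algebraMap A _ (ρ x) := fun x => IsLocalization.lift_eq _ x
  refine ⟨ι', ρ', ?_, fun x => ?_, h2⟩
  · letI : Algebra A D := ι.toRingHom.toAlgebra
    haveI : Algebra.Smooth A D := hι
    haveI : Algebra.Smooth D (Localization.Away G) := Algebra.Smooth.of_isLocalization_Away G
    haveI : Algebra.Smooth A (Localization.Away G) := Algebra.Smooth.comp A D _
    letI : Algebra (Localization.Away a) (Localization.Away G) := ι'.toRingHom.toAlgebra
    haveI : IsScalarTower A (Localization.Away a) (Localization.Away G) :=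
      IsScalarTower.of_algebraMap_eq fun x => ((h1 x).trans
        (IsScalarTower.algebraMap_apply A D (Localization.Away G) x).symm).symm
    haveI : Algebra.FormallyUnramified A (Localization.Away a) :=
      Algebra.FormallyUnramified.of_isLocalization (Submonoid.powers a)
    haveI : Algebra.FinitePresentation A (Localization.Away a) := IsLocalization.Away.finitePresentation a
    haveI : Algebra.FormallySmooth (Localization.Away a) (Localization.Away G) :=
      Algebra.FormallySmooth.of_restrictScalars A _ _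
    haveI : Algebra.FinitePresentation (Localization.Away a) (Localization.Away G) :=
      Algebra.FinitePresentation.of_restrict_scalars_finitePresentation A _ _
    exact (⟨inferInstance, inferInstance⟩ : Algebra.Smooth (Localization.Away a) (Localization.Away G))
  · refine AlgHom.congr_fun (φ₁ := ρ'.comp ι') (φ₂ := AlgHom.id R _) ?_ x
    refine IsLocalization.algHom_ext (Submonoid.powers a) (AlgHom.ext fun y => ?_)
    show ρ' (ι' (algebraMap A _ y)) = algebraMap A _ y
    rw [h1, h2, hρι]

end Retract

/-- Localising a syntomic localisation further. -/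
theorem isSyntomic_away_mul {R D : Type u} [CommRing R] [CommRing D] [Algebra R D] (z y : D)
    (h : Synt.IsSyntomic R (Localization.Away z)) : Synt.IsSyntomic R (Localization.Away (z * y)) := by
  letI : Algebra (Localization.Away z) (Localization.Away (z * y)) :=
    (IsLocalization.Away.awayToAwayRight (S := Localization.Away z) (P := Localization.Away (z * y)) z y).toAlgebra
  haveI : IsScalarTower D (Localization.Away z) (Localization.Away (z * y)) :=
    IsScalarTower.of_algebraMap_eq fun x => (IsLocalization.Away.awayToAwayRight_eq z y x).symm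
  haveI : IsScalarTower R (Localization.Away z) (Localization.Away (z * y)) :=
    IsScalarTower.of_algebraMap_eq fun r => by
      rw [IsScalarTower.algebraMap_apply R D (Localization.Away (z * y)),
        IsScalarTower.algebraMap_apply R D (Localization.Away z)]
      exact IsScalarTower.algebraMap_apply D (Localization.Away z) (Localization.Away (z * y)) _
  haveI : Algebra.Smooth D (Localization.Away (z * y)) := Algebra.Smooth.of_isLocalization_Away (z * y)
  haveI : Algebra.FormallyUnramified D (Localization.Away z) :=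
    Algebra.FormallyUnramified.of_isLocalization (Submonoid.powers z)
  haveI : Algebra.FinitePresentation D (Localization.Away z) := IsLocalization.Away.finitePresentation z
  haveI : Algebra.FormallySmooth (Localization.Away z) (Localization.Away (z * y)) :=
    Algebra.FormallySmooth.of_restrictScalars D _ _
  haveI : Algebra.FinitePresentation (Localization.Away z) (Localization.Away (z * y)) :=
    Algebra.FinitePresentation.of_restrict_scalars_finitePresentation D _ _
  haveI : Algebra.Smooth (Localization.Away z) (Localization.Away (z * y)) := ⟨inferInstance, inferInstance⟩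
  exact isSyntomic_comp (S := Localization.Away z) h
    (LCI6.isSyntomic_iff.mpr ⟨inferInstance, LCI6.isLCI_of_smooth _ _⟩)

/-- A quotient by the extension of an ideal, up to a basic open. -/
theorem exists_quot_away {R S T : Type u} [CommRing R] [CommRing S] [CommRing T] [Algebra R S] [Algebra R T]
    (I : Ideal R) (χ : S →ₐ[R] T) (hχ : Function.Surjective χ)
    (hI : I.map (algebraMap R S) ≤ RingHom.ker χ.toRingHom) (g : S) (hg : χ g = 1)
    (hker : ∀ p, χ p = 0 → g * p ∈ I.map (algebraMap R S)) :
    ∃ χ' : Localization.Away g →ₐ[R] T, Function.Surjective χ' ∧ (∀ s, χ' (algebraMap S _ s) = χ s) ∧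
      RingHom.ker χ'.toRingHom = I.map (algebraMap R (Localization.Away g)) := by
  let χ' : Localization.Away g →ₐ[R] T := IsLocalization.liftAlgHom (M := Submonoid.powers g) (f := χ) (by
    rintro ⟨z, j, rfl⟩
    rw [map_pow, hg, one_pow]
    exact isUnit_one)
  have hc : ∀ s, χ' (algebraMap S _ s) = χ s := fun s => IsLocalization.lift_eq _ s
  refine ⟨χ', fun t => ?_, hc, le_antisymm (fun z hz => ?_) ?_⟩
  · obtain ⟨s, rfl⟩ := hχ t
    exact ⟨algebraMap S _ s, hc s⟩
  · obtain ⟨⟨p, ⟨_, k, rfl⟩⟩, hs⟩ := IsLocalization.surj (Submonoid.powers g) z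
    have hp : χ p = 0 := by
      rw [← hc, ← hs, map_mul, show χ' z = 0 from hz, zero_mul]
    have h1 := Ideal.mem_map_of_mem (algebraMap S (Localization.Away g)) (hker p hp)
    rw [Ideal.map_map, ← IsScalarTower.algebraMap_eq, map_mul, ← hs,
      Ideal.unit_mul_mem_iff_mem _ (IsLocalization.Away.algebraMap_isUnit g)] at h1
    exact (Ideal.mul_unit_mem_iff_mem _ (IsLocalization.map_units _ (⟨_, k, rfl⟩ : Submonoid.powers g))).mp h1
  · rw [IsScalarTower.algebraMap_eq R S (Localization.Away g), ← Ideal.map_map, Ideal.map_le_iff_le_comap]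
    intro p hp
    show χ' (algebraMap S _ p) = 0
    rw [hc]
    exact hI hp

/-- Quotients of one algebra by two maps with equal kernels. -/
theorem nonempty_algEquiv_of_ker_eq {R S T T' : Type u} [CommRing R] [CommRing S] [CommRing T] [CommRing T']
    [Algebra R S] [Algebra R T] [Algebra R T'] (f : S →ₐ[R] T) (f' : S →ₐ[R] T') (hf : Function.Surjective f)
    (hf' : Function.Surjective f') (h : RingHom.ker f.toRingHom = RingHom.ker f'.toRingHom) :
    Nonempty (T ≃ₐ[R] T') :=
  ⟨(Ideal.quotientKerAlgEquivOfSurjective hf).symm.trans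
    ((Ideal.quotientEquivAlgOfEq R h).trans (Ideal.quotientKerAlgEquivOfSurjective hf'))⟩

/-- The reduction of a complete intersection modulo an ideal of the base. -/
theorem nonempty_relGCIRing_quot {R : Type u} [CommRing R] (I : Ideal R) {n c : ℕ}
    (F : Fin c → MvPolynomial (Fin n) R) {T : Type u} [CommRing T] [Algebra R T] [Algebra (R ⧸ I) T]
    [IsScalarTower R (R ⧸ I) T] (χ : Synt.RelGCIRing R n c F →ₐ[R] T) (hχ : Function.Surjective χ)
    (hker : RingHom.ker χ.toRingHom = I.map (algebraMap R _)) :
    Nonempty (Synt.RelGCIRing (R ⧸ I) n c (fun i => MvPolynomial.map (Ideal.Quotient.mk I) (F i)) ≃ₐ[R ⧸ I] T) := by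
  let Fb := fun i => MvPolynomial.map (Ideal.Quotient.mk I) (F i)
  let π : MvPolynomial (Fin n) R →ₐ[R] MvPolynomial (Fin n) (R ⧸ I) :=
    MvPolynomial.mapAlgHom (Ideal.Quotient.mkₐ R I)
  have hπ : Function.Surjective π := MvPolynomial.map_surjective _ Ideal.Quotient.mk_surjective
  let Φ : MvPolynomial (Fin n) R →ₐ[R] Synt.RelGCIRing (R ⧸ I) n c Fb :=
    ((Ideal.Quotient.mkₐ (R ⧸ I) (Ideal.span (Set.range Fb))).restrictScalars R).comp π
  have hΦ : RingHom.ker Φ.toRingHom = Ideal.span (Set.range F) ⊔ I.map MvPolynomial.C := by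
    have h1 : RingHom.ker Φ.toRingHom = (Ideal.span (Set.range Fb)).comap π.toRingHom := by
      ext p
      exact Ideal.Quotient.eq_zero_iff_mem
    have h2 : Ideal.span (Set.range Fb) = (Ideal.span (Set.range F)).map π.toRingHom := by
      rw [Ideal.map_span, ← Set.range_comp]
      rfl
    rw [h1, h2, Ideal.comap_map_of_surjective' π.toRingHom hπ]
    congr 1
    exact (MvPolynomial.ker_map _).trans (congrArg (Ideal.map MvPolynomial.C) (Ideal.mk_ker (I := I)))
  let Ψ : Synt.RelGCIRing R n c F →ₐ[R] Synt.RelGCIRing (R ⧸ I) n c Fb :=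
    Ideal.Quotient.liftₐ _ Φ fun p hp => (hΦ.symm.le) (Ideal.mem_sup_left hp)
  have hΨ : Function.Surjective Ψ := fun y => by
    obtain ⟨q, rfl⟩ := Ideal.Quotient.mk_surjective y
    obtain ⟨p, rfl⟩ := hπ q
    exact ⟨Ideal.Quotient.mk _ p, rfl⟩
  have hkΨ : RingHom.ker Ψ.toRingHom = I.map (algebraMap R (Synt.RelGCIRing R n c F)) := by
    refine (Ideal.ker_quotient_lift (f := Φ.toRingHom) (fun p hp => (hΦ.symm.le) (Ideal.mem_sup_left hp))).trans ?_
    rw [hΦ, Ideal.map_sup, Ideal.map_quotient_self, bot_sup_eq, Ideal.map_map]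
    rfl
  obtain ⟨e⟩ := nonempty_algEquiv_of_ker_eq Ψ χ hΨ hχ (hkΨ.trans hker.symm)
  exact ⟨AlgEquiv.extendScalarsOfSurjective (R := R) Ideal.Quotient.mk_surjective e⟩

/-- The defining condition only depends on the algebra and the number of equations. -/
theorem isRelGCI_of_algEquiv {R : Type u} [CommRing R] {n c n' c' : ℕ} {F : Fin c → MvPolynomial (Fin n) R}
    {G : Fin c' → MvPolynomial (Fin n') R} (h : Synt.IsRelGCI R n c F) (hle : c' ≤ n') (hd : n' - c' = n - c)
    (e : Synt.RelGCIRing R n c F ≃ₐ[R] Synt.RelGCIRing R n' c' G) : Synt.IsRelGCI R n' c' G := by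
  intro p hp
  let ε : p.asIdeal.Fiber (Synt.RelGCIRing R n c F) ≃ₐ[p.asIdeal.ResidueField]
      p.asIdeal.Fiber (Synt.RelGCIRing R n' c' G) := Algebra.TensorProduct.congr AlgEquiv.refl e
  haveI := ε.toEquiv.nontrivial
  refine ⟨hle, ?_⟩
  let ε' : p.asIdeal.Fiber (Synt.RelGCIRing R n c F) ≃+* p.asIdeal.Fiber (Synt.RelGCIRing R n' c' G) :=
    (Algebra.TensorProduct.congr AlgEquiv.refl e :
      p.asIdeal.Fiber (Synt.RelGCIRing R n c F) ≃ₐ[p.asIdeal.ResidueField]
        p.asIdeal.Fiber (Synt.RelGCIRing R n' c' G)).toRingEquiv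
  rw [hd]
  refine (ringKrullDim_eq_of_ringEquiv (R := p.asIdeal.Fiber (Synt.RelGCIRing R n c F))
    (S := p.asIdeal.Fiber (Synt.RelGCIRing R n' c' G)) ε').symm.trans ?_
  exact (h p inferInstance).2

end GrothLib.RelGCIReg
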