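import Groth.Agent.Lib.RelGCIReg.Basic
import Groth.Agent.Lib.Smoothing.SingularIdeal
import Groth.Agent.S2026
import Mathlib.RingTheory.Smooth.Basic
import Mathlib.LinearAlgebra.Matrix.NonsingularInverse
import Mathlib.Algebra.MvPolynomial.Derivation

/-!
# The Jacobian criterion for relative global complete intersections
-/

set_option autoImplicit false

universe u

open MvPolynomial TensorProduct KaehlerDifferential

namespace GrothLib.RelGCIReg

theorem mem_of_sum_smul_toCotangent {L : Type u} [CommRing L] {c : ℕ} (x : Fin c → L) (I : Ideal L)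
    (hI : Ideal.span (Set.range x) = I) (hH1 : CAlgX.IsH1Regular x) (t : Fin c → L)
    (ht : ∑ i, t i • I.toCotangent ⟨x i, hI ▸ Ideal.subset_span (Set.mem_range_self i)⟩ = 0) (i : Fin c) :
    t i ∈ I := by
  subst hI
  let J := Ideal.span (Set.range x)
  have hsum : J.toCotangent (∑ i, t i • (⟨x i, Ideal.subset_span (Set.mem_range_self i)⟩ : J)) = 0 := by
    rw [map_sum, ← ht]
    simp_rw [map_smul]
    rfl
  rw [Ideal.toCotangent_eq_zero, AddSubmonoidClass.coe_finsetSum] at hsum
  have hsq : ∑ i, t i * x i ∈ J * J := by rw [← pow_two]; exact hsum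
  have hexp : ∀ z ∈ J * J, ∃ j : Fin c → L, (∀ i, j i ∈ J) ∧ z = ∑ i, j i * x i := by
    intro z hz
    induction hz using Submodule.mul_induction_on' with
    | mem_mul_mem u hu v hv =>
      obtain ⟨w, hw⟩ := (Ideal.mem_span_range_iff_exists_fun).mp hv
      refine ⟨fun i => u * w i, fun i => Ideal.mul_mem_right _ _ hu, ?_⟩
      rw [← hw, Finset.mul_sum]
      simp [mul_assoc]
    | add u _ v _ hu hv =>
      obtain ⟨j, hj, rfl⟩ := hu
      obtain ⟨j', hj', rfl⟩ := hv
      exact ⟨j + j', fun i => add_mem (hj i) (hj' i), by simp [add_mul, Finset.sum_add_distrib]⟩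
  obtain ⟨j, hj, hje⟩ := hexp _ hsq
  have hrel : ∑ i, (t i - j i) * x i = 0 := by simp [sub_mul, Finset.sum_sub_distrib, hje]
  have hmem : ∀ v ∈ Submodule.span L {v : Fin c → L | ∃ i j : Fin c, v = Pi.single i (x j) - Pi.single j (x i)},
      ∀ i, v i ∈ J := by
    intro v hv
    induction hv using Submodule.span_induction with
    | mem v hv =>
      obtain ⟨a, a', rfl⟩ := hv
      intro i
      refine sub_mem ?_ ?_
      · by_cases hi : i = a
        · subst hi; rw [Pi.single_eq_same]; exact Ideal.subset_span ⟨a', rfl⟩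
        · rw [Pi.single_eq_of_ne hi]; exact J.zero_mem
      · by_cases hi : i = a'
        · subst hi; rw [Pi.single_eq_same]; exact Ideal.subset_span ⟨a, rfl⟩
        · rw [Pi.single_eq_of_ne hi]; exact J.zero_mem
    | zero => exact fun i => J.zero_mem
    | add _ _ _ _ ha hb => exact fun i => add_mem (ha i) (hb i)
    | smul r _ _ ha => exact fun i => J.smul_mem r (ha i)
  simpa using add_mem (hmem _ (hH1 _ hrel) i) (hj i)

/-- A matrix with a right inverse has a nonzero maximal minor. -/
theorem exists_minor_ne_zero {K : Type u} [Field K] {c n : ℕ} (A : Matrix (Fin c) (Fin n) K)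
    (W : Matrix (Fin n) (Fin c) K) (h : A * W = 1) :
    ∃ I : Fin c ↪ Fin n, (A.submatrix id I).det ≠ 0 := by
  have hspan : Submodule.span K (Set.range A.col) = ⊤ := by
    refine eq_top_iff.mpr fun v _ => ?_
    have hv : A.mulVec (W.mulVec v) = v := by rw [Matrix.mulVec_mulVec, h, Matrix.one_mulVec]
    rw [← hv, Matrix.mulVec_eq_sum]
    refine Submodule.sum_mem _ fun i _ => ?_
    rw [op_smul_eq_smul]
    exact Submodule.smul_mem _ _ (Submodule.subset_span ⟨i, rfl⟩)
  obtain ⟨κ, a, ha, hsp, hli⟩ := exists_linearIndependent' K A.col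
  let b : Module.Basis κ K (Fin c → K) := Module.Basis.mk hli (by rw [hsp, hspan])
  let e : Fin c ≃ κ := (Pi.basisFun K (Fin c)).indexEquiv b
  refine ⟨⟨a ∘ e, ha.comp e.injective⟩, ?_⟩
  have : LinearIndependent K (A.submatrix id (a ∘ e)).col := hli.comp e e.injective
  exact ((Matrix.isUnit_iff_isUnit_det _).mp (Matrix.linearIndependent_cols_iff_isUnit.mp this)).ne_zero

variable {R : Type u} [CommRing R] {n c : ℕ} (F : Fin c → MvPolynomial (Fin n) R)

theorem sum_sum_smul {L N : Type u} [CommRing L] [AddCommGroup N] [Module L N] (a : Fin n → L)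
    (w : Fin n → Fin c → L) (y : Fin c → N) :
    ∑ k, (∑ i, a i * w i k) • y k = ∑ i, a i • ∑ k, w i k • y k := by
  simp only [Finset.sum_smul, Finset.smul_sum, smul_smul]
  exact Finset.sum_comm

theorem sum_sub_delta_smul {L N : Type u} [CommRing L] [AddCommGroup N] [Module L N] (t : Fin c → L)
    (y : Fin c → N) (j : Fin c) (h : ∑ k, t k • y k = y j) :
    ∑ k, (t k - (if j = k then 1 else 0)) • y k = 0 := by
  simp only [sub_smul, Finset.sum_sub_distrib, h]
  simp [ite_smul]

theorem apply_tmul_smul {L B M N : Type u} [CommRing L] [CommRing B] [Algebra L B] [AddCommGroup M] [Module L M]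
    [AddCommGroup N] [Module L N] (l : B ⊗[L] M →ₗ[L] N) (b : B) (r : L) (m : M) :
    l (b ⊗ₜ (r • m)) = r • l (b ⊗ₜ m) := by
  rw [tmul_smul, map_smul]

theorem derivation_eq_sum {L M : Type u} [CommRing L] [Algebra R L] [Algebra (MvPolynomial (Fin n) R) L]
    [IsScalarTower R (MvPolynomial (Fin n) R) L] [AddCommGroup M] [Module R M] [Module L M]
    (d : Derivation R L M) (f : MvPolynomial (Fin n) R) :
    d (algebraMap (MvPolynomial (Fin n) R) L f) =
      ∑ i, algebraMap (MvPolynomial (Fin n) R) L (pderiv i f) • d (algebraMap (MvPolynomial (Fin n) R) L (X i)) := by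
  induction f using MvPolynomial.induction_on with
  | C a =>
    rw [← MvPolynomial.algebraMap_eq, ← IsScalarTower.algebraMap_apply, Derivation.map_algebraMap]
    simp [MvPolynomial.algebraMap_eq]
  | add f g hf hg => simp only [map_add, add_smul, Finset.sum_add_distrib, hf, hg]
  | mul_X f j hf =>
    rw [map_mul, Derivation.leibniz, hf, Finset.smul_sum]
    have : ∀ i, algebraMap (MvPolynomial (Fin n) R) L (pderiv i (f * X j)) =
        algebraMap _ L (X j) * algebraMap _ _ (pderiv i f) +
          (if j = i then algebraMap _ _ f else 0) := fun i => by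
      rw [pderiv_mul, map_add, map_mul, map_mul, mul_comm]
      by_cases hji : j = i
      · subst hji; rw [pderiv_X_self, map_one, mul_one, if_pos rfl]
      · rw [pderiv_X_of_ne hji, map_zero, mul_zero, if_neg hji]
    simp only [this, add_smul, Finset.sum_add_distrib, ite_smul, zero_smul, Finset.sum_ite_eq,
      Finset.mem_univ, if_true, smul_smul]
    exact add_comm _ _

theorem exists_minor_notMem_of_isSmoothAt (h : Synt.IsRelGCI R n c F)
    (q : Ideal (Synt.RelGCIRing R n c F)) [q.IsPrime] (hq : Algebra.IsSmoothAt R q) :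
    ∃ I : Fin c ↪ Fin n, Ideal.Quotient.mk (Ideal.span (Set.range F))
        (Matrix.det (Matrix.of fun j i => MvPolynomial.pderiv (I i) (F j))) ∉ q := by
  let P := MvPolynomial (Fin n) R
  let J := Ideal.span (Set.range F)
  let B := P ⧸ J
  let p := q.comap (Ideal.Quotient.mk J)
  haveI : p.IsPrime := Ideal.IsPrime.comap _
  have hp : J ≤ p := fun x hx => by
    rw [Ideal.mem_comap, Ideal.Quotient.eq_zero_iff_mem.mpr hx]
    exact q.zero_mem
  let L := Localization.AtPrime p
  let x : Fin c → L := locSeq F p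
  let JL := J.map (algebraMap P L)
  have hJL : Ideal.span (Set.range x) = JL := by
    show _ = (Ideal.span (Set.range F)).map (algebraMap P L)
    rw [Ideal.map_span, ← Set.range_comp]
    rfl
  let B' := L ⧸ JL
  have hM : Algebra.algebraMapSubmonoid B p.primeCompl = q.primeCompl := by
    ext z
    obtain ⟨y, rfl⟩ := Ideal.Quotient.mk_surjective z
    constructor
    · rintro ⟨w, hw, hwy⟩ hy
      exact hw (show Ideal.Quotient.mk J w ∈ q from hwy.symm ▸ hy)
    · intro hy
      exact ⟨y, hy, rfl⟩
  haveI : IsLocalization.AtPrime B' q := by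
    have : IsLocalization (Algebra.algebraMapSubmonoid B p.primeCompl) B' := inferInstance
    rwa [hM] at this
  haveI : IsScalarTower R B B' := IsScalarTower.to₁₃₄ R P B _
  haveI : Algebra.FormallySmooth R (Localization.AtPrime q) := hq
  haveI : Algebra.FormallySmooth R B' :=
    Algebra.FormallySmooth.of_equiv (A := Localization.AtPrime q) (B := B')
      ((IsLocalization.algEquiv q.primeCompl (Localization.AtPrime q) B').restrictScalars R)
  haveI : Algebra.FormallySmooth R L := by
    haveI : Algebra.FormallySmooth P L := Algebra.FormallySmooth.of_isLocalization p.primeCompl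
    exact Algebra.FormallySmooth.comp R P L
  obtain ⟨l, hl⟩ := (Algebra.FormallySmooth.iff_split_injection (R := R) (P := L) (A := B')
    Ideal.Quotient.mk_surjective).mp inferInstance
  let I₀ : Ideal L := RingHom.ker (algebraMap L B')
  have hI₀ : Ideal.span (Set.range x) = I₀ := hJL.trans Ideal.mk_ker.symm
  let cls : Fin c → I₀.Cotangent := fun j => I₀.toCotangent ⟨x j, hI₀ ▸ Ideal.subset_span (Set.mem_range_self j)⟩
  -- the values of the retraction
  let v : Fin n → I₀.Cotangent := fun i => l (1 ⊗ₜ D R L (algebraMap P L (X i)))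
  let a : Fin c → Fin n → L := fun j i => algebraMap P L (pderiv i (F j))
  have hcls : ∀ j, cls j = ∑ i, a j i • v i := fun j => by
    have h1 := LinearMap.congr_fun hl (cls j)
    rw [LinearMap.comp_apply, LinearMap.id_apply] at h1
    refine h1.symm.trans ?_
    show l (kerCotangentToTensor R L B' (I₀.toCotangent _)) = _
    rw [kerCotangentToTensor_toCotangent]
    show l ((1 : B') ⊗ₜ D R L (algebraMap P L (F j))) = _
    rw [derivation_eq_sum (D R L), tmul_sum, map_sum]
    refine Finset.sum_congr rfl fun i _ => ?_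
    exact apply_tmul_smul l _ _ _
  have hv : ∀ i, ∃ w : Fin c → L, v i = ∑ k, w k • cls k := fun i => by
    obtain ⟨⟨y, hy⟩, hyv⟩ := I₀.toCotangent_surjective (v i)
    obtain ⟨w, hw⟩ := (Ideal.mem_span_range_iff_exists_fun).mp (hI₀.symm ▸ hy : y ∈ Ideal.span (Set.range x))
    refine ⟨w, hyv.symm.trans ?_⟩
    have : (⟨y, hy⟩ : I₀) = ∑ k, w k • (⟨x k, hI₀ ▸ Ideal.subset_span (Set.mem_range_self k)⟩ : I₀) :=
      Subtype.ext (by
        rw [AddSubmonoidClass.coe_finsetSum]
        show y = _
        rw [← hw]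
        rfl)
    rw [this, map_sum]
    simp_rw [map_smul]
    rfl
  choose w hw using hv
  have hH1 : CAlgX.IsH1Regular x := GrothLib.LCI6.isH1Regular_ofFn x
    (GrothLib.KoszulFwd.isKoszulRegularSeq_of_isWeaklyRegular _ (isRegular_atPrime F p h hp).1)
  have hAW : ∀ j k, (∑ i, a j i * w i k) - (if j = k then 1 else 0) ∈ I₀ := fun j => by
    refine mem_of_sum_smul_toCotangent x I₀ hI₀ hH1
      (fun k => (∑ i, a j i * w i k) - (if j = k then 1 else 0)) ?_
    have h2 : ∑ k, (∑ i, a j i * w i k) • cls k = cls j := by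
      rw [sum_sum_smul, hcls j]
      exact Finset.sum_congr rfl fun i _ => by rw [hw i]
    exact sum_sub_delta_smul _ cls j h2
  let π : L →+* IsLocalRing.ResidueField L := IsLocalRing.residue L
  have hI₀m : I₀ ≤ IsLocalRing.maximalIdeal L := by
    rw [← hI₀, Ideal.span_le]
    rintro _ ⟨j, rfl⟩
    rw [← Localization.AtPrime.map_eq_maximalIdeal]
    exact Ideal.mem_map_of_mem _ (hp (Ideal.subset_span ⟨j, rfl⟩))
  let A : Matrix (Fin c) (Fin n) (IsLocalRing.ResidueField L) := Matrix.of fun j i => π (a j i)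
  let W : Matrix (Fin n) (Fin c) (IsLocalRing.ResidueField L) := Matrix.of fun i k => π (w i k)
  have hAWbar : A * W = 1 := by
    ext j k
    have h3 : π ((∑ i, a j i * w i k) - (if j = k then 1 else 0)) = 0 :=
      (IsLocalRing.residue_eq_zero_iff _).mpr (hI₀m (hAW j k))
    rw [map_sub, sub_eq_zero, map_sum] at h3
    rw [Matrix.mul_apply]
    simp only [A, W, Matrix.of_apply, ← map_mul, h3, Matrix.one_apply]
    split_ifs <;> simp
  obtain ⟨I, hI⟩ := exists_minor_ne_zero A W hAWbar
  refine ⟨I, fun hmem => hI ?_⟩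
  have hdet : (A.submatrix id I).det =
      π (algebraMap P L (Matrix.det (Matrix.of fun j i => pderiv (I i) (F j)))) := by
    rw [RingHom.map_det, RingHom.map_det]
    rfl
  rw [hdet, IsLocalRing.residue_eq_zero_iff, IsLocalization.AtPrime.to_map_mem_maximal_iff L p]
  exact hmem

theorem isSmoothAt_of_minor (q : Ideal (Synt.RelGCIRing R n c F)) [q.IsPrime] (I : Fin c ↪ Fin n)
    (hI : Ideal.Quotient.mk (Ideal.span (Set.range F))
      (Matrix.det (Matrix.of fun j i => MvPolynomial.pderiv (I i) (F j))) ∉ q) :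
    Algebra.IsSmoothAt R q := by
  haveI : Algebra.FinitePresentation R (Synt.RelGCIRing R n c F) :=
    Algebra.FinitePresentation.quotient ⟨(Set.finite_range F).toFinset, by simp⟩
  refine Smoothing.isSmoothAt_of_singularIdeal_not_le fun hle => hI (hle ?_)
  rw [(Groth.Agent.S2026.result (R := R) (A := Synt.RelGCIRing R n c F)).1]
  refine Ideal.le_radical (Ideal.subset_span ?_)
  refine ⟨⟨n, c, c, by simpa using Fintype.card_le_of_embedding I, le_rfl, F, Ideal.Quotient.mkₐ R _,
    Ideal.Quotient.mk_surjective, Ideal.mk_ker⟩, Ideal.subset_span ⟨I, ?_⟩,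
    fun a' _ j hj => absurd j.2 (not_lt.mpr hj)⟩
  rfl

end GrothLib.RelGCIReg
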