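import Groth.Agent.Lib.RelGCIReg.Finite
import Mathlib.Algebra.MvPolynomial.Expand
import Mathlib.RingTheory.Flat.FaithfullyFlat.Algebra
import Mathlib.RingTheory.Spectrum.Prime.Topology

/-!
# The power map on the variables of a polynomial ring
-/

set_option autoImplicit false

universe u

open MvPolynomial

namespace GrothLib.RelGCIReg

theorem isSyntomic_pow_map {A : Type u} [CommRing A] {m q : ℕ} (hq : 0 < q) (B : Type u) [CommRing B]
    [Algebra A B] [Algebra (MvPolynomial (Fin m) A) B] [IsScalarTower A (MvPolynomial (Fin m) A) B]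
    (ε : MvPolynomial (Fin m) A ≃ₐ[A] B)
    (hε : ∀ i, algebraMap (MvPolynomial (Fin m) A) B (X i) = ε (X i) ^ q) :
    Synt.IsSyntomic (MvPolynomial (Fin m) A) B ∧ Module.FaithfullyFlat (MvPolynomial (Fin m) A) B := by
  let P := MvPolynomial (Fin m) A
  have hint : ∀ i, IsIntegral P (ε (X i)) := fun i =>
    ⟨Polynomial.X ^ q - Polynomial.C (X i), Polynomial.monic_X_pow_sub_C _ hq.ne', by
      rw [Polynomial.eval₂_sub, Polynomial.eval₂_X_pow, Polynomial.eval₂_C, hε, sub_self]⟩
  have hadj : Algebra.adjoin P (Set.range fun i => ε (X i)) = ⊤ := by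
    rw [eq_top_iff]
    intro b _
    obtain ⟨f, rfl⟩ := ε.surjective b
    induction f using MvPolynomial.induction_on with
    | C a =>
      rw [← MvPolynomial.algebraMap_eq, AlgEquiv.commutes, IsScalarTower.algebraMap_apply A P B]
      exact Subalgebra.algebraMap_mem _ _
    | add f g hf hg => rw [map_add]; exact add_mem (hf trivial) (hg trivial)
    | mul_X f i hf => rw [map_mul]; exact mul_mem (hf trivial) (Algebra.subset_adjoin ⟨i, rfl⟩)
  haveI hfin : Module.Finite P B := ⟨by
    rw [← Algebra.top_toSubmodule, ← hadj]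
    exact fg_adjoin_of_finite (Set.finite_range _) (by rintro _ ⟨i, rfl⟩; exact hint i)⟩
  let F : Fin m → MvPolynomial (Fin m) P := fun i => X i ^ q - C (X i)
  let Q := Synt.RelGCIRing P m m F
  let fwd₀ : MvPolynomial (Fin m) P →ₐ[P] B := MvPolynomial.aeval fun i => ε (X i)
  let fwd : Q →ₐ[P] B := Ideal.Quotient.liftₐ _ fwd₀ fun x hx => by
    refine (Ideal.span_le.mpr (?_ : Set.range F ⊆ RingHom.ker fwd₀.toRingHom)) hx
    rintro _ ⟨i, rfl⟩
    show fwd₀ (F i) = 0
    simp only [F, fwd₀, map_sub, map_pow, MvPolynomial.aeval_X, MvPolynomial.aeval_C]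
    exact sub_eq_zero.mpr (hε i).symm
  let inv₀ : P →ₐ[A] Q := MvPolynomial.aeval fun i => Ideal.Quotient.mk _ (X i)
  let inv : B →ₐ[A] Q := inv₀.comp ε.symm.toAlgHom
  have hinvX : ∀ i, inv (ε (X i)) = Ideal.Quotient.mk _ (X i) := fun i => by
    show inv₀ (ε.symm (ε (X i))) = _
    rw [ε.symm_apply_apply]
    exact MvPolynomial.aeval_X _ i
  have hinvP : inv.comp (IsScalarTower.toAlgHom A P B) = IsScalarTower.toAlgHom A P Q := by
    refine MvPolynomial.algHom_ext fun i => ?_
    show inv (algebraMap P B (X i)) = algebraMap P Q (X i)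
    rw [hε, map_pow, hinvX, ← map_pow]
    refine (Ideal.Quotient.eq.mpr ?_)
    exact Ideal.subset_span ⟨i, rfl⟩
  let invP : B →ₐ[P] Q := AlgHom.mk inv.toRingHom fun x => AlgHom.congr_fun hinvP x
  have h1 : fwd.comp invP = AlgHom.id P B := by
    refine AlgHom.ext_of_adjoin_eq_top hadj ?_
    rintro _ ⟨i, rfl⟩
    show fwd (inv (ε (X i))) = ε (X i)
    rw [hinvX]
    exact MvPolynomial.aeval_X _ i
  have h2 : invP.comp fwd = AlgHom.id P Q := by
    refine Ideal.Quotient.algHom_ext P (MvPolynomial.algHom_ext fun i => ?_)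
    show inv (fwd₀ (X i)) = Ideal.Quotient.mk _ (X i)
    rw [show fwd₀ (X i) = ε (X i) from MvPolynomial.aeval_X _ i, hinvX]
  have hs : Synt.IsSyntomic P B := isSyntomic_of_finite_presentation F (AlgEquiv.ofAlgHom invP fwd h2 h1)
  refine ⟨hs, ?_⟩
  haveI := hs.1
  refine Module.FaithfullyFlat.of_comap_surjective ?_
  haveI : Algebra.IsIntegral P B := Algebra.IsIntegral.of_finite P B
  have hinj : Function.Injective (algebraMap P B) := by
    have : IsScalarTower.toAlgHom A P B = ε.toAlgHom.comp (MvPolynomial.expand q) := by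
      refine MvPolynomial.algHom_ext fun i => ?_
      show algebraMap P B (X i) = ε (MvPolynomial.expand q (X i))
      rw [MvPolynomial.expand_X, map_pow, hε]
    intro x y hxy
    have h3 := AlgHom.congr_fun this x
    have h4 := AlgHom.congr_fun this y
    exact MvPolynomial.expand_injective hq (ε.injective (h3.symm.trans (hxy.trans h4)))
  intro p
  obtain ⟨Q', -, hQ', hQ''⟩ := Ideal.exists_ideal_over_prime_of_isIntegral (R := P) (S := B) p.asIdeal ⊥
    (by rw [← RingHom.ker_eq_comap_bot, (RingHom.injective_iff_ker_eq_bot _).mp hinj]; exact bot_le)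
  exact ⟨⟨Q', hQ'⟩, PrimeSpectrum.ext hQ''⟩

end GrothLib.RelGCIReg
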