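import Groth.Agent.Lib.RelGCIReg.FreeConormal
import Groth.Agent.Lib.RelGCIReg.LiftRetract
import Groth.Agent.Lib.RelGCIReg.IdemLift

/-!
# Lifting syntomic algebras along surjections of the base
-/

set_option autoImplicit false

universe u

open MvPolynomial

namespace GrothLib.RelGCIReg

/-- Consequences of the free generators lying in an ideal. -/
theorem mem_of_hVec_mem {S : Type*} [CommRing S] {m : ℕ} (e : Matrix (Fin m) (Fin m) S) (a u w h : Fin m → S)
    (hw : w = u - e.mulVec u) (hh : h = e.mulVec a + (w - e.mulVec w)) (M : Ideal S) (hhM : ∀ i, h i ∈ M)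
    (he : ∀ i k, (e - e * e) i k ∈ M) : (∀ i, e.mulVec a i ∈ M) ∧ ∀ i, w i ∈ M := by
  have ida : e.mulVec a = e.mulVec h + (e - e * e).mulVec a - (e - e * e).mulVec w := by
    simp only [hh, Matrix.mulVec_add, Matrix.mulVec_sub, Matrix.sub_mulVec, Matrix.mulVec_mulVec]
    abel
  have idw : w = h - e.mulVec a + (e - e * e).mulVec u := by
    simp only [hh, hw, Matrix.mulVec_sub, Matrix.sub_mulVec, Matrix.mulVec_mulVec]
    abel
  have h1 : ∀ i, e.mulVec a i ∈ M := fun i => by
    rw [congrFun ida i]
    exact sub_mem (add_mem (mulVec_mem _ _ _ _ fun l => M.mul_mem_left _ (hhM l))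
      (mulVec_mem _ _ _ _ fun l => M.mul_mem_right _ (he i l))) (mulVec_mem _ _ _ _ fun l => M.mul_mem_right _ (he i l))
  refine ⟨h1, fun i => ?_⟩
  rw [congrFun idw i]
  exact add_mem (sub_mem (hhM i) (h1 i)) (mulVec_mem _ _ _ _ fun l => M.mul_mem_right _ (he i l))

/-- Syntomic localisations along an isomorphism. -/
theorem isSyntomic_away_of_algEquiv {R S S' : Type u} [CommRing R] [CommRing S] [CommRing S'] [Algebra R S]
    [Algebra R S'] (e : S ≃ₐ[R] S') (z : S) (h : Synt.IsSyntomic R (Localization.Away (e z))) :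
    Synt.IsSyntomic R (Localization.Away z) := by
  have H : (Submonoid.powers z).map (e : S →* S') = Submonoid.powers (e z) := Submonoid.map_powers _ _
  exact isSyntomic_of_algEquiv (IsLocalization.algEquivOfAlgEquiv (M := Submonoid.powers z)
    (T := Submonoid.powers (e z)) (Localization.Away z) (Localization.Away (e z)) e H).symm h

theorem map_snocSeq {R R' : Type u} [CommRing R] [CommRing R'] (φ : R →+* R') {n c : ℕ}
    (F : Fin c → MvPolynomial (Fin n) R) (h : MvPolynomial (Fin n) R) :
    (fun i => MvPolynomial.map φ (snocSeq F h i)) = snocSeq (fun i => MvPolynomial.map φ (F i))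
      (MvPolynomial.map φ h) := by
  funext i
  refine Fin.lastCases ?_ (fun j => ?_) i <;> simp [snocSeq, map_rename]

theorem toRingHom_apply {R A B : Type*} [CommSemiring R] [Semiring A] [Semiring B] [Algebra R A] [Algebra R B]
    (φ : A →ₐ[R] B) (x : A) : φ.toRingHom x = φ x := rfl

namespace SyntLift

open FreeCon

variable {R : Type u} [CommRing R] {n m d : ℕ} (I : Ideal R)
  (f : Fin m → MvPolynomial (Fin n) R) (E : Matrix (Fin m) (Fin m) (MvPolynomial (Fin n) R))
  (q : Polynomial (MvPolynomial (Fin n) R)) (b : Fin d → MvPolynomial (Fin n) R)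

/-- The ideal of the reduction. -/
noncomputable def baseIdeal : Ideal (MvPolynomial (Fin n) R) := Ideal.span (Set.range f) ⊔ I.map MvPolynomial.C

/-- The equation of the commutative algebra of the matrix. -/
noncomputable def qB (d : ℕ) (q : Polynomial (MvPolynomial (Fin n) R)) :
    Polynomial (MvPolynomial (Fin (n + d)) R) := q.map (incl R n d).toRingHom

/-- The universal element. -/
noncomputable def bPoly (R : Type u) [CommRing R] (n d : ℕ) : Polynomial (MvPolynomial (Fin (n + d)) R) :=
  polyOf uVec

/-- The equations of idempotents. -/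
noncomputable def eta : Fin d → MvPolynomial (Fin (n + d)) R :=
  fun i => ((bPoly R n d ^ 2 - bPoly R n d) %ₘ qB d q).coeff i

/-- The universal idempotent matrix. -/
noncomputable def eB (d : ℕ) : Matrix (Fin m) (Fin m) (MvPolynomial (Fin (n + d)) R) :=
  Polynomial.aeval (E.map (incl R n d).toRingHom) (bPoly R n d)

/-- The generators over the extended ring. -/
noncomputable def aB (d : ℕ) : Fin m → MvPolynomial (Fin (n + d)) R := fun i => incl R n d (f i)

/-- The ideal of the lift. -/
noncomputable def liftIdeal (d : ℕ) : Ideal (MvPolynomial (Fin (n + d)) R) :=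
  Ideal.span (Set.range ((eB E d).mulVec (aB f d))) ⊔ Ideal.span (Set.range (eta (d := d) q))

/-- Substitution of the coefficients of the idempotent. -/
noncomputable def sb : MvPolynomial (Fin (n + d)) R →ₐ[R] MvPolynomial (Fin n) R := aeval (Fin.addCases X b)

/-- Substitution with the new variables. -/
noncomputable def phi (m : ℕ) : MvPolynomial (Fin (n + d + m)) R →ₐ[R] MvPolynomial (Fin (n + m)) R :=
  aeval (Fin.addCases (fun i => incl R n m (sb b (X i))) uVec)

/-- The section of the substitution. -/
noncomputable def jmap (R : Type u) [CommRing R] (n d m : ℕ) :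
    MvPolynomial (Fin (n + m)) R →ₐ[R] MvPolynomial (Fin (n + d + m)) R :=
  aeval (Fin.addCases (fun i => incl R (n + d) m (incl R n d (X i))) uVec)

/-- Setting the new variables to zero. -/
noncomputable def zeroU (R : Type u) [CommRing R] (n m : ℕ) :
    MvPolynomial (Fin (n + m)) R →ₐ[R] MvPolynomial (Fin n) R :=
  aeval (Fin.addCases X fun _ => 0)

/-- The ideal of the reduction of the retract. -/
noncomputable def bigComap : Ideal (MvPolynomial (Fin (n + d + m)) R) :=
  (bigIdeal E (baseIdeal I f)).comap (phi b m).toRingHom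

/-- The equations of the retract. -/
noncomputable def seq (d : ℕ) : Fin (m + d) → MvPolynomial (Fin (n + d + m)) R :=
  Fin.append (hVec (eB E d) (aB f d)) fun i => incl R (n + d) m (eta q i)

theorem sb_incl (p : MvPolynomial (Fin n) R) : sb b (incl R n d p) = p := by
  have : (sb b).comp (incl R n d) = AlgHom.id R _ := MvPolynomial.algHom_ext fun i => by
    show sb b (rename (Fin.castAdd d) (X i)) = X i
    rw [rename_X]
    simp [sb]
  exact AlgHom.congr_fun this p

theorem sb_uVec (j : Fin d) : sb b (uVec j) = b j := by simp [sb, uVec]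

theorem phi_incl (p : MvPolynomial (Fin (n + d)) R) : phi b m (incl R (n + d) m p) = incl R n m (sb b p) := by
  have : (phi b m).comp (incl R (n + d) m) = (incl R n m).comp (sb b) := MvPolynomial.algHom_ext fun i => by
    show phi b m (rename (Fin.castAdd m) (X i)) = incl R n m (sb b (X i))
    rw [rename_X]
    simp [phi]
  exact AlgHom.congr_fun this p

theorem phi_uVec (j : Fin m) : phi b m (uVec j) = uVec j := by simp [phi, uVec]

theorem jmap_incl (p : MvPolynomial (Fin n) R) :
    jmap R n d m (incl R n m p) = incl R (n + d) m (incl R n d p) := by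
  have : (jmap R n d m).comp (incl R n m) = (incl R (n + d) m).comp (incl R n d) :=
    MvPolynomial.algHom_ext fun i => by
      show jmap R n d m (rename (Fin.castAdd m) (X i)) = incl R (n + d) m (incl R n d (X i))
      rw [rename_X]
      simp [jmap]
  exact AlgHom.congr_fun this p

theorem jmap_uVec (j : Fin m) : jmap R n d m (uVec j) = uVec j := by simp [jmap, uVec]

theorem phi_jmap (p : MvPolynomial (Fin (n + m)) R) : phi b m (jmap R n d m p) = p := by
  have : (phi b m).comp (jmap R n d m) = AlgHom.id R _ := MvPolynomial.algHom_ext fun i => by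
    show phi b m (jmap R n d m (X i)) = X i
    induction i using Fin.addCases with
    | left i =>
      rw [show (X (Fin.castAdd m i) : MvPolynomial (Fin (n + m)) R) = incl R n m (X i) from (rename_X _ _).symm,
        jmap_incl, phi_incl, sb_incl]
    | right j => rw [show (X (Fin.natAdd n j) : MvPolynomial (Fin (n + m)) R) = uVec j from rfl, jmap_uVec, phi_uVec]
  exact AlgHom.congr_fun this p

theorem zeroU_incl (p : MvPolynomial (Fin n) R) : zeroU R n m (incl R n m p) = p := by
  have : (zeroU R n m).comp (incl R n m) = AlgHom.id R _ := MvPolynomial.algHom_ext fun i => by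
    show zeroU R n m (rename (Fin.castAdd m) (X i)) = X i
    rw [rename_X]
    simp [zeroU]
  exact AlgHom.congr_fun this p

theorem zeroU_uVec (j : Fin m) : zeroU R n m (uVec j) = 0 := by simp [zeroU, uVec]

theorem sb_zeroU (p : MvPolynomial (Fin (n + d + m)) R) :
    sb b (zeroU R (n + d) m p) = zeroU R n m (phi b m p) := by
  have : (sb b).comp (zeroU R (n + d) m) = (zeroU R n m).comp (phi b m) := MvPolynomial.algHom_ext fun i => by
    show sb b (zeroU R (n + d) m (X i)) = zeroU R n m (phi b m (X i))
    induction i using Fin.addCases with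
    | left i =>
      rw [show (X (Fin.castAdd m i) : MvPolynomial (Fin (n + d + m)) R) = incl R (n + d) m (X i) from
        (rename_X _ _).symm, zeroU_incl, phi_incl, zeroU_incl]
    | right j =>
      rw [show (X (Fin.natAdd (n + d) j) : MvPolynomial (Fin (n + d + m)) R) = uVec j from rfl, zeroU_uVec,
        phi_uVec, zeroU_uVec, map_zero]
  exact AlgHom.congr_fun this p

/-- The properties of the lifting data. -/
structure IsData : Prop where
  hE : ∀ i k, E i k - (E * E) i k ∈ baseIdeal I f
  hEf : ∀ i, f i - ∑ j, E i j * f j ∈ baseIdeal I f * baseIdeal I f ⊔ I.map MvPolynomial.C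
  monic : q.Monic
  natDegree : d = q.natDegree
  aeval_eq : Polynomial.aeval E q = 0
  dvd : q.map (Ideal.Quotient.mk (baseIdeal I f)) ∣
    ((polyOf b) ^ 2 - polyOf b).map (Ideal.Quotient.mk (baseIdeal I f))
  eval : ∀ i k, (Polynomial.aeval E (polyOf b)) i k - E i k ∈ baseIdeal I f

variable {I f E q b}

theorem coeff_eta_mem (hD : IsData I f E q b) (j : ℕ) :
    ((bPoly R n d ^ 2 - bPoly R n d) %ₘ qB d q).coeff j ∈ Ideal.span (Set.range (eta (d := d) q)) := by
  by_cases hj : j < d
  · exact Ideal.subset_span ⟨⟨j, hj⟩, rfl⟩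
  · have h0 : ((bPoly R n d ^ 2 - bPoly R n d) %ₘ qB d q).coeff j = 0 := by
      nontriviality (MvPolynomial (Fin (n + d)) R)
      have h1 := Polynomial.degree_modByMonic_lt (bPoly R n d ^ 2 - bPoly R n d) (q := qB d q) (hD.monic.map _)
      refine Polynomial.coeff_eq_zero_of_degree_lt (h1.trans_le ((Polynomial.degree_le_natDegree).trans ?_))
      exact_mod_cast ((Polynomial.natDegree_map_le).trans hD.natDegree.ge).trans (not_lt.mp hj)
    rw [h0]
    exact Ideal.zero_mem _

theorem eB_sub_mem (hD : IsData I f E q b) (i k : Fin m) :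
    (eB E d - eB E d * eB E d) i k ∈ Ideal.span (Set.range (eta (d := d) q)) := by
  have h1 : Polynomial.aeval (E.map (incl R n d).toRingHom) (qB d q) = 0 := by
    rw [qB, aeval_map_matrix, hD.aeval_eq]
    ext i k
    simp
  have h2 : eB E d * eB E d - eB E d = Polynomial.aeval (E.map (incl R n d).toRingHom)
      ((bPoly R n d ^ 2 - bPoly R n d) %ₘ qB d q) := by
    have := congrArg (Polynomial.aeval (E.map (incl R n d).toRingHom))
      (Polynomial.modByMonic_add_div (bPoly R n d ^ 2 - bPoly R n d) (qB d q))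
    rw [map_add, map_mul, h1, zero_mul, add_zero, map_sub, map_pow] at this
    rw [eB, ← pow_two]
    exact this.symm
  rw [← neg_sub (eB E d * eB E d), Matrix.neg_apply, h2]
  exact neg_mem (aeval_matrix_mem _ _ _ (coeff_eta_mem hD) i k)

theorem liftIdeal_fg : (liftIdeal f E q d).FG :=
  Submodule.FG.sup (Submodule.fg_span (Set.finite_range _)) (Submodule.fg_span (Set.finite_range _))

theorem eB_mem_liftIdeal (hD : IsData I f E q b) (i k : Fin m) :
    eB E d i k - (eB E d * eB E d) i k ∈ liftIdeal f E q d :=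
  Ideal.mem_sup_right (eB_sub_mem hD i k)

theorem sb_eta_mem (hD : IsData I f E q b) (i : Fin d) : sb b (eta q i) ∈ baseIdeal I f := by
  have h1 : (qB d q).map (sb b).toRingHom = q := by
    rw [qB, Polynomial.map_map, show (sb b).toRingHom.comp (incl R n d).toRingHom = RingHom.id _ from
      RingHom.ext fun p => by rw [RingHom.comp_apply, toRingHom_apply, toRingHom_apply, sb_incl, RingHom.id_apply],
      Polynomial.map_id]
  have h2 : (bPoly R n d).map (sb b).toRingHom = polyOf b := by
    rw [bPoly, map_polyOf]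
    simp only [toRingHom_apply, sb_uVec]
  rw [eta, ← toRingHom_apply (sb b), ← Polynomial.coeff_map, Polynomial.map_modByMonic (q := qB d q) _ (hD.monic.map _), Polynomial.map_sub, Polynomial.map_pow,
    h1, h2]
  exact coeff_modByMonic_mem _ hD.monic hD.dvd i

theorem sb_eB_sub_mem (hD : IsData I f E q b) (i k : Fin m) : sb b (eB E d i k) - E i k ∈ baseIdeal I f := by
  have h1 : (eB E d).map (sb b).toRingHom = Polynomial.aeval E (polyOf b) := by
    have h2 : (E.map (incl R n d).toRingHom).map (sb b).toRingHom = E := by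
      ext i k
      rw [Matrix.map_apply, Matrix.map_apply, toRingHom_apply, toRingHom_apply, sb_incl]
    rw [eB, ← aeval_map_matrix, h2, bPoly, map_polyOf]
    simp only [toRingHom_apply, sb_uVec]
  have h3 := congrFun (congrFun h1 i) k
  rw [Matrix.map_apply, toRingHom_apply] at h3
  rw [h3]
  exact hD.eval i k

theorem f_mem (i : Fin m) : f i ∈ baseIdeal I f := Ideal.mem_sup_left (Ideal.subset_span ⟨i, rfl⟩)

theorem sb_liftIdeal (hD : IsData I f E q b) :
    liftIdeal f E q d ≤ (baseIdeal I f).comap (sb b).toRingHom := by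
  refine sup_le (Ideal.span_le.mpr ?_) (Ideal.span_le.mpr ?_)
  · rintro _ ⟨i, rfl⟩
    refine mulVec_mem _ _ _ _ fun l => Ideal.mul_mem_left _ _ ?_
    show sb b (incl R n d (f l)) ∈ baseIdeal I f
    rw [sb_incl]
    exact f_mem l
  · rintro _ ⟨i, rfl⟩
    show sb b (eta q i) ∈ baseIdeal I f
    exact sb_eta_mem hD i

theorem incl_mem_bigComap {p : MvPolynomial (Fin (n + d)) R} (h : sb b p ∈ baseIdeal I f) :
    incl R (n + d) m p ∈ bigComap I f E b := by
  show phi b m (incl R (n + d) m p) ∈ bigIdeal E (baseIdeal I f)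
  rw [phi_incl]
  exact Ideal.mem_sup_left (Ideal.mem_map_of_mem _ h)

theorem map_C_le_bigComap : I.map MvPolynomial.C ≤ bigComap I f E b := by
  rw [Ideal.map_le_iff_le_comap]
  intro r hr
  show MvPolynomial.C r ∈ bigComap I f E b
  rw [show (MvPolynomial.C r : MvPolynomial (Fin (n + d + m)) R) = incl R (n + d) m (MvPolynomial.C r) from
    (rename_C _ _).symm]
  refine incl_mem_bigComap ?_
  rw [show sb b (MvPolynomial.C r) = MvPolynomial.C r from aeval_C _ _]
  exact Ideal.mem_sup_right (Ideal.mem_map_of_mem _ hr)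

theorem wVec_mem_bigComap (hD : IsData I f E q b) (i : Fin m) : wVec (eB E d) i ∈ bigComap I f E b := by
  show phi b m (wVec (eB E d) i) ∈ bigIdeal E (baseIdeal I f)
  have h1 : phi b m (wVec (eB E d) i) =
      wVec E i + ∑ l, incl R n m (E i l - sb b (eB E d i l)) * uVec l := by
    simp only [wVec, Pi.sub_apply, Matrix.mulVec, dotProduct, eMat, Matrix.map_apply, map_sub, map_sum, map_mul,
      phi_uVec, phi_incl, sub_mul, Finset.sum_sub_distrib]
    abel
  rw [h1]
  refine add_mem (Ideal.mem_sup_right (Ideal.subset_span ⟨i, rfl⟩)) (Ideal.sum_mem _ fun l _ => ?_)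
  refine Ideal.mul_mem_right _ _ (Ideal.mem_sup_left (Ideal.mem_map_of_mem _ ?_))
  rw [← neg_sub]
  exact (baseIdeal I f).neg_mem (sb_eB_sub_mem hD i l)

theorem bigIdeal_le_bigComap (hD : IsData I f E q b) :
    bigIdeal (eB E d) (liftIdeal f E q d) ≤ bigComap I f E b := by
  refine sup_le (Ideal.map_le_iff_le_comap.mpr fun p hp => incl_mem_bigComap (sb_liftIdeal hD hp)) ?_
  exact Ideal.span_le.mpr (Set.range_subset_iff.mpr (wVec_mem_bigComap hD))

theorem hVec_mem_bigIdeal (i : Fin m) :
    hVec (eB E d) (aB f d) i ∈ bigIdeal (eB E d) (liftIdeal f E q d) := by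
  have hw : ∀ j, wVec (eB E d) j ∈ bigIdeal (eB E d) (liftIdeal f E q d) := fun j =>
    Ideal.mem_sup_right (Ideal.subset_span ⟨j, rfl⟩)
  refine add_mem ?_ (sub_mem (hw i) (mulVec_mem _ _ _ _ fun j => Ideal.mul_mem_left _ _ (hw j)))
  have h1 : (eMat (eB E d)).mulVec (fun j => incl R (n + d) m (aB f d j)) i =
      incl R (n + d) m (((eB E d).mulVec (aB f d)) i) := by
    simp [eMat, Matrix.mulVec, dotProduct]
  rw [h1]
  exact Ideal.mem_sup_left (Ideal.mem_map_of_mem _ (Ideal.mem_sup_left (Ideal.subset_span ⟨i, rfl⟩)))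

theorem eMat_eB_sub_mem (hD : IsData I f E q b) (i k : Fin m) :
    (eMat (eB E d) - eMat (eB E d) * eMat (eB E d)) i k ∈
      Ideal.span (Set.range fun j => incl R (n + d) m (eta (d := d) q j)) := by
  rw [eMat, ← Matrix.map_mul, ← Matrix.map_sub _ (map_sub _), Matrix.map_apply]
  have := Ideal.mem_map_of_mem (incl R (n + d) m) (eB_sub_mem hD i k)
  rwa [Ideal.map_span, ← Set.range_comp] at this

theorem span_seq (hD : IsData I f E q b) :
    Ideal.span (Set.range (seq f E q d)) = bigIdeal (eB E d) (liftIdeal f E q d) := by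
  have hl : ∀ i, hVec (eB E d) (aB f d) i ∈ Ideal.span (Set.range (seq f E q d)) := fun i =>
    Ideal.subset_span ⟨Fin.castAdd d i, Fin.append_left _ _ i⟩
  have hr : ∀ j, incl R (n + d) m (eta q j) ∈ Ideal.span (Set.range (seq f E q d)) := fun j =>
    Ideal.subset_span ⟨Fin.natAdd m j, Fin.append_right _ _ j⟩
  refine le_antisymm (Ideal.span_le.mpr (Set.range_subset_iff.mpr fun t => ?_)) ?_
  · induction t using Fin.addCases with
    | left i => rw [seq, Fin.append_left]; exact hVec_mem_bigIdeal i
    | right j =>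
      rw [seq, Fin.append_right]
      exact Ideal.mem_sup_left (Ideal.mem_map_of_mem _ (Ideal.mem_sup_right (Ideal.subset_span ⟨j, rfl⟩)))
  · obtain ⟨h1, h2⟩ := mem_of_hVec_mem (eMat (eB E d)) (fun j => incl R (n + d) m (aB f d j)) uVec
      (wVec (eB E d)) (hVec (eB E d) (aB f d)) rfl rfl _ hl
      (fun i k => Ideal.span_le.mpr (Set.range_subset_iff.mpr hr) (eMat_eB_sub_mem hD i k))
    refine sup_le ?_ (Ideal.span_le.mpr (Set.range_subset_iff.mpr h2))
    rw [liftIdeal, Ideal.map_sup, Ideal.map_span, Ideal.map_span, ← Set.range_comp, ← Set.range_comp]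
    refine sup_le (Ideal.span_le.mpr (Set.range_subset_iff.mpr fun i => ?_))
      (Ideal.span_le.mpr (Set.range_subset_iff.mpr hr))
    convert h1 i using 1
    simp [eMat, Matrix.mulVec, dotProduct]

/-- The generators of the ideal of the reduction. -/
theorem bigComap_le {K : Ideal (MvPolynomial (Fin (n + d + m)) R)}
    (hD : IsData I f E q b) (hI : I.map MvPolynomial.C ≤ K)
    (hf : ∀ i, incl R (n + d) m (incl R n d (f i)) ∈ K) (hw : ∀ i, wVec (eB E d) i ∈ K)
    (hb : ∀ j : Fin d, incl R (n + d) m (uVec j) - incl R (n + d) m (incl R n d (b j)) ∈ K) :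
    bigComap I f E b ≤ K := by
  have hsub : ∀ p, p - jmap R n d m (phi b m p) ∈ K := by
    intro p
    rw [← Ideal.Quotient.eq]
    have : (Ideal.Quotient.mkₐ R K) = ((Ideal.Quotient.mkₐ R K).comp (jmap R n d m)).comp (phi b m) :=
      MvPolynomial.algHom_ext fun i => by
        show Ideal.Quotient.mk K (X i) = Ideal.Quotient.mk K (jmap R n d m (phi b m (X i)))
        induction i using Fin.addCases with
        | left i =>
          rw [show (X (Fin.castAdd m i) : MvPolynomial (Fin (n + d + m)) R) = incl R (n + d) m (X i) from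
            (rename_X _ _).symm, phi_incl, jmap_incl]
          induction i using Fin.addCases with
          | left i =>
            rw [show (X (Fin.castAdd d i) : MvPolynomial (Fin (n + d)) R) = incl R n d (X i) from
              (rename_X _ _).symm, sb_incl]
          | right j =>
            rw [show (X (Fin.natAdd n j) : MvPolynomial (Fin (n + d)) R) = uVec j from rfl, sb_uVec,
              Ideal.Quotient.eq]
            exact hb j
        | right j =>
          rw [show (X (Fin.natAdd (n + d) j) : MvPolynomial (Fin (n + d + m)) R) = uVec j from rfl, phi_uVec,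
            jmap_uVec]
    exact AlgHom.congr_fun this p
  have hJ : ∀ p ∈ baseIdeal I f, incl R (n + d) m (incl R n d p) ∈ K := by
    have : baseIdeal I f ≤ K.comap ((incl R (n + d) m).comp (incl R n d)).toRingHom := by
      refine sup_le (Ideal.span_le.mpr (Set.range_subset_iff.mpr hf)) (Ideal.map_le_iff_le_comap.mpr fun r hr => ?_)
      show incl R (n + d) m (incl R n d (MvPolynomial.C r)) ∈ K
      rw [show incl R n d (MvPolynomial.C r) = MvPolynomial.C r from rename_C _ _,
        show incl R (n + d) m (MvPolynomial.C r) = MvPolynomial.C r from rename_C _ _]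
      exact hI (Ideal.mem_map_of_mem _ hr)
    exact fun p hp => this hp
  have hK0 : ∀ p, sb b p ∈ baseIdeal I f → incl R (n + d) m p ∈ K := fun p hp => by
    have := hsub (incl R (n + d) m p)
    rw [phi_incl, jmap_incl] at this
    simpa using add_mem this (hJ _ hp)
  intro p hp
  have h1 : bigIdeal E (baseIdeal I f) ≤ K.comap (jmap R n d m).toRingHom := by
    refine sup_le (Ideal.map_le_iff_le_comap.mpr fun p hp => ?_) (Ideal.span_le.mpr ?_)
    · show jmap R n d m (incl R n m p) ∈ K
      rw [jmap_incl]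
      exact hJ p hp
    · rintro _ ⟨i, rfl⟩
      show jmap R n d m (wVec E i) ∈ K
      have h2 : jmap R n d m (wVec E i) = wVec (eB E d) i +
          ∑ l, incl R (n + d) m (eB E d i l - incl R n d (E i l)) * uVec l := by
        simp only [wVec, Pi.sub_apply, Matrix.mulVec, dotProduct, eMat, Matrix.map_apply, map_sub, map_sum, map_mul,
          jmap_uVec, jmap_incl, sub_mul, Finset.sum_sub_distrib]
        abel
      rw [h2]
      refine add_mem (hw i) (K.sum_mem fun l _ => K.mul_mem_right _ (hK0 _ ?_))
      rw [map_sub, sb_incl]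
      exact sb_eB_sub_mem hD i l
  simpa using add_mem (hsub p) (h1 hp)

theorem fg_map_bigComap (hD : IsData I f E q b)
    {H : Ideal (MvPolynomial (Fin (n + d + m)) R)} (hIH : I.map MvPolynomial.C ≤ H) :
    ((bigComap I f E b).map (Ideal.Quotient.mk H)).FG := by
  let G : Ideal (MvPolynomial (Fin (n + d + m)) R) :=
    Ideal.span (Set.range fun i => incl R (n + d) m (incl R n d (f i))) ⊔
      Ideal.span (Set.range (wVec (eB E d))) ⊔
      Ideal.span (Set.range fun j : Fin d => incl R (n + d) m (uVec j) - incl R (n + d) m (incl R n d (b j)))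
  have hG : G.FG := Submodule.FG.sup (Submodule.FG.sup (Submodule.fg_span (Set.finite_range _))
    (Submodule.fg_span (Set.finite_range _))) (Submodule.fg_span (Set.finite_range _))
  have heq : bigComap I f E b = G ⊔ I.map MvPolynomial.C := by
    refine le_antisymm (bigComap_le hD le_sup_right ?_ ?_ ?_) (sup_le ?_ map_C_le_bigComap)
    · exact fun i => Ideal.mem_sup_left (Ideal.mem_sup_left (Ideal.mem_sup_left (Ideal.subset_span ⟨i, rfl⟩)))
    · exact fun i => Ideal.mem_sup_left (Ideal.mem_sup_left (Ideal.mem_sup_right (Ideal.subset_span ⟨i, rfl⟩)))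
    · exact fun i => Ideal.mem_sup_left (Ideal.mem_sup_right (Ideal.subset_span ⟨i, rfl⟩))
    · refine sup_le (sup_le ?_ (Ideal.span_le.mpr (Set.range_subset_iff.mpr (wVec_mem_bigComap hD)))) ?_
      · refine Ideal.span_le.mpr (Set.range_subset_iff.mpr fun i => incl_mem_bigComap ?_)
        rw [sb_incl]
        exact f_mem i
      · refine Ideal.span_le.mpr (Set.range_subset_iff.mpr fun j => ?_)
        show _ ∈ bigComap I f E b
        rw [← map_sub]
        refine incl_mem_bigComap ?_
        rw [map_sub, sb_uVec, sb_incl, sub_self]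
        exact Ideal.zero_mem _
  rw [heq, Ideal.map_sup, Ideal.map_eq_bot_iff_le_ker _ |>.mpr (hIH.trans Ideal.mk_ker.ge), sup_bot_eq]
  exact hG.map _

theorem bigComap_le_sup_sq (hD : IsData I f E q b) :
    bigComap I f E b ≤ (bigIdeal (eB E d) (liftIdeal f E q d) ⊔ I.map MvPolynomial.C) ⊔
      bigComap I f E b * bigComap I f E b := by
  set L := (bigIdeal (eB E d) (liftIdeal f E q d) ⊔ I.map MvPolynomial.C) ⊔
    bigComap I f E b * bigComap I f E b
  have hsq : ∀ p r, p ∈ bigComap I f E b → r ∈ bigComap I f E b → p * r ∈ L := fun p r hp hr =>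
    Ideal.mem_sup_right (Ideal.mul_mem_mul hp hr)
  have hIL : I.map MvPolynomial.C ≤ L := le_sup_right.trans le_sup_left
  have hetaL : ∀ p ∈ Ideal.span (Set.range (eta (d := d) q)), incl R (n + d) m p ∈ L := fun p hp =>
    Ideal.mem_sup_left (Ideal.mem_sup_left (Ideal.mem_sup_left (Ideal.mem_map_of_mem _ (Ideal.mem_sup_right hp))))
  have heL : ∀ i k, (eMat (eB E d) - eMat (eB E d) * eMat (eB E d)) i k ∈ L := fun i k => by
    rw [eMat, ← Matrix.map_mul, ← Matrix.map_sub _ (map_sub _), Matrix.map_apply]
    exact hetaL _ (eB_sub_mem hD i k)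
  obtain ⟨hea, hw⟩ := mem_of_hVec_mem (eMat (eB E d)) (fun j => incl R (n + d) m (aB f d j)) uVec
    (wVec (eB E d)) (hVec (eB E d) (aB f d)) rfl rfl L
    (fun i => Ideal.mem_sup_left (Ideal.mem_sup_left (hVec_mem_bigIdeal i))) heL
  let ii := (incl R (n + d) m).comp (incl R n d)
  have hii : ∀ p ∈ baseIdeal I f, ii p ∈ bigComap I f E b := fun p hp => incl_mem_bigComap (show sb b (incl R n d p) ∈ baseIdeal I f by rwa [sb_incl])
  have hiiI : (I.map MvPolynomial.C : Ideal (MvPolynomial (Fin n) R)) ≤ L.comap ii.toRingHom :=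
    Ideal.map_le_iff_le_comap.mpr fun r hr => by
      show incl R (n + d) m (incl R n d (MvPolynomial.C r)) ∈ L
      rw [show incl R n d (MvPolynomial.C r) = MvPolynomial.C r from rename_C _ _,
        show incl R (n + d) m (MvPolynomial.C r) = MvPolynomial.C r from rename_C _ _]
      exact hIL (Ideal.mem_map_of_mem _ hr)
  have hf : ∀ i, ii (f i) ∈ L := by
    intro i
    have h0 : baseIdeal I f * baseIdeal I f ⊔ I.map MvPolynomial.C ≤ L.comap ii.toRingHom := by
      refine sup_le (Ideal.mul_le.mpr fun p hp r hr => ?_) hiiI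
      show ii (p * r) ∈ L
      rw [map_mul]
      exact hsq _ _ (hii p hp) (hii r hr)
    have h1 : ii (f i) = (eMat (eB E d)).mulVec (fun j => incl R (n + d) m (aB f d j)) i +
        (ii (f i - ∑ j, E i j * f j) +
          ∑ j, incl R (n + d) m (incl R n d (E i j) - eB E d i j) * ii (f j)) := by
      simp only [ii, AlgHom.comp_apply, eMat, aB, Matrix.mulVec, dotProduct, Matrix.map_apply, map_sub, map_sum,
        map_mul, sub_mul, Finset.sum_sub_distrib]
      abel
    rw [h1]
    refine add_mem (hea i) (add_mem (h0 (hD.hEf i)) (L.sum_mem fun j _ => hsq _ _ (incl_mem_bigComap ?_)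
      (hii _ (f_mem j))))
    rw [map_sub, sb_incl, ← neg_sub]
    exact (baseIdeal I f).neg_mem (sb_eB_sub_mem hD i j)
  have hJL : baseIdeal I f ≤ L.comap ii.toRingHom :=
    sup_le (Ideal.span_le.mpr (Set.range_subset_iff.mpr hf)) hiiI
  refine bigComap_le hD hIL hf hw fun j => ?_
  rw [← Ideal.Quotient.eq]
  rcases subsingleton_or_nontrivial (MvPolynomial (Fin (n + d + m)) R ⧸ L) with hs | hs
  · exact Subsingleton.elim _ _
  let ψ := (Ideal.Quotient.mk L).comp (incl R (n + d) m).toRingHom
  let Q := (qB d q).map ψ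
  have hQ : Q.Monic := (hD.monic.map _).map _
  have hQd : Q.degree = d := by
    rw [show Q = q.map (ψ.comp (incl R n d).toRingHom) from Polynomial.map_map _ _ _,
      Polynomial.degree_eq_natDegree (hD.monic.map _).ne_zero, hD.monic.natDegree_map, ← hD.natDegree]
  have hπ : (bPoly R n d).map ψ = polyOf fun t => ψ (uVec t) := map_polyOf _ _
  have hπ' : ((polyOf b).map (incl R n d).toRingHom).map ψ = polyOf fun t => ψ (incl R n d (b t)) := by
    rw [map_polyOf, map_polyOf]
    rfl
  have h1 : Q ∣ (polyOf fun t => ψ (uVec t)) ^ 2 - polyOf fun t => ψ (uVec t) := by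
    rw [← Polynomial.modByMonic_eq_zero_iff_dvd hQ, ← hπ, ← Polynomial.map_pow, ← Polynomial.map_sub,
      show Q = (qB d q).map ψ from rfl, ← Polynomial.map_modByMonic (q := qB d q) ψ (hD.monic.map _)]
    ext t
    rw [Polynomial.coeff_map, Polynomial.coeff_zero]
    exact Ideal.Quotient.eq_zero_iff_mem.mpr (hetaL _ (coeff_eta_mem hD t))
  have h2 : Q ∣ (polyOf fun t => ψ (incl R n d (b t))) ^ 2 - polyOf fun t => ψ (incl R n d (b t)) := by
    rw [← Polynomial.modByMonic_eq_zero_iff_dvd hQ, ← hπ', ← Polynomial.map_pow, ← Polynomial.map_sub,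
      show Q = (qB d q).map ψ from rfl, ← Polynomial.map_modByMonic (q := qB d q) ψ (hD.monic.map _),
      ← Polynomial.map_pow, ← Polynomial.map_sub,
      show qB d q = q.map (incl R n d).toRingHom from rfl,
      ← Polynomial.map_modByMonic (q := q) (incl R n d).toRingHom hD.monic]
    ext t
    rw [Polynomial.coeff_map, Polynomial.coeff_map, Polynomial.coeff_zero]
    exact Ideal.Quotient.eq_zero_iff_mem.mpr (hJL (coeff_modByMonic_mem _ hD.monic hD.dvd t))
  have hN : ∀ t, ∃ p ∈ bigComap I f E b, Ideal.Quotient.mk L p =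
      ((polyOf fun t => ψ (uVec t)) - polyOf fun t => ψ (incl R n d (b t))).coeff t := by
    intro t
    rw [← hπ, ← hπ', ← Polynomial.map_sub, Polynomial.coeff_map]
    refine ⟨_, incl_mem_bigComap ?_, rfl⟩
    rw [Polynomial.coeff_sub, map_sub, show bPoly R n d = polyOf uVec from rfl, map_polyOf]
    by_cases ht : t < d
    · rw [show t = ((⟨t, ht⟩ : Fin d) : ℕ) from rfl, coeff_polyOf, coeff_polyOf, sb_uVec]
      show b ⟨t, ht⟩ - sb b (incl R n d (b ⟨t, ht⟩)) ∈ _
      rw [sb_incl, sub_self]
      exact Ideal.zero_mem _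
    · have hdt : (d : WithBot ℕ) ≤ t := by exact_mod_cast not_lt.mp ht
      rw [Polynomial.coeff_eq_zero_of_degree_lt ((degree_polyOf_lt _).trans_le hdt),
        Polynomial.coeff_eq_zero_of_degree_lt ((degree_polyOf_lt _).trans_le hdt), map_zero, sub_zero]
      exact Ideal.zero_mem _
  have h3 := eq_of_idem hQ ((degree_polyOf_lt _).trans_eq hQd.symm) ((degree_polyOf_lt _).trans_eq hQd.symm) h1 h2
    (by
      ext t
      rw [Polynomial.coeff_mul, Polynomial.coeff_zero]
      refine Finset.sum_eq_zero fun x _ => ?_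
      obtain ⟨p, hp, hpe⟩ := hN x.1
      obtain ⟨r, hr, hre⟩ := hN x.2
      rw [← hpe, ← hre, ← map_mul]
      exact Ideal.Quotient.eq_zero_iff_mem.mpr (hsq p r hp hr))
  have h4 := congrArg (fun P => Polynomial.coeff P (j : ℕ)) h3
  simp only [coeff_polyOf] at h4
  exact h4

end SyntLift

end GrothLib.RelGCIReg
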