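import Groth.Agent.Lib.RelGCIReg.SyntLift
import Groth.Agent.Lib.RelGCIReg.Away

/-!
# Existence of syntomic lifts
-/

set_option autoImplicit false

universe u

open MvPolynomial

namespace GrothLib.RelGCIReg

open FreeCon SyntLift

variable {R : Type u} [CommRing R] {n m d : ℕ} (I : Ideal R)

/-- The reduction of the coefficients. -/
noncomputable def redCoeff (n : ℕ) : MvPolynomial (Fin n) R →ₐ[R] MvPolynomial (Fin n) (R ⧸ I) :=
  MvPolynomial.mapAlgHom (Ideal.Quotient.mkₐ R I)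

theorem redCoeff_surjective (n : ℕ) : Function.Surjective (redCoeff I n) :=
  MvPolynomial.map_surjective _ Ideal.Quotient.mk_surjective

theorem ker_redCoeff (n : ℕ) : RingHom.ker (redCoeff I n).toRingHom = I.map MvPolynomial.C :=
  (MvPolynomial.ker_map _).trans (congrArg (Ideal.map MvPolynomial.C) (Ideal.mk_ker (I := I)))

theorem redCoeff_incl (p : MvPolynomial (Fin n) R) :
    redCoeff I (n + m) (incl R n m p) = incl (R ⧸ I) n m (redCoeff I n p) :=
  map_rename _ _ _

theorem map_C_le_comap_redCoeff (K : Ideal (MvPolynomial (Fin n) (R ⧸ I))) :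
    I.map MvPolynomial.C ≤ K.comap (redCoeff I n).toRingHom :=
  (ker_redCoeff I n).ge.trans (Ideal.comap_mono bot_le)

theorem comap_baseIdeal (f : Fin m → MvPolynomial (Fin n) R) :
    (Ideal.span (Set.range fun i => redCoeff I n (f i))).comap (redCoeff I n).toRingHom = baseIdeal I f := by
  rw [show Ideal.span (Set.range fun i => redCoeff I n (f i)) =
    (Ideal.span (Set.range f)).map (redCoeff I n).toRingHom by rw [Ideal.map_span, ← Set.range_comp]; rfl,
    Ideal.comap_map_of_surjective' (redCoeff I n).toRingHom (redCoeff_surjective I n), ker_redCoeff]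
  rfl

theorem comap_bigIdeal (f : Fin m → MvPolynomial (Fin n) R)
    (E : Matrix (Fin m) (Fin m) (MvPolynomial (Fin n) R)) :
    (bigIdeal (E.map (redCoeff I n)) ((baseIdeal I f).map (redCoeff I n).toRingHom)).comap
      (redCoeff I (n + m)).toRingHom = bigIdeal E (baseIdeal I f) := by
  have hw : ∀ i, redCoeff I (n + m) (wVec E i) = wVec (E.map (redCoeff I n)) i := fun i => by
    simp only [wVec, Pi.sub_apply, Matrix.mulVec, dotProduct, eMat, Matrix.map_apply, map_sub, map_sum, map_mul,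
      redCoeff_incl]
    simp [redCoeff, uVec]
  have h1 : (bigIdeal E (baseIdeal I f)).map (redCoeff I (n + m)).toRingHom =
      bigIdeal (E.map (redCoeff I n)) ((baseIdeal I f).map (redCoeff I n).toRingHom) := by
    rw [bigIdeal, bigIdeal, Ideal.map_sup, Ideal.map_span, ← Set.range_comp]
    congr 1
    · rw [← Ideal.map_coe (incl R n m), Ideal.map_map, ← Ideal.map_coe (incl (R ⧸ I) n m), Ideal.map_map]
      exact congrArg (fun φ => Ideal.map φ (baseIdeal I f)) (RingHom.ext fun p => redCoeff_incl I p)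
    · exact congrArg Ideal.span (congrArg Set.range (funext hw))
  rw [← h1, Ideal.comap_map_of_surjective' (redCoeff I (n + m)).toRingHom (redCoeff_surjective I (n + m)), ker_redCoeff, sup_eq_left]
  refine le_trans ?_ le_sup_left
  rw [Ideal.map_le_iff_le_comap]
  intro r hr
  show MvPolynomial.C r ∈ (baseIdeal I f).map (incl R n m)
  rw [show (MvPolynomial.C r : MvPolynomial (Fin (n + m)) R) = incl R n m (MvPolynomial.C r) from
    (rename_C _ _).symm]
  exact Ideal.mem_map_of_mem _ (Ideal.mem_sup_right (Ideal.mem_map_of_mem _ hr))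

/-- Syntomic algebras lift along surjections of the base. -/
theorem exists_syntomic_lift {A₀ : Type u} [CommRing A₀] [Algebra (R ⧸ I) A₀]
    (h : Synt.IsSyntomic (R ⧸ I) A₀) :
    ∃ (A : Type u) (_ : CommRing A) (_ : Algebra R A), Synt.IsSyntomic R A ∧
      Nonempty ((A ⧸ I.map (algebraMap R A)) ≃ₐ[R ⧸ I] A₀) := by
  classical
  letI : Algebra R A₀ := Algebra.compHom A₀ (Ideal.Quotient.mk I)
  haveI : IsScalarTower R (R ⧸ I) A₀ := IsScalarTower.of_algebraMap_eq fun _ => rfl
  haveI := h.2.1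
  obtain ⟨n, α, hα, hker⟩ := Algebra.FinitePresentation.out (R := R ⧸ I) (A := A₀)
  obtain ⟨J₀, hJ₀⟩ : ∃ J : Ideal (MvPolynomial (Fin n) (R ⧸ I)), J = RingHom.ker α.toRingHom := ⟨_, rfl⟩
  have hfg₀ : J₀.FG := hJ₀ ▸ hker
  have hsyn₀ : Synt.IsSyntomic (R ⧸ I) (MvPolynomial (Fin n) (R ⧸ I) ⧸ J₀) :=
    isSyntomic_of_algEquiv ((Ideal.quotientEquivAlgOfEq (R ⧸ I) hJ₀).trans
      (Ideal.quotientKerAlgEquivOfSurjective hα)).symm h
  obtain ⟨m, f₀, E₀, φ, hf₀, hEf₀, hφ, hE₀⟩ := exists_projector J₀ hfg₀ hsyn₀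
  obtain ⟨g₀, hg₀, ⟨eC⟩⟩ := exists_relGCI_bigIdeal J₀ hfg₀ hsyn₀ f₀ E₀ φ hf₀ hEf₀ hφ hE₀
  choose f hf using fun i => redCoeff_surjective I n (f₀ i)
  choose E hE using fun i k => redCoeff_surjective I n (E₀ i k)
  obtain rfl : f₀ = fun i => redCoeff I n (f i) := funext fun i => (hf i).symm
  obtain rfl : E₀ = Matrix.map (Matrix.of E) (redCoeff I n) := Matrix.ext fun i k => (hE i k).symm
  set E' : Matrix (Fin m) (Fin m) (MvPolynomial (Fin n) R) := Matrix.of E
  have hbase : baseIdeal I f = J₀.comap (redCoeff I n).toRingHom := by rw [← comap_baseIdeal, hf₀]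
  have hJmap : (baseIdeal I f).map (redCoeff I n).toRingHom = J₀ := by
    rw [hbase, Ideal.map_comap_of_surjective (redCoeff I n).toRingHom (redCoeff_surjective I n)]
  have hE' : ∀ i k, E' i k - (E' * E') i k ∈ baseIdeal I f := fun i k => by
    rw [hbase]
    show redCoeff I n (E' i k - (E' * E') i k) ∈ J₀
    simpa [Matrix.mul_apply] using hE₀ i k
  obtain ⟨d, q, b, hq, hd, -, hq0, hdvd, heval⟩ := exists_idem_data (baseIdeal I f) E' hE'
  have hD : IsData I f E' q b := by
    refine ⟨hE', fun i => ?_, hq, hd, hq0, hdvd, heval⟩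
    have h1 : redCoeff I n (f i - ∑ j, E' i j * f j) ∈
        (baseIdeal I f * baseIdeal I f).map (redCoeff I n).toRingHom := by
      rw [Ideal.map_mul, hJmap]
      simpa using hEf₀ i
    have h2 : f i - ∑ j, E' i j * f j ∈
        ((baseIdeal I f * baseIdeal I f).map (redCoeff I n).toRingHom).comap (redCoeff I n).toRingHom := h1
    rwa [Ideal.comap_map_of_surjective' (redCoeff I n).toRingHom (redCoeff_surjective I n), ker_redCoeff] at h2
  let Pb := MvPolynomial (Fin (n + d)) R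
  let PB := MvPolynomial (Fin (n + d + m)) R
  let C₀ := MvPolynomial (Fin (n + m)) (R ⧸ I) ⧸ bigIdeal (E'.map (redCoeff I n)) J₀
  let χC : PB →ₐ[R] C₀ :=
    ((Ideal.Quotient.mkₐ (R ⧸ I) _).restrictScalars R).comp ((redCoeff I (n + m)).comp (phi b m))
  have hχC : Function.Surjective χC := fun y => by
    obtain ⟨p₀, rfl⟩ := Ideal.Quotient.mk_surjective y
    obtain ⟨p, rfl⟩ := redCoeff_surjective I (n + m) p₀
    refine ⟨jmap R n d m p, ?_⟩
    show Ideal.Quotient.mk _ (redCoeff I (n + m) (phi b m (jmap R n d m p))) = _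
    rw [phi_jmap]
  have hkC : ∀ p, χC p = 0 ↔ p ∈ bigComap I f E' b := fun p => by
    show Ideal.Quotient.mk _ (redCoeff I (n + m) (phi b m p)) = 0 ↔ phi b m p ∈ bigIdeal E' (baseIdeal I f)
    rw [Ideal.Quotient.eq_zero_iff_mem, ← comap_bigIdeal I f E', hJmap]
    rfl
  let H : Ideal PB := bigIdeal (eB E' d) (liftIdeal f E' q d) ⊔ I.map MvPolynomial.C
  have hH : H ≤ bigComap I f E' b := sup_le (bigIdeal_le_bigComap hD) map_C_le_bigComap
  obtain ⟨g, hg1, hgJ⟩ := exists_mul_mem_of_le_sup_sq H (bigComap I f E' b) hH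
    (fg_map_bigComap hD le_sup_right) (bigComap_le_sup_sq hD)
  obtain ⟨ι, ρ, hι, hρι, hιmk, hρu⟩ :=
    smooth_bigIdeal (liftIdeal f E' q d) liftIdeal_fg (eB E' d) (eB_mem_liftIdeal hD)
  have hρmk : ∀ p, ρ (Ideal.Quotient.mk _ p) =
      Ideal.Quotient.mk (liftIdeal f E' q d) (zeroU R (n + d) m p) := by
    have : ρ.comp (Ideal.Quotient.mkₐ R _) =
        (Ideal.Quotient.mkₐ R (liftIdeal f E' q d)).comp (zeroU R (n + d) m) := MvPolynomial.algHom_ext fun i => by
      show ρ (Ideal.Quotient.mk _ (X i)) = Ideal.Quotient.mk _ (zeroU R (n + d) m (X i))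
      induction i using Fin.addCases with
      | left i =>
        rw [show (X (Fin.castAdd m i) : PB) = incl R (n + d) m (X i) from (rename_X _ _).symm, zeroU_incl,
          ← hιmk, hρι]
      | right j =>
        rw [show (X (Fin.natAdd (n + d) j) : PB) = uVec j from rfl, hρu, zeroU_uVec, map_zero]
    exact fun p => AlgHom.congr_fun this p
  -- the symmetrised element
  let G : PB := g * incl R (n + d) m (zeroU R (n + d) m g)
  have hsbz : sb b (zeroU R (n + d) m g) - 1 ∈ baseIdeal I f := by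
    have h1 : phi b m (g - 1) ∈ bigIdeal E' (baseIdeal I f) := hg1
    have h2 : bigIdeal E' (baseIdeal I f) ≤ (baseIdeal I f).comap (zeroU R n m).toRingHom := by
      refine sup_le (Ideal.map_le_iff_le_comap.mpr fun p hp => ?_) (Ideal.span_le.mpr ?_)
      · show zeroU R n m (incl R n m p) ∈ baseIdeal I f
        rwa [zeroU_incl]
      · rintro _ ⟨i, rfl⟩
        show zeroU R n m (wVec E' i) ∈ baseIdeal I f
        simp [wVec, Matrix.mulVec, dotProduct, zeroU_uVec]
    have h3 : zeroU R n m (phi b m (g - 1)) ∈ baseIdeal I f := h2 h1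
    rwa [map_sub, map_one, map_sub, map_one, ← sb_zeroU] at h3
  have hχg : χC g = 1 := by
    rw [← sub_eq_zero, ← map_one χC, ← map_sub]
    exact (hkC _).mpr hg1
  have hχG : χC G = 1 := by
    have h1 : χC (incl R (n + d) m (zeroU R (n + d) m g)) = 1 := by
      rw [← sub_eq_zero, ← map_one χC, ← map_sub]
      refine (hkC _).mpr ?_
      rw [← map_one (incl R (n + d) m), ← map_sub]
      exact incl_mem_bigComap (by rw [map_sub, map_one]; exact hsbz)
    rw [show G = g * _ from rfl, map_mul, hχg, h1, one_mul]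
  -- the total space
  let D0 := PB ⧸ bigIdeal (eB E' d) (liftIdeal f E' q d)
  have hID0 : ∀ p ∈ H, Ideal.Quotient.mk (bigIdeal (eB E' d) (liftIdeal f E' q d)) p ∈
      I.map (algebraMap R D0) := fun p hp => by
    have := Ideal.mem_map_of_mem (Ideal.Quotient.mk (bigIdeal (eB E' d) (liftIdeal f E' q d))) hp
    rw [Ideal.map_sup, Ideal.map_quotient_self, bot_sup_eq, Ideal.map_map] at this
    exact this
  let χD : D0 →ₐ[R] C₀ := Ideal.Quotient.liftₐ _ χC fun p hp => (hkC p).mpr (hH (Ideal.mem_sup_left hp))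
  let gb : D0 := Ideal.Quotient.mk _ g
  have hgb : gb * ι (ρ gb) = Ideal.Quotient.mk _ G := by
    rw [show ρ gb = _ from hρmk g, hιmk, ← map_mul]
  obtain ⟨ι₁, ρ₁, hι₁, hρι₁, hρ₁⟩ := exists_retract_away ι ρ hι hρι gb
  obtain ⟨χ₁, hχ₁s, hχ₁, hkχ₁⟩ := exists_quot_away (R := R) I χD
    (fun y => by obtain ⟨p, hp⟩ := hχC y; exact ⟨Ideal.Quotient.mk _ p, hp⟩)
    (Ideal.map_le_iff_le_comap.mpr fun r hr => by
      show χD (algebraMap R D0 r) = 0
      rw [AlgHom.commutes, IsScalarTower.algebraMap_apply R (R ⧸ I) C₀,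
        show algebraMap R (R ⧸ I) r = 0 from Ideal.Quotient.eq_zero_iff_mem.mpr hr, map_zero])
    (gb * ι (ρ gb)) (by rw [hgb]; exact hχG) (fun p hp => by
      obtain ⟨p, rfl⟩ := Ideal.Quotient.mk_surjective p
      rw [hgb, ← map_mul]
      refine hID0 _ ?_
      rw [show G * p = incl R (n + d) m (zeroU R (n + d) m g) * (g * p) by simp only [G]; ring]
      exact Ideal.mul_mem_left _ _ (hgJ p ((hkC p).mp hp)))
  obtain ⟨e₁⟩ := nonempty_awayEquiv (seq f E' q d) G
  have e₁' : Nonempty (Localization.Away (gb * ι (ρ gb)) ≃ₐ[R]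
      Synt.RelGCIRing R (n + d + m + 1) (m + d + 1) (snocSeq (seq f E' q d) G)) := by
    let eq₀ : (PB ⧸ Ideal.span (Set.range (seq f E' q d))) ≃ₐ[R] D0 :=
      Ideal.quotientEquivAlgOfEq R (span_seq hD)
    have H' : (Submonoid.powers (Ideal.Quotient.mk (Ideal.span (Set.range (seq f E' q d))) G)).map
        (eq₀ : (PB ⧸ Ideal.span (Set.range (seq f E' q d))) →* D0) = Submonoid.powers (gb * ι (ρ gb)) := by
      rw [Submonoid.map_powers, hgb]
      rfl
    exact ⟨(IsLocalization.algEquivOfAlgEquiv (Localization.Away _) (Localization.Away _) eq₀ H').symm.trans e₁⟩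
  obtain ⟨e₁'⟩ := e₁'
  let χF := χ₁.comp e₁'.symm.toAlgHom
  have hχFs : Function.Surjective χF := fun y => by
    obtain ⟨x, rfl⟩ := hχ₁s y
    exact ⟨e₁' x, congrArg χ₁ (e₁'.symm_apply_apply x)⟩
  have hkF : RingHom.ker χF.toRingHom = I.map (algebraMap R _) := by
    have h1 : RingHom.ker χF.toRingHom = (RingHom.ker χ₁.toRingHom).comap e₁'.symm.toRingEquiv := rfl
    rw [h1, hkχ₁, ← Ideal.map_symm, ← Ideal.map_coe, Ideal.map_map]
    exact congrArg (fun φ => Ideal.map φ I) (RingHom.ext fun r => e₁'.commutes r)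
  obtain ⟨eF⟩ := nonempty_relGCIRing_quot I (snocSeq (seq f E' q d) G) χF hχFs hkF
  have hrel : Synt.IsRelGCI (R ⧸ I) (n + d + m + 1) (m + d + 1)
      (fun i => MvPolynomial.map (Ideal.Quotient.mk I) (snocSeq (seq f E' q d) G i)) :=
    isRelGCI_of_algEquiv hg₀ (by omega) (by omega) (eC.symm.trans eF.symm)
  obtain ⟨h', hh', hrel'⟩ := exists_away_of_ideal (snocSeq (seq f E' q d) G) I hrel
  obtain ⟨e₂⟩ := nonempty_awayEquiv (snocSeq (seq f E' q d) G) h'
  let z : Localization.Away (gb * ι (ρ gb)) := e₁'.symm (Ideal.Quotient.mk _ h')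
  have hz : Synt.IsSyntomic R (Localization.Away z) := by
    refine isSyntomic_away_of_algEquiv e₁' z ?_
    rw [show e₁' z = Ideal.Quotient.mk _ h' from e₁'.apply_symm_apply _]
    exact isSyntomic_of_algEquiv e₂.symm (isSyntomic _ hrel')
  have hz1 : z - 1 ∈ I.map (algebraMap R (Localization.Away (gb * ι (ρ gb)))) := by
    rw [← hkχ₁]
    show χ₁ (z - 1) = 0
    have h1 : Ideal.Quotient.mk (Ideal.span (Set.range (snocSeq (seq f E' q d) G))) h' - 1 ∈
        RingHom.ker χF.toRingHom := by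
      rw [hkF, ← Ideal.Quotient.eq_zero_iff_mem, map_sub, map_one, hh', sub_self]
    have h2 : χF (Ideal.Quotient.mk _ h' - 1) = 0 := h1
    rw [map_sub, map_one] at h2 ⊢
    exact h2
  obtain ⟨ι₂, ρ₂, hι₂, hρι₂, -⟩ := exists_retract_away ι₁ ρ₁ hι₁ hρι₁ z
  have hA : Synt.IsSyntomic R (Localization.Away (ρ₁ z)) :=
    isSyntomic_of_retract ι₂ ρ₂ hι₂ hρι₂ (isSyntomic_away_mul z _ hz)
  -- the reduction
  let A0 := Pb ⧸ liftIdeal f E' q d
  let αA : Pb →ₐ[R] A₀ := ((α.restrictScalars R).comp (redCoeff I n)).comp (sb b)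
  have hkA : ∀ p, αA p = 0 ↔ sb b p ∈ baseIdeal I f := fun p => by
    show α (redCoeff I n (sb b p)) = 0 ↔ _
    rw [hbase, hJ₀]
    rfl
  let χA : A0 →ₐ[R] A₀ := Ideal.Quotient.liftₐ _ αA fun p hp => (hkA p).mpr (sb_liftIdeal hD hp)
  have hχA : Function.Surjective χA := fun y => by
    obtain ⟨p₀, rfl⟩ := hα y
    obtain ⟨p, rfl⟩ := redCoeff_surjective I n p₀
    refine ⟨Ideal.Quotient.mk _ (incl R n d p), ?_⟩
    show α (redCoeff I n (sb b (incl R n d p))) = _
    rw [sb_incl]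
  have hkill : ∀ {S : Type u} [CommRing S] [Algebra R S] (χ : S →ₐ[R] A₀),
      I.map (algebraMap R S) ≤ RingHom.ker χ.toRingHom := fun χ =>
    Ideal.map_le_iff_le_comap.mpr fun r hr => by
      show χ (algebraMap R _ r) = 0
      rw [AlgHom.commutes, IsScalarTower.algebraMap_apply R (R ⧸ I) A₀,
        show algebraMap R (R ⧸ I) r = 0 from Ideal.Quotient.eq_zero_iff_mem.mpr hr, map_zero]
  have hρI : ∀ x ∈ I.map (algebraMap R D0), ρ x ∈ I.map (algebraMap R A0) := fun x hx => by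
    have := Ideal.mem_map_of_mem ρ.toRingHom hx
    rw [Ideal.map_map, show ρ.toRingHom.comp (algebraMap R D0) = algebraMap R A0 from RingHom.ext ρ.commutes] at this
    exact this
  obtain ⟨χA₁, hχA₁s, hχA₁, hkA₁⟩ := exists_quot_away (R := R) I χA hχA (hkill χA) (ρ gb) (by
      show χA (ρ (Ideal.Quotient.mk _ g)) = 1
      rw [hρmk]
      show αA (zeroU R (n + d) m g) = 1
      rw [← sub_eq_zero, ← map_one αA, ← map_sub]
      exact (hkA _).mpr (by rw [map_sub, map_one]; exact hsbz))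
    (fun p hp => by
      obtain ⟨p, rfl⟩ := Ideal.Quotient.mk_surjective p
      have h1 : gb * ι (Ideal.Quotient.mk _ p) ∈ I.map (algebraMap R D0) := by
        rw [hιmk, ← map_mul]
        exact hID0 _ (hgJ _ (incl_mem_bigComap ((hkA p).mp hp)))
      have h2 := hρI _ h1
      rwa [map_mul, hρι] at h2)
  obtain ⟨χA₂, hχA₂s, -, hkA₂⟩ := exists_quot_away (R := R) I χA₁ hχA₁s hkA₁.ge (ρ₁ z) (by
      rw [← sub_eq_zero, ← map_one χA₁, ← map_sub]
      show ρ₁ z - 1 ∈ RingHom.ker χA₁.toRingHom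
      rw [hkA₁]
      have := Ideal.mem_map_of_mem ρ₁.toRingHom hz1
      rw [Ideal.map_map, show ρ₁.toRingHom.comp (algebraMap R (Localization.Away (gb * ι (ρ gb)))) =
        algebraMap R (Localization.Away (ρ gb)) from RingHom.ext ρ₁.commutes] at this
      simpa using this)
    (fun p hp => Ideal.mul_mem_left _ _ (hkA₁.le hp))
  refine ⟨Localization.Away (ρ₁ z), inferInstance, inferInstance, hA, ⟨?_⟩⟩
  exact AlgEquiv.extendScalarsOfSurjective (R := R) Ideal.Quotient.mk_surjective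
    ((Ideal.quotientEquivAlgOfEq R hkA₂.symm).trans (Ideal.quotientKerAlgEquivOfSurjective hχA₂s))

end GrothLib.RelGCIReg
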